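import Mathlib.LinearAlgebra.FiniteDimensional.Lemmas
import Mathlib.LinearAlgebra.FreeModule.Finite.Matrix
import Mathlib.LinearAlgebra.Dimension.Constructions
import Mathlib.LinearAlgebra.Basis.VectorSpace
import Mathlib.Algebra.CharP.Basic
import Mathlib.Algebra.CharP.Lemmas
import Mathlib.RingTheory.Polynomial.Basic
import Mathlib.Tactic.Linarith

/-!
Lower bound for the commutant of a nilpotent endomorphism: `(dim V)² ≤ e · dim C(N)` when `N ^ e = 0`;
in characteristic `p` it applies to `T - 1` when the sum of the powers `T ^ i`, `i < p ^ l`, vanishes.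
-/

set_option autoImplicit false
set_option linter.style.haveILetI false

namespace Cfsg.Agent.H71

variable {k : Type*} [Field k]

/-- The commutant of an endomorphism. -/
def commutant {V : Type*} [AddCommGroup V] [Module k V] (N : Module.End k V) :
    Submodule k (Module.End k V) :=
  LinearMap.ker (LinearMap.mulLeft k N - LinearMap.mulRight k N)

theorem mem_commutant {V : Type*} [AddCommGroup V] [Module k V] {N f : Module.End k V} :
    f ∈ commutant N ↔ Commute N f := by
  simp [commutant, Commute, SemiconjBy, sub_eq_zero]

theorem sq_finrank_le_commutant_aux : ∀ (e : ℕ) {V : Type*} [AddCommGroup V] [Module k V]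
    [FiniteDimensional k V] (N : Module.End k V), N ^ e = 0 →
    Module.finrank k V * Module.finrank k V ≤ e * Module.finrank k (commutant N) := by
  intro e
  induction e with
  | zero =>
    intro V _ _ _ N h
    rw [pow_zero] at h
    haveI : Subsingleton V := ⟨fun a b => by
      have ha := congrArg (fun f : Module.End k V => f (a - b)) h
      exact sub_eq_zero.mp ha⟩
    simp [Module.finrank_zero_of_subsingleton]
  | succ e ih =>
    intro V _ _ _ N h
    let W := LinearMap.range N
    have hW : ∀ v ∈ W, N v ∈ W := fun v _ => LinearMap.mem_range_self N v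
    let N' : Module.End k W := N.restrict hW
    have hpow : ∀ (j : ℕ) (w : W), (((N' ^ j) w : W) : V) = (N ^ j) w := by
      intro j
      induction j with
      | zero => intro w; rfl
      | succ j ihj => intro w; rw [pow_succ', pow_succ', Module.End.mul_apply, Module.End.mul_apply, ← ihj]; rfl
    have h' : N' ^ e = 0 := LinearMap.ext fun w => Subtype.ext (by
      obtain ⟨v, hv⟩ := w.2
      rw [hpow, ← hv, ← Module.End.mul_apply, ← pow_succ, h]; rfl)
    have hr := ih N' h'
    obtain ⟨π, hπ⟩ := W.subtype.exists_leftInverse_of_injective W.ker_subtype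
    obtain ⟨σ, hσ⟩ := N.rangeRestrict.exists_rightInverse_of_surjective N.range_rangeRestrict
    have hmemC : ∀ f : commutant N, ∀ v ∈ W, (f : Module.End k V) v ∈ W := by
      rintro f _ ⟨u, rfl⟩
      exact ⟨(f : Module.End k V) u, congrArg (fun g : Module.End k V => g u) (mem_commutant.mp f.2).eq⟩
    let res : commutant N →ₗ[k] commutant N' :=
      { toFun := fun f => ⟨(f : Module.End k V).restrict (hmemC f), mem_commutant.mpr (LinearMap.ext fun w =>
          Subtype.ext (congrArg (fun g : Module.End k V => g w) (mem_commutant.mp f.2).eq))⟩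
        map_add' := fun f g => rfl
        map_smul' := fun c f => rfl }
    have hsurj : Function.Surjective res := by
      intro g
      let f : Module.End k V := W.subtype ∘ₗ (g : Module.End k W) ∘ₗ π +
        σ ∘ₗ (g : Module.End k W) ∘ₗ N.rangeRestrict ∘ₗ (1 - W.subtype ∘ₗ π)
      have hNσ : ∀ w : W, N (σ w) = w := fun w =>
        congrArg Subtype.val (congrArg (fun F : W →ₗ[k] W => F w) hσ)
      have hgN : ∀ w : W, N ((g : Module.End k W) w : V) = ((g : Module.End k W) ⟨N w, hW _ w.2⟩ : W) := fun w =>
        congrArg Subtype.val (congrArg (fun F : Module.End k W => F w) (mem_commutant.mp g.2).eq)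
      have hfW : ∀ w : W, f w = ((g : Module.End k W) w : V) := fun w => by
        have hw : π (w : V) = w := congrArg (fun F : W →ₗ[k] W => F w) hπ
        have h0 : N.rangeRestrict ((1 - W.subtype ∘ₗ π : Module.End k V) w) = 0 := Subtype.ext (by simp [hw])
        show (((g : Module.End k W) (π (w : V)) : W) : V) +
          σ ((g : Module.End k W) (N.rangeRestrict ((1 - W.subtype ∘ₗ π : Module.End k V) w))) = _
        rw [h0, map_zero, map_zero, add_zero, hw]
      have hfc : f ∈ commutant N := mem_commutant.mpr (LinearMap.ext fun v => by
        show N (f v) = f (N v)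
        rw [show f (N v) = _ from hfW ⟨N v, LinearMap.mem_range_self N v⟩]
        simp only [f, LinearMap.add_apply, LinearMap.comp_apply, Submodule.subtype_apply, map_add, hNσ, hgN]
        rw [← Submodule.coe_add, ← map_add]
        congr 2
        exact Subtype.ext (by simp))
      exact ⟨⟨f, hfc⟩, Subtype.ext (LinearMap.ext fun w => Subtype.ext (hfW w))⟩
    have hker : Module.finrank k (LinearMap.ker N) * Module.finrank k (LinearMap.ker N) ≤
        Module.finrank k (LinearMap.ker res) := by
      have hq : Module.finrank k (V ⧸ W) = Module.finrank k (LinearMap.ker N) := by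
        have h1 := W.finrank_quotient_add_finrank
        have h2 : Module.finrank k W + Module.finrank k (LinearMap.ker N) = Module.finrank k V :=
          N.finrank_range_add_finrank_ker
        omega
      conv_lhs => arg 1; rw [← hq]
      rw [← Module.finrank_linearMap k k]
      have hmap : ∀ t : (V ⧸ W) →ₗ[k] LinearMap.ker N,
          (LinearMap.ker N).subtype ∘ₗ t ∘ₗ W.mkQ ∈ commutant N := fun t =>
        mem_commutant.mpr (LinearMap.ext fun v => by
          have hz : W.mkQ (N v) = 0 := (Submodule.Quotient.mk_eq_zero W).mpr (LinearMap.mem_range_self N v)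
          show N ((t (W.mkQ v) : LinearMap.ker N) : V) = ((t (W.mkQ (N v)) : LinearMap.ker N) : V)
          rw [hz, map_zero, Submodule.coe_zero]
          exact (t (W.mkQ v)).2)
      let Φ : ((V ⧸ W) →ₗ[k] LinearMap.ker N) →ₗ[k] commutant N :=
        { toFun := fun t => ⟨_, hmap t⟩
          map_add' := fun s t => rfl
          map_smul' := fun c t => rfl }
      refine LinearMap.finrank_le_finrank_of_injective (f := Φ.codRestrict (LinearMap.ker res) ?_) ?_
      · intro t
        refine LinearMap.mem_ker.mpr (Subtype.ext (LinearMap.ext fun w => Subtype.ext ?_))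
        show ((t (W.mkQ w) : LinearMap.ker N) : V) = 0
        rw [show W.mkQ (w : V) = 0 from (Submodule.Quotient.mk_eq_zero W).mpr w.2, map_zero, Submodule.coe_zero]
      · intro s t hst
        refine LinearMap.ext fun x => ?_
        obtain ⟨v, rfl⟩ := W.mkQ_surjective x
        have h1 : Φ s = Φ t := congrArg Subtype.val hst
        exact Subtype.ext (congrArg (fun f : Module.End k V => f v) (congrArg Subtype.val h1))
    have h1 : Module.finrank k W + Module.finrank k (LinearMap.ker N) = Module.finrank k V :=
      N.finrank_range_add_finrank_ker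
    have h2 := LinearMap.finrank_range_add_finrank_ker (K := k) (V := commutant N) (V₂ := commutant N') res
    rw [LinearMap.range_eq_top.mpr hsurj, finrank_top] at h2
    rw [← h1, ← h2]
    generalize Module.finrank k W = r at hr ⊢
    generalize Module.finrank k (LinearMap.ker N) = a at hker ⊢
    generalize Module.finrank k (LinearMap.ker res) = d at hker ⊢
    generalize Module.finrank k (commutant N') = c at hr ⊢
    rcases Nat.eq_zero_or_pos e with rfl | he
    · have : r = 0 := by nlinarith
      subst this
      nlinarith
    · have key : 2 * r * a ≤ c + e * (a * a) := by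
        refine Nat.le_of_mul_le_mul_left ?_ he
        nlinarith [two_mul_le_add_sq r (e * a)]
      nlinarith [Nat.mul_le_mul_left e hker]

variable {V : Type*} [AddCommGroup V] [Module k V] [FiniteDimensional k V]

/-- Lower bound for the commutant of a unipotent element of low degree. -/
theorem sq_le_commutant_of_sum_eq_zero {p : ℕ} [hp : Fact p.Prime] (hpk : (p : k) = 0) (l : ℕ)
    (T : Module.End k V) (hsum : ∑ i ∈ Finset.range (p ^ l), T ^ i = 0)
    (F : Submodule k (Module.End k V)) (hF : ∀ f, Commute T f → f ∈ F) :
    Module.finrank k V * Module.finrank k V ≤ (p ^ l - 1) * Module.finrank k F := by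
  haveI : CharP k p := (CharP.charP_iff_prime_eq_zero hp.out).mpr hpk
  haveI : CharP (Polynomial k) p := inferInstance
  have hpoly : ((Polynomial.X : Polynomial k) - 1) ^ (p ^ l - 1) =
      ∑ i ∈ Finset.range (p ^ l), Polynomial.X ^ i := by
    refine mul_right_cancel₀ (b := (Polynomial.X : Polynomial k) - 1) (Polynomial.X_sub_C_ne_zero 1) ?_
    rw [geom_sum_mul, ← pow_succ, Nat.sub_add_cancel (Nat.one_le_pow _ _ hp.out.pos), sub_pow_char_pow, one_pow]
  have hN : (T - 1) ^ (p ^ l - 1) = 0 := by
    have := congrArg (Polynomial.aeval T) hpoly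
    simpa [hsum] using this
  refine (sq_finrank_le_commutant_aux _ _ hN).trans (Nat.mul_le_mul_left _ (Submodule.finrank_mono fun f hf => hF f ?_))
  have h := (mem_commutant.mp hf).add_left (Commute.one_left f)
  rwa [sub_add_cancel] at h

end Cfsg.Agent.H71
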