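import Cfsg.Agent.H71.ClassTwoComponent

/-!
In the exceptional case of Hall–Higman Theorem B the powers `x ^ p ^ n` of elements `x` with
`∑ i < p ^ (n + 1), x ^ i = 0` commute on every 2-group of class two; they centralise it when
`(x ^ p ^ n - 1) (∑ i < p ^ n, x ^ i) = 0`.
-/

set_option autoImplicit false
set_option linter.style.haveILetI false
set_option linter.unusedSectionVars false
set_option maxHeartbeats 1000000

namespace Cfsg.Agent.H71

open Subgroup
open Coprime Coprime.Weights Coprime.EndBound Coprime.FpfPrime Coprime.ShultGross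
open scoped commutatorElement IsMulCommutative

/-- `p ^ a = 2 ^ m + 1` has only the solutions `a = 1` and `9 = 2 ^ 3 + 1`. -/
theorem pow_fermat_cases {p a m : ℕ} (hp : p.Prime) (ha : 0 < a) (hm : 0 < m) (h : p ^ a = 2 ^ m + 1) :
    a = 1 ∨ p = 3 ∧ m = 3 := by
  have hodd : Odd p := hp.odd_of_ne_two (by
    rintro rfl
    have h1 : 2 ∣ 2 ^ a := dvd_pow_self 2 ha.ne'
    have h2 : 2 ∣ 2 ^ m := dvd_pow_self 2 hm.ne'
    omega)
  rcases Nat.even_or_odd a with ⟨b, rfl⟩ | hao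
  · refine Or.inr ?_
    obtain ⟨o, ho⟩ : ∃ o, p ^ b = o + 1 := ⟨_, (Nat.succ_pred_eq_of_pos (pow_pos hp.pos b)).symm⟩
    have hmul : o * (o + 2) = 2 ^ m := by
      have : p ^ (b + b) = (o + 1) * (o + 1) := by rw [pow_add, ho]
      nlinarith
    obtain ⟨j, -, hj⟩ := (Nat.dvd_prime_pow Nat.prime_two).mp (hmul ▸ Dvd.intro (o + 2) rfl)
    obtain ⟨i, -, hi⟩ := (Nat.dvd_prime_pow Nat.prime_two).mp (hmul ▸ Dvd.intro_left o rfl)
    have hj1 : j = 1 := by
      rcases j with _ | _ | j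
      · exfalso
        rw [hj, pow_zero] at hmul ho
        exact absurd (hodd.pow (n := b)) (by rw [ho]; decide)
      · rfl
      · exfalso
        rw [pow_succ, pow_succ] at hj
        rcases i with _ | _ | i
        · omega
        · rw [pow_one] at hi
          have := Nat.two_pow_pos j
          omega
        · rw [pow_succ, pow_succ] at hi
          omega
    rw [hj1, pow_one] at hj
    rw [hj] at ho hmul
    have hp3 : p = 3 := ((Nat.prime_dvd_prime_iff_eq Nat.prime_three hp).mp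
      (Nat.prime_three.dvd_of_dvd_pow (ho ▸ dvd_rfl : 3 ∣ p ^ b))).symm
    exact ⟨hp3, Nat.pow_right_injective le_rfl (by norm_num at hmul ⊢; exact hmul.symm)⟩
  · refine Or.inl ?_
    by_contra ha1
    have hs : (∑ i ∈ Finset.range a, p ^ i) * (p - 1) = 2 ^ m := by
      have := geom_sum_mul_of_one_le hp.one_le a
      rw [this, h, Nat.add_sub_cancel]
    obtain ⟨j, -, hj⟩ := (Nat.dvd_prime_pow Nat.prime_two).mp (hs ▸ Dvd.intro (p - 1) rfl)
    have hsodd : Odd (∑ i ∈ Finset.range a, p ^ i) := by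
      rw [Finset.odd_sum_iff_odd_card_odd, Finset.filter_true_of_mem fun i _ => hodd.pow, Finset.card_range]
      exact hao
    rw [hj] at hsodd
    rcases Nat.eq_zero_or_pos j with rfl | hj0
    · have : 2 ≤ a := by omega
      have h1 : ∑ i ∈ Finset.range 2, p ^ i ≤ ∑ i ∈ Finset.range a, p ^ i :=
        Finset.sum_le_sum_of_subset (Finset.range_mono this)
      rw [hj, Finset.sum_range_succ, Finset.sum_range_one, pow_zero, pow_one, pow_zero] at h1
      have := hp.two_le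
      omega
    · rw [Nat.odd_iff, Nat.pow_mod, Nat.mod_self, zero_pow hj0.ne'] at hsodd
      simp at hsodd

variable {Y : Type*} [Group Y] [Finite Y] {D : Subgroup Y}
variable {k V : Type*} [Field k] [AddCommGroup V] [Module k V] [IsAlgClosed k] [FiniteDimensional k V]
variable {ρ : Y →* Module.End k V} {p n : ℕ}

/-- The power `x ^ p ^ n` centralises the centre of `D`. -/
theorem pow_mem_centralizer_zc [Fact p.Prime] (hp2 : p ≠ 2) (h2 : (2 : k) ≠ 0) (hinj : Function.Injective ρ)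
    (hD2 : IsPGroup 2 D) {x : Y} (hx : x ∈ normalizer (D : Set Y)) (hxp : x ^ p ^ (n + 1) = 1)
    (hsum : ∑ i ∈ Finset.range (p ^ (n + 1)), ρ x ^ i = 0) :
    x ^ p ^ n ∈ centralizer (zc D : Set Y) := by
  haveI : Fact (Nat.Prime 2) := ⟨Nat.prime_two⟩
  have h := hall_higman_B (s := 2) (Ne.symm hp2) hp2 (by simpa using h2) hinj (Nat.succ_pos n) (zc D)
    (hD2.to_le inf_le_left) x (mem_normalizer_zc hx) hxp
    (Or.inr fun a ha b hb => mem_centralizer_iff.mp hb.2 a ha.1) hsum (mem_zpowers _)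
  simpa using h

/-- The stabiliser of a weight of the centre. -/
theorem exists_stab [Fact p.Prime] (h2 : (2 : k) ≠ 0) (hD2 : IsPGroup 2 D) {x : Y}
    (hx : x ∈ normalizer (D : Set Y)) (hxp : x ^ p ^ (n + 1) = 1)
    (hsum : ∑ i ∈ Finset.range (p ^ (n + 1)), ρ x ^ i = 0) (ψ : zc D →* kˣ)
    (hψ : proj (ρ.comp (zc D).subtype) ψ ≠ 0) :
    ∃ c, c ≤ n ∧ x ^ p ^ c ∈ stabChar D ψ ∧
      (∑ i ∈ Finset.range (p ^ (n + 1 - c)), ρ (x ^ p ^ c) ^ i) * proj (ρ.comp (zc D).subtype) ψ = 0 ∧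
      ∀ j, ¬ p ^ c ∣ j → proj (ρ.comp (zc D).subtype) ψ * ρ x ^ j * proj (ρ.comp (zc D).subtype) ψ = 0 := by
  let σ : MulAut (zc D) := Subgroup.normalizerMonoidHom (zc D) ⟨x, mem_normalizer_zc hx⟩
  have hσj : ∀ (j : ℕ) (z : zc D), (((σ ^ j) z : zc D) : Y) = x ^ j * z * (x ^ j)⁻¹ := fun j z => by
    show (((Subgroup.normalizerMonoidHom (zc D) ⟨x, mem_normalizer_zc hx⟩) ^ j) z : Y) = _
    rw [← map_pow]
    rfl
  have hσp : σ ^ p ^ (n + 1) = 1 := MulEquiv.ext fun z => Subtype.ext (by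
    rw [hσj, hxp, one_mul, inv_one, mul_one]; rfl)
  have hcompat : ∀ u, ρ x * (ρ.comp (zc D).subtype) u = (ρ.comp (zc D).subtype) (σ u) * ρ x := fun u => by
    show ρ x * ρ u = ρ (x * u * x⁻¹) * ρ x
    rw [← map_mul, ← map_mul, inv_mul_cancel_right]
  obtain ⟨c, hc, hiff, -, hsum'⟩ :=
    orbit_stab (two_card_zc_ne_zero hD2 h2) (ρ.comp (zc D).subtype) σ (ρ x) hcompat hσp hsum ψ hψ
  refine ⟨c, Nat.lt_succ_iff.mp hc, ⟨pow_mem hx _, fun z z' h => ?_⟩, by rwa [map_pow], fun j hj => ?_⟩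
  · rw [← (hiff (p ^ c)).mpr dvd_rfl z]
    exact congrArg ψ (Subtype.ext (h.trans (hσj _ z).symm))
  · have hg : ∀ (j : ℕ) u, ρ x ^ j * (ρ.comp (zc D).subtype) u = (ρ.comp (zc D).subtype) ((σ ^ j) u) * ρ x ^ j := by
      intro j
      induction j with
      | zero => simp
      | succ j ih =>
        intro u
        rw [pow_succ', mul_assoc, ih, ← mul_assoc, hcompat, mul_assoc, pow_succ', MulAut.mul_apply]
    rw [mul_assoc, Weights.mul_proj_of_conj (hg j), ← mul_assoc, proj_mul_proj, zero_mul]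
    intro heq
    refine hj ((hiff j).mp fun u => ?_)
    conv_lhs => rw [heq]
    show ψ ((σ ^ j).symm ((σ ^ j) u)) = ψ u
    rw [MulEquiv.symm_apply_apply]

/-- An element fixing every `D / N_ψ` centralises `D`. -/
theorem mem_centralizer_of_pair_fixed [Fact p.Prime] (hp2 : p ≠ 2) (h2 : (2 : k) ≠ 0)
    (hinj : Function.Injective ρ) (hD : ClassTwo D) (hD2 : IsPGroup 2 D) {c : Y}
    (hc : c ∈ normalizer (D : Set Y)) {r : ℕ} (hcp : c ^ p ^ r = 1) (hcz : c ∈ centralizer (zc D : Set Y))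
    (hfix : ∀ (ψ : zc D →* kˣ), proj (ρ.comp (zc D).subtype) ψ ≠ 0 → ∀ u u' : D,
      (u' : Y) = c * u * c⁻¹ → pair hD ψ u' = pair hD ψ u) :
    c ∈ centralizer (D : Set Y) := by
  refine mem_centralizer_iff.mpr fun u hu => ?_
  set u' : D := ⟨c * u * c⁻¹, Coprime.conj_mem hc hu⟩
  set d : D := u' * (⟨u, hu⟩ : D)⁻¹ with hd
  have hdz : (d : Y) ∈ zc D := by
    refine ⟨d.2, mem_centralizer_iff.mpr fun b hb => ?_⟩
    refine (commutatorElement_eq_one_iff_mul_comm.mp ?_).symm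
    by_contra hne
    let z : zc D := ⟨⁅(d : Y), b⁆, hD.comm d d.2 b hb⟩
    obtain ⟨ψ, hψ, hψz⟩ := exists_proj_ne_zero_of_act_ne_one (two_card_zc_ne_zero hD2 h2)
      (τ := ρ.comp (zc D).subtype) (u := z) (fun h => hne (hinj (h.trans (map_one ρ).symm)))
    apply hψz
    show pair hD ψ d ⟨b, hb⟩ = 1
    rw [hd, map_mul, map_inv, hfix ψ hψ ⟨u, hu⟩ u' rfl, mul_inv_cancel, MonoidHom.one_apply]
  have hcd : c * d * c⁻¹ = d := by
    rw [← mem_centralizer_iff.mp hcz d hdz, mul_inv_cancel_right]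
  have hiter : ∀ j : ℕ, c ^ j * u * (c ^ j)⁻¹ = (d : Y) ^ j * u := by
    intro j
    induction j with
    | zero => simp
    | succ j ih =>
      calc c ^ (j + 1) * u * (c ^ (j + 1))⁻¹ = c * (c ^ j * u * (c ^ j)⁻¹) * c⁻¹ := by rw [pow_succ']; group
        _ = (c * (d : Y) * c⁻¹) ^ j * (c * u * c⁻¹) := by rw [ih, conj_pow]; group
        _ = (d : Y) ^ (j + 1) * u := by
          have hcu : c * u * c⁻¹ = (d : Y) * u := by
            show c * u * c⁻¹ = c * u * c⁻¹ * u⁻¹ * u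
            rw [inv_mul_cancel_right]
          rw [hcd, hcu, pow_succ, mul_assoc]
  have h1 := hiter (p ^ r)
  rw [hcp, one_mul, inv_one, mul_one] at h1
  have hdp : orderOf (d : Y) ∣ p ^ r := orderOf_dvd_of_pow_eq_one (mul_eq_right.mp h1.symm)
  obtain ⟨j, hj⟩ := hD2 d
  have hd2 : orderOf (d : Y) ∣ 2 ^ j :=
    orderOf_dvd_of_pow_eq_one (by rw [← SubmonoidClass.coe_pow, hj, OneMemClass.coe_one])
  have hd1 : (d : Y) = 1 := orderOf_eq_one_iff.mp (Nat.eq_one_of_dvd_coprimes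
    (((Nat.coprime_primes (Fact.out : p.Prime) Nat.prime_two).mpr hp2).pow r j) hdp hd2)
  have h3 : c * u * c⁻¹ * u⁻¹ = 1 := hd1
  exact (mul_inv_eq_iff_eq_mul.mp (mul_inv_eq_one.mp h3)).symm

variable [Fact p.Prime]

/-- Powers `x ^ p ^ n` of elements of a `p`-subgroup commute on `D`. -/
theorem commutator_mem_centralizer {m : ℕ} (hm : 0 < m) (hpm : p = 2 ^ m + 1) (h2 : (2 : k) ≠ 0)
    (hinj : Function.Injective ρ) (hD : ClassTwo D) (hD2 : IsPGroup 2 D) (A : Subgroup Y) (hA : IsPGroup p A)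
    (hAD : A ≤ normalizer (D : Set Y)) {x x' : Y} (hx : x ∈ A) (hx' : x' ∈ A)
    (hxp : x ^ p ^ (n + 1) = 1) (hxp' : x' ^ p ^ (n + 1) = 1)
    (hsum : ∑ i ∈ Finset.range (p ^ (n + 1)), ρ x ^ i = 0)
    (hsum' : ∑ i ∈ Finset.range (p ^ (n + 1)), ρ x' ^ i = 0) :
    ⁅x ^ p ^ n, x' ^ p ^ n⁆ ∈ centralizer (D : Set Y) := by
  classical
  have hp : p.Prime := Fact.out
  have hp2 : p ≠ 2 := by
    rintro rfl
    have : 2 ∣ 2 ^ m := dvd_pow_self 2 hm.ne'
    omega
  have hg := pow_mem_centralizer_zc hp2 h2 hinj hD2 (hAD hx) hxp hsum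
  have hh := pow_mem_centralizer_zc hp2 h2 hinj hD2 (hAD hx') hxp' hsum'
  have hgA : ⁅x ^ p ^ n, x' ^ p ^ n⁆ ∈ A := by
    rw [commutatorElement_def]
    exact mul_mem (mul_mem (mul_mem (pow_mem hx _) (pow_mem hx' _)) (inv_mem (pow_mem hx _))) (inv_mem (pow_mem hx' _))
  obtain ⟨r, hr⟩ := hA ⟨_, hgA⟩
  have hgc : ⁅x ^ p ^ n, x' ^ p ^ n⁆ ∈ centralizer (zc D : Set Y) := by
    rw [commutatorElement_def]
    exact mul_mem (mul_mem (mul_mem hg hh) (inv_mem hg)) (inv_mem hh)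
  refine mem_centralizer_of_pair_fixed hp2 h2 hinj hD hD2 (hAD hgA) (congrArg Subtype.val hr) hgc
    fun ψ hψ u u' hu' => ?_
  let A' : Subgroup Y := A ⊓ stabChar D ψ
  have hA' : IsPGroup p A' := hA.to_le inf_le_left
  let σ : A' →* Module.End (ZMod 2) (Sp hD ψ) :=
    (act hD ψ).comp (Subgroup.inclusion (inf_le_right : A' ≤ stabChar D ψ))
  haveI : Finite (Sp hD ψ) := Finite.of_surjective (cls hD ψ) (cls_surjective hD ψ)
  haveI : FiniteDimensional (ZMod 2) (Sp hD ψ) := Module.Finite.of_finite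
  have hgood : ∀ y ∈ A, y ^ p ^ (n + 1) = 1 → (∑ i ∈ Finset.range (p ^ (n + 1)), ρ y ^ i = 0) →
      ∃ g : A', (g : Y) = y ^ p ^ n ∧ SmallMoved p m σ g := by
    intro y hy hyp hys
    obtain ⟨c, hcn, hst, hs, -⟩ := exists_stab h2 hD2 (hAD hy) hyp hys ψ hψ
    let t : A' := ⟨y ^ p ^ c, pow_mem hy _, hst⟩
    refine ⟨t ^ p ^ (n - c), ?_, ?_⟩
    · show (y ^ p ^ c) ^ p ^ (n - c) = _
      rw [← pow_mul, ← pow_add, Nat.add_sub_cancel' hcn]
    have e : n + 1 - c - 1 = n - c := by omega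
    have hmr := moved_rank (l := n + 1 - c) hp2 h2 hD hD2 ψ hψ ⟨y ^ p ^ c, hst⟩ (by omega)
      (Subtype.ext (by
        show (y ^ p ^ c) ^ p ^ (n + 1 - c) = 1
        rw [← pow_mul, ← pow_add, Nat.add_sub_cancel' (by omega : c ≤ n + 1), hyp]))
      hs
    have hdim : movedDim σ (t ^ p ^ (n - c)) = movedDim (act hD ψ) ((⟨y ^ p ^ c, hst⟩ : stabChar D ψ) ^ p ^ (n - c)) :=
      rfl
    rw [e, ← hdim] at hmr
    rcases hmr with h0 | ⟨j, m', hj0, hjl, hm', hjm, hd⟩
    · exact Or.inl (h0 ▸ Nat.zero_le _)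
    rcases pow_fermat_cases hp hj0 hm' hjm with rfl | ⟨hp3, hm3⟩
    · rw [pow_one, hpm] at hjm
      have : m = m' := Nat.pow_right_injective le_rfl (by simpa using hjm)
      exact Or.inl (by rw [hd, this])
    · have hm1 : m = 1 := by
        rw [hp3] at hpm
        exact Nat.pow_right_injective le_rfl (show 2 ^ m = 2 ^ 1 by omega)
      have hj2 : 2 ≤ j := by
        by_contra hlt
        have : j = 1 := by omega
        rw [this, hp3, hm3] at hjm
        norm_num at hjm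
      refine Or.inr ⟨t ^ p ^ (n - c - 1), ?_, ?_⟩
      · rw [← pow_mul, ← pow_succ, Nat.sub_add_cancel (by omega : 1 ≤ n - c)]
      · rw [hd, hm3, hm1, hp3]
  obtain ⟨g, hgY, hgs⟩ := hgood x hx hxp hsum
  obtain ⟨h, hhY, hhs⟩ := hgood x' hx' hxp' hsum'
  have hcom := commute_of_smallMoved hm hpm _ A' (Sp hD ψ) σ rfl hA' g h hgs hhs
  have hone : σ ⁅g, h⁆ = 1 := by
    rw [commutatorElement_def, map_mul, map_mul, map_mul, hcom.eq, mul_assoc (σ h), ← map_mul σ g, mul_inv_cancel,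
      map_one, mul_one, ← map_mul, mul_inv_cancel, map_one]
  have hp1 := pair_eq_of_act_eq_one hD ψ (a := Subgroup.inclusion (inf_le_right : A' ≤ stabChar D ψ) ⁅g, h⁆) hone u
  refine Eq.trans (congrArg (pair hD ψ) (Subtype.ext ?_)) hp1
  rw [hu', conjD_coe, ← hgY, ← hhY]
  rfl

/-- Quadratic powers centralise `D`. -/
theorem pow_mem_centralizer_of_mul_eq_zero (hp2 : p ≠ 2) (h2 : (2 : k) ≠ 0)
    (hinj : Function.Injective ρ) (hD : ClassTwo D) (hD2 : IsPGroup 2 D) {x : Y}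
    (hx : x ∈ normalizer (D : Set Y)) (hxp : x ^ p ^ (n + 1) = 1)
    (hsum : ∑ i ∈ Finset.range (p ^ (n + 1)), ρ x ^ i = 0) (hpk : (p : k) = 0)
    (hq : (ρ x ^ p ^ n - 1) * ∑ i ∈ Finset.range (p ^ n), ρ x ^ i = 0) :
    x ^ p ^ n ∈ centralizer (D : Set Y) := by
  classical
  have hp : p.Prime := Fact.out
  have hp3 : 3 ≤ p := by
    have := hp.two_le
    omega
  refine mem_centralizer_of_pair_fixed hp2 h2 hinj hD hD2 (pow_mem hx _) (r := 1)
    (by rw [pow_one, ← pow_mul, ← pow_succ, hxp])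
    (pow_mem_centralizer_zc hp2 h2 hinj hD2 hx hxp hsum) fun ψ hψ u u' hu' => ?_
  set e := proj (ρ.comp (zc D).subtype) ψ with he
  obtain ⟨c, hcn, hst, hs, hzero⟩ := exists_stab h2 hD2 hx hxp hsum ψ hψ
  set t : stabChar D ψ := ⟨x ^ p ^ c, hst⟩ with ht
  set g := t ^ p ^ (n - c) with hg
  have hgY : (g : Y) = x ^ p ^ n := by
    show (x ^ p ^ c) ^ p ^ (n - c) = _
    rw [← pow_mul, ← pow_add, Nat.add_sub_cancel' hcn]
  have hcomm : ∀ y : stabChar D ψ, Commute (ρ y) e := fun y => commute_proj_of_mem_stabChar ψ y.2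
  have hee : e * e = e := proj_mul_self (two_card_zc_ne_zero hD2 h2) _ _
  -- the degree on the weight space
  have hdeg : (ρ g - 1) * (∑ i ∈ Finset.range (p ^ (n - c)), ρ t ^ i) * e = 0 := by
    have h0 : e * ((ρ x ^ p ^ n - 1) * ∑ i ∈ Finset.range (p ^ n), ρ x ^ i) * e = 0 := by
      rw [hq, mul_zero, zero_mul]
    have hge : Commute (ρ x ^ p ^ n - 1) e := by
      rw [← map_pow, ← hgY]
      exact (hcomm g).sub_left (Commute.one_left e)
    rw [← mul_assoc, ← hge.eq, mul_assoc, mul_assoc] at h0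
    have hterm : ∀ j, e * (ρ x ^ j * e) = if p ^ c ∣ j then ρ x ^ j * e else 0 := by
      intro j
      split_ifs with hj
      · obtain ⟨i, rfl⟩ := hj
        have hc' : Commute (ρ x ^ (p ^ c * i)) e := by
          rw [pow_mul, ← map_pow]
          exact (hcomm t).pow_left i
        rw [← mul_assoc, ← hc'.eq, mul_assoc, hee]
      · rw [← mul_assoc]; exact hzero j hj
    rw [Finset.sum_mul, Finset.mul_sum, Finset.sum_congr rfl fun j _ => hterm j, ← Finset.sum_filter,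
      ← Finset.sum_mul, show p ^ n = p ^ c * p ^ (n - c) by rw [← pow_add, Nat.add_sub_cancel' hcn],
      ShultGrossArith.filter_dvd _ _ (pow_pos hp.pos c),
      Finset.sum_image (fun a _ b _ h => mul_left_cancel₀ (pow_pos hp.pos c).ne' h)] at h0
    simp only [pow_mul] at h0
    rw [show (t : Y) = x ^ p ^ c from rfl, hgY, map_pow, map_pow, mul_assoc]
    rw [show p ^ n = p ^ c * p ^ (n - c) by rw [← pow_add, Nat.add_sub_cancel' hcn], pow_mul]
    exact h0
  rcases hcn.lt_or_eq with hlt | rfl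
  swap
  · -- trivial on the weight space
    rw [Nat.sub_self, pow_zero, Finset.sum_range_one, pow_zero, mul_one] at hdeg
    rw [sub_mul, one_mul, sub_eq_zero] at hdeg
    -- the commutator acts as one
    refine MonoidHom.ext fun b => ?_
    refine Units.ext (smul_left_injective k hψ ?_)
    show ((ψ ⟨⁅(u' : Y), (b : Y)⁆, _⟩ : kˣ) : k) • e = ((ψ ⟨⁅(u : Y), (b : Y)⁆, _⟩ : kˣ) : k) • e
    rw [← act_mul_proj (ρ.comp (zc D).subtype) ψ, ← act_mul_proj (ρ.comp (zc D).subtype) ψ]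
    show ρ ⁅(u' : Y), (b : Y)⁆ * e = ρ ⁅(u : Y), (b : Y)⁆ * e
    have hgi : ρ (g : Y)⁻¹ * e = e := by
      calc ρ (g : Y)⁻¹ * e = ρ (g : Y)⁻¹ * (ρ g * e) := by rw [hdeg]
        _ = e := by rw [← mul_assoc, ← map_mul, inv_mul_cancel, map_one, one_mul]
    have hu : ∀ v ∈ D, ρ ((g : Y) * v * (g : Y)⁻¹) * e = ρ v * e := by
      intro v hv
      have hve : Commute (ρ v) e := hcomm ⟨v, le_stabChar D ψ hv⟩
      calc ρ ((g : Y) * v * (g : Y)⁻¹) * e = ρ g * ρ v * (ρ (g : Y)⁻¹ * e) := by rw [map_mul, map_mul, mul_assoc]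
        _ = ρ v * e := by rw [hgi, mul_assoc, hve.eq, ← mul_assoc, hdeg]
    have e1 : (u' : Y) = g * u * (g : Y)⁻¹ := by rw [hu', hgY]
    have hmul : ∀ a a' v : Y, v ∈ D → ρ a * e = ρ a' * e → ρ (a * v) * e = ρ (a' * v) * e := by
      intro a a' v hv h
      have hve : Commute (ρ v) e := hcomm ⟨v, le_stabChar D ψ hv⟩
      rw [map_mul, map_mul, mul_assoc, hve.eq, ← mul_assoc, h, mul_assoc, ← hve.eq, ← mul_assoc]
    have h1 : ρ (u' : Y) * e = ρ (u : Y) * e := e1 ▸ hu u u.2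
    have h2' : ρ (u' : Y)⁻¹ * e = ρ (u : Y)⁻¹ * e := by
      rw [show (u' : Y)⁻¹ = g * (u : Y)⁻¹ * (g : Y)⁻¹ by rw [e1]; group]
      exact hu _ (inv_mem u.2)
    have hbe : Commute (ρ (b : Y)) e := hcomm ⟨b, le_stabChar D ψ b.2⟩
    simp only [commutatorElement_def]
    refine hmul _ _ _ (inv_mem b.2) ?_
    have h3 : ρ ((u' : Y) * b) * e = ρ ((u : Y) * b) * e := hmul _ _ _ b.2 h1
    -- both sides are `ρ (u * b) * ρ u⁻¹ * e`
    rw [map_mul _ _ (u : Y)⁻¹, mul_assoc _ (ρ (u : Y)⁻¹) e, ← h2', ← mul_assoc]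
    have hu'e : Commute (ρ (u' : Y)⁻¹) e := hcomm ⟨_, le_stabChar D ψ (inv_mem u'.2)⟩
    rw [map_mul _ _ (u' : Y)⁻¹, mul_assoc, hu'e.eq, ← mul_assoc, h3, mul_assoc, ← hu'e.eq, ← mul_assoc]
  -- quadratic
  have hq2 : (ρ g - 1) * (ρ g - 1) * e = 0 := by
    have hgeom : (∑ i ∈ Finset.range (p ^ (n - c)), ρ t ^ i) * (ρ t - 1) = ρ g - 1 := by
      rw [geom_sum_mul, ← map_pow]
      rfl
    have hce : Commute (ρ t - 1) e := (hcomm t).sub_left (Commute.one_left e)
    calc (ρ g - 1) * (ρ g - 1) * e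
        = (ρ g - 1) * (∑ i ∈ Finset.range (p ^ (n - c)), ρ t ^ i) * ((ρ t - 1) * e) := by
          conv_lhs => arg 1; arg 2; rw [← hgeom]
          simp only [mul_assoc]
      _ = (ρ g - 1) * (∑ i ∈ Finset.range (p ^ (n - c)), ρ t ^ i) * e * (ρ t - 1) := by
          rw [hce.eq, ← mul_assoc]
      _ = 0 := by rw [hdeg, zero_mul]
  haveI : CharP k p := (CharP.charP_iff_prime_eq_zero hp).mpr hpk
  have hgsum : (∑ i ∈ Finset.range (p ^ 1), ρ g ^ i) * e = 0 := by
    have hpoly : ((Polynomial.X : Polynomial k) - 1) ^ (p - 1) = ∑ i ∈ Finset.range p, Polynomial.X ^ i := by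
      refine mul_right_cancel₀ (b := (Polynomial.X : Polynomial k) - 1) (Polynomial.X_sub_C_ne_zero 1) ?_
      rw [geom_sum_mul, ← pow_succ, Nat.sub_add_cancel hp.one_le, sub_pow_char, one_pow]
    have h3 := congrArg (Polynomial.aeval (ρ g)) hpoly
    simp only [map_pow, map_sub, Polynomial.aeval_X, map_one, map_sum] at h3
    rw [pow_one, ← h3, show p - 1 = (p - 3) + 2 by omega, pow_add, pow_two, mul_assoc ((ρ g - 1) ^ (p - 3)), hq2,
      mul_zero]
  have hgt : g ^ p = 1 := Subtype.ext (by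
    rw [SubmonoidClass.coe_pow, hgY, ← pow_mul, ← pow_succ, hxp]; rfl)
  have hgg : g ^ p ^ (1 - 1) = g := by rw [Nat.sub_self, pow_zero, pow_one]
  have hmr := moved_rank (l := 1) hp2 h2 hD hD2 ψ hψ g one_pos (by rw [pow_one]; exact hgt) hgsum
  rw [hgg] at hmr
  rcases hmr with h0 | ⟨j, m, hj0, hj1, hm, hjm, hd⟩
  · haveI : Finite (Sp hD ψ) := Finite.of_surjective (cls hD ψ) (cls_surjective hD ψ)
    haveI : FiniteDimensional (ZMod 2) (Sp hD ψ) := Module.Finite.of_finite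
    have hact : act hD ψ g = 1 := sub_eq_zero.mp (LinearMap.range_eq_bot.mp (Submodule.finrank_eq_zero.mp h0))
    refine Eq.trans (congrArg (pair hD ψ) (Subtype.ext ?_)) (pair_eq_of_act_eq_one hD ψ hact u)
    rw [hu', conjD_coe, hgY]
  exfalso
  have hpj : p = 2 ^ m + 1 := by rw [← hjm, show j = 1 by omega, pow_one]
  haveI : Finite (Sp hD ψ) := Finite.of_surjective (cls hD ψ) (cls_surjective hD ψ)
  haveI : FiniteDimensional (ZMod 2) (Sp hD ψ) := Module.Finite.of_finite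
  set W := LinearMap.range (act hD ψ g - 1) with hW
  have hWt : ∀ v ∈ W, act hD ψ t v ∈ W := by
    rintro _ ⟨v, rfl⟩
    refine ⟨act hD ψ t v, ?_⟩
    have hc' : act hD ψ g * act hD ψ t = act hD ψ t * act hD ψ g := by
      rw [← map_mul, ← map_mul, hg, (Commute.pow_self t _).eq]
    simp only [LinearMap.sub_apply, Module.End.one_apply, map_sub]
    rw [← Module.End.mul_apply, hc', Module.End.mul_apply]
  have hdvd : p ^ (n - c + 1) ∣ 2 ^ (2 * m) - 1 := by
    haveI : Finite W := Finite.of_injective _ Subtype.val_injective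
    let f : Module.End (ZMod 2) W := (act hD ψ t).restrict hWt
    have hf : ∀ (i : ℕ) (v : W), (((f ^ i) v : W) : Sp hD ψ) = act hD ψ (t ^ i) v := by
      intro i
      induction i with
      | zero => intro v; simp
      | succ i ih =>
        intro v
        rw [pow_succ', Module.End.mul_apply, pow_succ' t, map_mul, Module.End.mul_apply, ← ih]
        rfl
    have hord : t ^ p ^ (n - c + 1) = 1 := by rw [pow_succ, pow_mul, ← hg, hgt]
    let σ : MulAut (Multiplicative W) :=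
      { toFun := fun v => Multiplicative.ofAdd (f v.toAdd)
        invFun := fun v => Multiplicative.ofAdd ((f ^ (p ^ (n - c + 1) - 1)) v.toAdd)
        left_inv := fun v => by
          refine congrArg Multiplicative.ofAdd (Subtype.ext ?_ : (f ^ (p ^ (n - c + 1) - 1)) (f v.toAdd) = v.toAdd)
          rw [← Module.End.mul_apply, ← pow_succ, Nat.sub_add_cancel (Nat.one_le_pow _ _ hp.pos), hf, hord, map_one]
          rfl
        right_inv := fun v => by
          refine congrArg Multiplicative.ofAdd (Subtype.ext ?_ : f ((f ^ (p ^ (n - c + 1) - 1)) v.toAdd) = v.toAdd)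
          rw [← Module.End.mul_apply, ← pow_succ', Nat.sub_add_cancel (Nat.one_le_pow _ _ hp.pos), hf, hord, map_one]
          rfl
        map_mul' := fun v w => congrArg Multiplicative.ofAdd (map_add f v.toAdd w.toAdd) }
    have hσ : ∀ (i : ℕ) (v : Multiplicative W), (σ ^ i) v = Multiplicative.ofAdd ((f ^ i) v.toAdd) := by
      intro i
      induction i with
      | zero => intro v; rfl
      | succ i ih => intro v; rw [pow_succ', MulAut.mul_apply, ih, pow_succ', Module.End.mul_apply]; rfl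
    have h := ShultGrossArith.dvd_card_sub_one σ (p := p) (n := n - c + 1)
      (MulEquiv.ext fun v => by
        rw [hσ]
        refine congrArg Multiplicative.ofAdd (Subtype.ext ?_ : (f ^ p ^ (n - c + 1)) v.toAdd = v.toAdd)
        rw [hf, hord, map_one]; rfl)
      (fun v hv => by
        rw [hσ, Nat.add_sub_cancel] at hv
        have hv2 : (f ^ p ^ (n - c)) v.toAdd = v.toAdd := Multiplicative.ofAdd.injective hv
        have hv' : act hD ψ g (v.toAdd : Sp hD ψ) = v.toAdd := by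
          rw [hg, ← hf]; exact congrArg Subtype.val hv2
        obtain ⟨w, hw⟩ := v.toAdd.2
        rw [← hw] at hv'
        have h4 : (((act hD ψ g - 1) ^ 2 : Module.End (ZMod 2) (Sp hD ψ))) w = 0 := by
          rw [pow_two, Module.End.mul_apply, LinearMap.sub_apply, Module.End.one_apply, hv', sub_self]
        rw [end_sub_one_sq, LinearMap.sub_apply, Module.End.one_apply, sub_eq_zero] at h4
        have h5 : ∀ i : ℕ, ((act hD ψ g) ^ (2 * i)) w = w := fun i => by
          induction i with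
          | zero => rfl
          | succ i ih => rw [mul_add, mul_one, pow_add, Module.End.mul_apply, h4, ih]
        obtain ⟨i, hi⟩ := hp.odd_of_ne_two hp2
        have h6 : act hD ψ g w = w := by
          have h7 : ((act hD ψ g) ^ p) w = w := by rw [← map_pow, hgt, map_one]; rfl
          rw [hi, pow_succ', Module.End.mul_apply, h5] at h7
          exact h7
        refine Multiplicative.ext (Subtype.ext ?_)
        rw [← hw, LinearMap.sub_apply, Module.End.one_apply, h6, sub_self]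
        rfl)
    rw [Nat.card_congr Multiplicative.toAdd, Module.natCard_eq_pow_finrank (K := ZMod 2), Nat.card_zmod] at h
    rw [← hd]
    exact h
  have hpm1 : 2 ^ (2 * m) - 1 = p * (p - 2) := by
    rw [hpj, two_mul, pow_add]
    obtain ⟨a, ha⟩ : ∃ a, 2 ^ m = a + 1 := ⟨2 ^ m - 1, by have := Nat.one_le_two_pow (n := m); omega⟩
    rw [ha, show a + 1 + 1 - 2 = a by omega]
    ring_nf
    omega
  rw [hpm1, pow_succ'] at hdvd
  have hdvd2 : p ∣ p - 2 :=
    (dvd_pow_self p (by omega : n - c ≠ 0)).trans (Nat.dvd_of_mul_dvd_mul_left hp.pos hdvd)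
  have := Nat.le_of_dvd (by omega) hdvd2
  omega

end Cfsg.Agent.H71
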