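import Cfsg.Agent.Coprime.EndCountPow
import Mathlib.Algebra.Polynomial.AlgebraMap
import Mathlib.FieldTheory.IsAlgClosed.Basic
import Mathlib.LinearAlgebra.Dual.Lemmas
import Mathlib.Dynamics.PeriodicPts.Defs

/-!
A unipotent element `T` of order dividing `P = q ^ L` in characteristic `q`, of degree less than `P`,
acting without fixed points on the radical quotient `Q / N` of a scalar-commutator setting:
then `P = n + 1` and `|Q : N| = n ^ 2`, and the degree of `T` is at least `n`.
-/

set_option autoImplicit false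
set_option linter.style.haveILetI false
set_option linter.unusedSectionVars false

namespace Cfsg.Agent.H71.Exact

open Coprime Coprime.Weights Coprime.EndCount
open scoped commutatorElement

variable {k : Type*} [Field k]

/-- If the commutant of a nilpotent `e` is scalar on its kernel, then `e` is a single block. -/
theorem single_block {W : Type*} [AddCommGroup W] [Module k W] [FiniteDimensional k W]
    (e : Module.End k W) {r : ℕ} (he : e ^ r = 0)
    (hsc : ∀ f, Commute e f → ∃ c : k, ∀ v, e v = 0 → f v = c • v) :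
    Module.finrank k W ≤ r ∧ Module.finrank k W ≤ Module.finrank k (commutant e) := by
  classical
  rcases subsingleton_or_nontrivial W with hW | hW
  · rw [Module.finrank_zero_of_subsingleton]
    exact ⟨Nat.zero_le _, Nat.zero_le _⟩
  have hex : ∃ j, e ^ j = 0 := ⟨r, he⟩
  obtain ⟨r0, hr0⟩ : ∃ r0, Nat.find hex = r0 + 1 := by
    refine Nat.exists_eq_succ_of_ne_zero fun h => ?_
    have := Nat.find_spec hex
    rw [h, pow_zero] at this
    exact one_ne_zero this
  have hspec : e ^ (r0 + 1) = 0 := hr0 ▸ Nat.find_spec hex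
  have hle : r0 + 1 ≤ r := hr0 ▸ Nat.find_le he
  obtain ⟨v, hv⟩ : ∃ v, (e ^ r0) v ≠ 0 := by
    by_contra h
    push Not at h
    exact Nat.find_min hex (show r0 < Nat.find hex by omega) (LinearMap.ext h)
  set t := (e ^ r0) v with ht
  obtain ⟨φ, hφ⟩ := Module.Projective.exists_dual_eq_one k hv
  let P0 : Module.End k W := φ.smulRight v
  let F : ℕ → Module.End k W := fun i => e ^ (r0 + 1 - i) * P0 * e ^ i
  let f : Module.End k W := ∑ i ∈ Finset.range (r0 + 1), e ^ (r0 - i) * P0 * e ^ i
  have hfc : Commute e f := by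
    show e * f = f * e
    have h1 : e * f = ∑ i ∈ Finset.range (r0 + 1), F i := by
      rw [Finset.mul_sum]
      refine Finset.sum_congr rfl fun i hi => ?_
      have := Finset.mem_range.mp hi
      show e * (e ^ (r0 - i) * P0 * e ^ i) = e ^ (r0 + 1 - i) * P0 * e ^ i
      rw [show r0 + 1 - i = r0 - i + 1 by omega, pow_succ']
      simp only [mul_assoc]
    have h2 : f * e = ∑ i ∈ Finset.range (r0 + 1), F (i + 1) := by
      rw [Finset.sum_mul]
      refine Finset.sum_congr rfl fun i hi => ?_
      show e ^ (r0 - i) * P0 * e ^ i * e = e ^ (r0 + 1 - (i + 1)) * P0 * e ^ (i + 1)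
      rw [Nat.add_sub_add_right, pow_succ, mul_assoc _ (e ^ i) e]
    rw [h1, h2]
    have h3 := Finset.sum_range_succ F (r0 + 1)
    rw [Finset.sum_range_succ' F (r0 + 1)] at h3
    have hF0 : F 0 = 0 := by simp [F, hspec]
    have hF1 : F (r0 + 1) = 0 := by simp [F, hspec]
    rw [hF0, hF1, add_zero, add_zero] at h3
    exact h3.symm
  have hker : e t = 0 := by
    rw [ht, ← Module.End.mul_apply, ← pow_succ', hspec, LinearMap.zero_apply]
  have hft : f t = t := by
    simp only [f, LinearMap.sum_apply, Module.End.mul_apply]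
    rw [Finset.sum_eq_single 0]
    · simp only [Nat.sub_zero, pow_zero, Module.End.one_apply]
      show (e ^ r0) (φ t • v) = t
      rw [hφ, one_smul]
    · intro i _ hi
      have : (e ^ i) t = 0 := by
        obtain ⟨i, rfl⟩ := Nat.exists_eq_succ_of_ne_zero hi
        rw [pow_succ, Module.End.mul_apply, hker, map_zero]
      rw [this, map_zero, map_zero]
    · intro h
      exact absurd (Finset.mem_range.mpr (Nat.succ_pos _)) h
  obtain ⟨c, hc⟩ := hsc f hfc
  have hc1 : c = 1 := by
    refine smul_left_injective k hv (show c • t = (1 : k) • t from ?_)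
    rw [one_smul, ← hc t hker, hft]
  have hinj : Function.Injective f := by
    rw [← LinearMap.ker_eq_bot, Submodule.eq_bot_iff]
    intro w hw
    rw [LinearMap.mem_ker] at hw
    by_contra hw0
    have hex' : ∃ j, (e ^ j) w = 0 := ⟨r, by rw [he, LinearMap.zero_apply]⟩
    obtain ⟨j, hj⟩ : ∃ j, Nat.find hex' = j + 1 := Nat.exists_eq_succ_of_ne_zero fun h => by
      have := Nat.find_spec hex'
      rw [h, pow_zero] at this
      exact hw0 this
    have hj0 : (e ^ j) w ≠ 0 := Nat.find_min hex' (show j < Nat.find hex' by omega)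
    have hej : e ((e ^ j) w) = 0 := by
      rw [← Module.End.mul_apply, ← pow_succ']
      exact hj ▸ Nat.find_spec hex'
    refine hj0 ?_
    have h := hc _ hej
    rw [hc1, one_smul, ← Module.End.mul_apply, ← (hfc.pow_left j).eq, Module.End.mul_apply, hw, map_zero] at h
    exact h.symm
  have hsurj := LinearMap.injective_iff_surjective.mp hinj
  have hform : ∀ w, f w = ∑ i : Fin (r0 + 1), φ ((e ^ (i : ℕ)) w) • (e ^ (r0 - (i : ℕ))) v := by
    intro w
    rw [Fin.sum_univ_eq_sum_range (fun i => φ ((e ^ i) w) • (e ^ (r0 - i)) v)]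
    simp only [f, LinearMap.sum_apply, Module.End.mul_apply]
    refine Finset.sum_congr rfl fun i _ => ?_
    simp [P0]
  refine ⟨?_, ?_⟩
  · let L : (Fin (r0 + 1) → k) →ₗ[k] W := Fintype.linearCombination k (fun i => (e ^ (r0 - (i : ℕ))) v)
    have hL : Function.Surjective L := fun y => by
      obtain ⟨w, rfl⟩ := hsurj y
      refine ⟨fun i => φ ((e ^ (i : ℕ)) w), ?_⟩
      simp only [L, Fintype.linearCombination_apply]
      exact (hform w).symm
    have := LinearMap.finrank_range_le L
    rw [LinearMap.range_eq_top.mpr hL, finrank_top, Module.finrank_pi, Fintype.card_fin] at this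
    omega
  · let E : commutant e →ₗ[k] W := (LinearMap.applyₗ v) ∘ₗ (commutant e).subtype
    have hE : Function.Surjective E := fun y => by
      obtain ⟨w, rfl⟩ := hsurj y
      refine ⟨⟨∑ i : Fin (r0 + 1), φ ((e ^ (i : ℕ)) w) • e ^ (r0 - (i : ℕ)), mem_commutant.mpr ?_⟩, ?_⟩
      · exact Commute.sum_right _ _ _ fun i _ => ((Commute.refl e).pow_right _).smul_right _
      · show (∑ i : Fin (r0 + 1), φ ((e ^ (i : ℕ)) w) • e ^ (r0 - (i : ℕ))) v = f w
        rw [hform, LinearMap.sum_apply]
        rfl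
    have := LinearMap.finrank_range_le E
    rwa [LinearMap.range_eq_top.mpr hE, finrank_top] at this

/-- In characteristic `q`, the powers of `T` sum to `(T - 1) ^ (q ^ L - 1)`. -/
theorem sum_pow_eq {W : Type*} [AddCommGroup W] [Module k W] {q : ℕ} [Fact q.Prime] (hqk : (q : k) = 0)
    (L : ℕ) (T : Module.End k W) :
    ∑ i ∈ Finset.range (q ^ L), T ^ i = (T - 1) ^ (q ^ L - 1) := by
  have hq : q.Prime := Fact.out
  haveI : CharP k q := (CharP.charP_iff_prime_eq_zero hq).mpr hqk
  have hpoly : ((Polynomial.X : Polynomial k) - 1) ^ (q ^ L - 1) =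
      ∑ i ∈ Finset.range (q ^ L), Polynomial.X ^ i := by
    refine mul_right_cancel₀ (b := (Polynomial.X : Polynomial k) - 1) (Polynomial.X_sub_C_ne_zero 1) ?_
    rw [geom_sum_mul, ← pow_succ, Nat.sub_add_cancel (Nat.one_le_pow _ _ hq.pos), sub_pow_char_pow, one_pow]
  have := congrArg (Polynomial.aeval T) hpoly
  simpa using this.symm

variable {V Q : Type*} [AddCommGroup V] [Module k V] [Group Q]
variable {ρ : Q →* Module.End k V} {N : Subgroup Q}
variable [Finite Q] [IsAlgClosed k] [FiniteDimensional k V] [Nontrivial V]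

/-- Operators commuting with an irreducible setting are scalars. -/
theorem exists_scalar_of_irreducible
    (hirr : ∀ W : Submodule k V, (∀ x, ∀ v ∈ W, ρ x v ∈ W) → W = ⊥ ∨ W = ⊤)
    (f : Module.End k V) (hf : ∀ x, Commute (ρ x) f) : ∃ c : k, f = c • 1 := by
  obtain ⟨μ, hμ⟩ := Module.End.exists_eigenvalue f
  have hinv : ∀ x, ∀ v ∈ f.eigenspace μ, ρ x v ∈ f.eigenspace μ := by
    intro x v hv
    rw [Module.End.mem_eigenspace_iff] at hv ⊢
    have := congrArg (fun g : Module.End k V => g v) (hf x).eq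
    simp only [Module.End.mul_apply, hv, map_smul] at this
    exact this.symm
  rcases hirr (f.eigenspace μ) hinv with h | h
  · exact absurd h hμ
  · refine ⟨μ, LinearMap.ext fun v => ?_⟩
    have : v ∈ f.eigenspace μ := h ▸ Submodule.mem_top
    rw [Module.End.mem_eigenspace_iff] at this
    simpa using this

/-- The count for an irreducible setting. -/
theorem irreducible_count (S : Setting ρ N) [N.Normal] (hU : (N.index : k) ≠ 0)
    (hirr : ∀ W : Submodule k V, (∀ x, ∀ v ∈ W, ρ x v ∈ W) → W = ⊥ ∨ W = ⊤)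
    {q L : ℕ} [Fact q.Prime] (hL : 0 < L) (hqk : (q : k) = 0) (σ : MulAut Q) (T : Module.End k V)
    (hT : T ^ (q ^ L) = 1) {r : ℕ} (hr : (T - 1) ^ r = 0) (hrP : r < q ^ L)
    (hcompat : ∀ x, T * ρ x = ρ (σ x) * T)
    (hfpf : ∀ x, x⁻¹ * (σ ^ q ^ (L - 1)) x ∈ N → x ∈ N) :
    N.index = 1 ∨ ∃ n, q ^ L = n + 1 ∧ N.index = n * n ∧ n ≤ r := by
  classical
  let _ := S.quotComm
  have hq : q.Prime := Fact.out
  set P := q ^ L with hPdef
  have hP : 0 < P := pow_pos hq.pos L
  have hU' : (Nat.card (Q ⧸ N) : k) ≠ 0 := hU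
  obtain ⟨w, hker, hw⟩ := S.exists_wtHom
  obtain ⟨huni, hsq, hall⟩ := S.weights_uniform hU
  have hsqi := S.index_eq_sq hU hirr
  have hidx0 : 0 < N.index := Nat.pos_of_ne_zero fun h => hU (by rw [h, Nat.cast_zero])
  have hD : Module.finrank k (LinearMap.range (proj S.conjHom 1)) = 1 := by
    rw [hsqi] at hsq hidx0
    exact (Nat.eq_of_mul_eq_mul_left hidx0 (by rw [mul_one]; exact hsq)).symm
  let Tu : (Module.End k V)ˣ := Units.ofPowEqOne T P hT hP.ne'
  let T' : Module.End k V := ((Tu⁻¹ : (Module.End k V)ˣ) : Module.End k V)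
  have hTT : T * T' = 1 := Tu.mul_inv
  have hT'T : T' * T = 1 := Tu.inv_mul
  have hcompat' : ∀ x, ρ (σ x) = T * ρ x * T' := fun x => by
    rw [hcompat x, mul_assoc, hTT, mul_one]
  have hσN : N.map σ.toMonoidHom = N := by
    refine Subgroup.eq_of_le_of_card_ge ?_ (le_of_eq (Subgroup.card_map_of_injective σ.injective).symm)
    rintro _ ⟨x, hx, rfl⟩
    obtain ⟨c, hc⟩ := S.scal x hx
    refine S.nondeg _ fun y => ?_
    show Commute (ρ (σ x)) (ρ y)
    rw [hcompat', hc, mul_smul_comm, mul_one, smul_mul_assoc, hTT]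
    exact (Commute.one_left _).smul_left c
  let σU : Q ⧸ N ≃* Q ⧸ N := QuotientGroup.congr N N σ hσN
  let g : Module.End k (Module.End k V) := LinearMap.mulLeft k T ∘ₗ LinearMap.mulRight k T'
  have hg_apply : ∀ f, g f = T * f * T' := fun f => by simp [g, mul_assoc]
  have hg : ∀ u, g * S.conjHom u = S.conjHom (σU u) * g := by
    intro u
    obtain ⟨x, rfl⟩ := QuotientGroup.mk_surjective u
    refine LinearMap.ext fun f => ?_
    show g (S.conjHom _ f) = S.conjHom ((σ x : Q) : Q ⧸ N) (g f)
    rw [S.conjHom_apply, S.conjHom_apply, hg_apply, hg_apply, hcompat', ← map_inv σ, hcompat']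
    simp only [mul_assoc]
    rw [← mul_assoc T' T, hT'T, one_mul, ← mul_assoc T' T, hT'T, one_mul]
  let s : Equiv.Perm (Q ⧸ N →* kˣ) :=
    { toFun := fun φ => φ.comp σU.symm.toMonoidHom
      invFun := fun φ => φ.comp σU.toMonoidHom
      left_inv := fun φ => MonoidHom.ext fun u => by simp
      right_inv := fun φ => MonoidHom.ext fun u => by simp }
  have hgs : ∀ φ, g * proj S.conjHom φ = proj S.conjHom (s φ) * g := fun φ => mul_proj_of_conj hg φ
  have hsw : ∀ y, s (w y) = w (σ y) := by
    intro y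
    refine MonoidHom.ext fun u => Units.ext (smul_cancel ρ (σ y) ?_)
    show (w y (σU.symm u) : k) • ρ (σ y) = (w (σ y) u : k) • ρ (σ y)
    have h := congrArg (fun G : Module.End k (Module.End k V) => G (ρ y)) (hg (σU.symm u))
    simp only [Module.End.mul_apply, hw, hg_apply, mul_smul_comm, smul_mul_assoc, ← hcompat', MulEquiv.apply_symm_apply] at h
    exact h
  have hspow : ∀ n y, (s ^ n) (w y) = w ((σ ^ n) y) := by
    intro n
    induction n with
    | zero => simp
    | succ n ih => intro y; rw [pow_succ', Equiv.Perm.mul_apply, ih, hsw, pow_succ', MulAut.mul_apply]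
  have hpow : ∀ n x, T ^ n * ρ x = ρ ((σ ^ n) x) * T ^ n := by
    intro n
    induction n with
    | zero => simp
    | succ n ih =>
      intro x
      rw [pow_succ', mul_assoc, ih, ← mul_assoc, hcompat, mul_assoc, pow_succ', MulAut.mul_apply]
  have hwy : ∀ φ, ∃ y, φ = w y := fun φ => by
    obtain ⟨y, hy⟩ := hall φ
    exact ⟨y, MonoidHom.ext fun u => Units.ext (smul_cancel ρ y (by rw [← hy, ← hw]))⟩
  have hsp : s ^ P = 1 := by
    refine Equiv.ext fun φ => ?_
    obtain ⟨y, rfl⟩ := hwy φ
    rw [hspow, Equiv.Perm.one_apply]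
    have hρ : ρ ((σ ^ P) y) = ρ y := by
      have := hpow P y
      rw [hT, one_mul, mul_one] at this
      exact this.symm
    refine MonoidHom.ext fun u => Units.ext (smul_cancel ρ y ?_)
    rw [← hw y u, ← hρ, ← hw]
  have := finite_chars (U := Q ⧸ N) hU'
  have hperiod : ∀ φ : Q ⧸ N →* kˣ, φ ≠ 1 → Function.minimalPeriod s φ = P := by
    intro φ hφ
    have hd : Function.minimalPeriod s φ ∣ P := by
      refine Function.IsPeriodicPt.minimalPeriod_dvd ?_
      show (s : _ → _)^[P] φ = φ
      rw [← Equiv.Perm.coe_pow, hsp, Equiv.Perm.one_apply]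
    obtain ⟨j, hjl, hj⟩ := (Nat.dvd_prime_pow hq).mp hd
    rcases hjl.lt_or_eq with hlt | rfl
    swap
    · exact hj
    exfalso
    have hfix : (s ^ q ^ (L - 1)) φ = φ := by
      rw [Equiv.Perm.coe_pow]
      exact Function.isPeriodicPt_iff_minimalPeriod_dvd.mpr
        (hj ▸ Nat.pow_dvd_pow q (Nat.le_sub_one_of_lt hlt))
    obtain ⟨y, rfl⟩ := hwy φ
    rw [hspow] at hfix
    have hyN : y ∈ N := hfpf y (by rw [← hker, MonoidHom.mem_ker, map_mul, map_inv, hfix, inv_mul_cancel])
    exact hφ (MonoidHom.mem_ker.mp (hker.symm ▸ hyN))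
  have hs1 : ∀ n : ℕ, (s ^ n) 1 = 1 := fun n => by
    induction n with
    | zero => rfl
    | succ n ih => rw [pow_succ', Equiv.Perm.mul_apply, ih]; exact MonoidHom.ext fun u => rfl
  let H := Subgroup.zpowers s
  let Ω := MulAction.orbitRel.Quotient H (Q ⧸ N →* kˣ)
  let _ := Fintype.ofFinite Ω
  let _ := Fintype.ofFinite (Q ⧸ N →* kˣ)
  let ω₀ : Ω := Quotient.mk'' 1
  have hord : IsOfFinOrder s := isOfFinOrder_iff_pow_eq_one.mpr ⟨P, hP, hsp⟩
  have hout : ∀ φ : Q ⧸ N →* kˣ, ∃ n : ℕ, (s ^ n) (Quotient.mk'' φ : Ω).out = φ := by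
    intro φ
    obtain ⟨⟨h, hh⟩, hhφ⟩ : φ ∈ MulAction.orbit H (Quotient.mk'' φ : Ω).out :=
      (MulAction.orbit_eq_iff.mpr
        (MulAction.orbitRel_apply.mp (Quotient.mk_out (s := MulAction.orbitRel H _) φ))).symm ▸
        MulAction.mem_orbit_self φ
    obtain ⟨n, rfl⟩ := hord.mem_powers_iff_mem_zpowers.mpr hh
    exact ⟨n, hhφ⟩
  have hone : ∀ ω : Ω, ω ≠ ω₀ → ω.out ≠ 1 := fun ω hω h => hω (by
    rw [← Quotient.out_eq' ω, h])
  have hmk : ∀ (n : ℕ) (φ : Q ⧸ N →* kˣ), (Quotient.mk'' ((s ^ n) φ) : Ω) = Quotient.mk'' φ := fun n φ =>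
    Quotient.sound' (show (s ^ n) φ ∈ MulAction.orbit H φ from ⟨⟨s ^ n, n, zpow_natCast s n⟩, rfl⟩)
  -- the orbits, parametrised
  let F0 : Ω × ℕ → (Q ⧸ N →* kˣ) := fun p => (s ^ p.2) p.1.out
  have hinjOn : Set.InjOn F0 ↑((Finset.univ.erase ω₀) ×ˢ Finset.range P) := by
    rintro ⟨ω, i⟩ hp ⟨ω', i'⟩ hp' h
    simp only [Finset.coe_product, Set.mem_prod, Finset.coe_range, Set.mem_Iio, Finset.mem_coe,
      Finset.mem_erase] at hp hp'
    have hω : ω = ω' := by
      have := congrArg (Quotient.mk'' : _ → Ω) h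
      simp only [F0] at this
      rwa [hmk, hmk, Quotient.out_eq', Quotient.out_eq'] at this
    subst hω
    simp only [F0, Equiv.Perm.coe_pow] at h
    rw [Function.iterate_eq_iterate_iff_of_lt_minimalPeriod (by rw [hperiod _ (hone ω hp.1.1)]; exact hp.2)
      (by rw [hperiod _ (hone ω hp.1.1)]; exact hp'.2)] at h
    rw [h]
  have himage : ((Finset.univ.erase ω₀) ×ˢ Finset.range P).image F0 = Finset.univ.erase 1 := by
    ext φ
    simp only [Finset.mem_image, Finset.mem_product, Finset.mem_erase, Finset.mem_univ, and_true,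
      Finset.mem_range]
    constructor
    · rintro ⟨⟨ω, i⟩, ⟨hω, -⟩, rfl⟩ h
      exact hone ω hω ((s ^ i).injective (h.trans (hs1 i).symm))
    · intro hφ1
      obtain ⟨n, hn⟩ := hout φ
      have hω : (Quotient.mk'' φ : Ω) ≠ ω₀ := fun h => hφ1 (by
        obtain ⟨m, hm⟩ := hout 1
        rw [show (Quotient.mk'' (1 : Q ⧸ N →* kˣ) : Ω) = Quotient.mk'' φ from h.symm] at hm
        have : (Quotient.mk'' φ : Ω).out = 1 := (s ^ m).injective (hm.trans (hs1 m).symm)
        rw [← hn, this, hs1])
      refine ⟨(Quotient.mk'' φ, n % P), ⟨hω, Nat.mod_lt n hP⟩, ?_⟩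
      show (s ^ (n % P)) _ = φ
      conv_rhs => rw [← hn, ← Nat.mod_add_div n P, pow_add, pow_mul, hsp, one_pow, mul_one]
  have hidx : N.index = (Fintype.card Ω - 1) * P + 1 := by
    have h := congrArg Finset.card himage
    rw [Finset.card_image_of_injOn hinjOn, Finset.card_product, Finset.card_range,
      Finset.card_erase_of_mem (Finset.mem_univ _), Finset.card_univ,
      Finset.card_erase_of_mem (Finset.mem_univ _), Finset.card_univ] at h
    rw [h, ← Nat.card_eq_fintype_card, card_chars hU']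
    show N.index = N.index - 1 + 1
    omega
  have hgpow : ∀ (i : ℕ) f, (g ^ i) f = T ^ i * f * T' ^ i := by
    intro i
    induction i with
    | zero => simp
    | succ i ih =>
      intro f
      rw [pow_succ', Module.End.mul_apply, ih, hg_apply, pow_succ' T, pow_succ T']
      simp only [mul_assoc]
  have hgsi : ∀ (i : ℕ) φ, g ^ i * proj S.conjHom φ = proj S.conjHom ((s ^ i) φ) * g ^ i := by
    intro i
    induction i with
    | zero => simp
    | succ i ih =>
      intro φ
      rw [pow_succ' g, mul_assoc, ih, ← mul_assoc, hgs, mul_assoc, pow_succ' s, Equiv.Perm.mul_apply]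
  have hfix : ∀ f, Commute (T - 1) f → g f = f := fun f hf => by
    have h := hf.add_left (Commute.one_left f)
    rw [sub_add_cancel] at h
    rw [hg_apply, h.eq, mul_assoc, hTT, mul_one]
  have hfixn : ∀ f, g f = f → ∀ i : ℕ, (g ^ i) f = f := fun f hf i => by
    induction i with
    | zero => rfl
    | succ i ih => rw [pow_succ', Module.End.mul_apply, ih, hf]
  have hsum0 : ∑ i ∈ Finset.range P, T ^ i = 0 := by
    rw [hPdef, sum_pow_eq hqk, show q ^ L - 1 = r + (q ^ L - 1 - r) by omega, pow_add, hr, zero_mul]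
  have hproj1 : ∀ f, ∃ c : k, proj S.conjHom 1 f = c • 1 := fun f => by
    refine exists_scalar_of_irreducible hirr _ fun x => ?_
    have := (mem_range_iff hU').mp (LinearMap.mem_range_self (proj S.conjHom 1) f) (x : Q ⧸ N)
    rw [S.conjHom_apply, MonoidHom.one_apply, Units.val_one, one_smul] at this
    show ρ x * proj S.conjHom 1 f = proj S.conjHom 1 f * ρ x
    conv_rhs => rw [← this, mul_assoc (ρ x * _) (ρ x⁻¹) (ρ x), ← map_mul ρ x⁻¹ x, inv_mul_cancel, map_one, mul_one]
  have hsc : ∀ f, Commute (T - 1) f → ∃ c : k, ∀ v, (T - 1) v = 0 → f v = c • v := by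
    intro f hf
    obtain ⟨c, hc⟩ := hproj1 f
    refine ⟨c, fun v hv => ?_⟩
    have hTv : T v = v := sub_eq_zero.mp hv
    have hT'v : T' v = v := by
      conv_lhs => rw [← hTv, ← Module.End.mul_apply, hT'T, Module.End.one_apply]
    have hT'i : ∀ i : ℕ, (T' ^ i) v = v := fun i => by
      induction i with
      | zero => rfl
      | succ i ih => rw [pow_succ, Module.End.mul_apply, hT'v, ih]
    let h0 : Module.End k V := ∑ ω ∈ Finset.univ.erase ω₀, proj S.conjHom (ω : Ω).out f
    have hdec : f = proj S.conjHom 1 f + ∑ i ∈ Finset.range P, (g ^ i) h0 := by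
      have h1 : (∑ φ : Q ⧸ N →* kˣ, proj S.conjHom φ) f = f := by rw [sum_proj hU', Module.End.one_apply]
      rw [← Finset.add_sum_erase _ _ (Finset.mem_univ 1), LinearMap.add_apply, LinearMap.sum_apply,
        ← himage, Finset.sum_image hinjOn, Finset.sum_product, Finset.sum_comm] at h1
      conv_lhs => rw [← h1]
      refine congrArg (_ + ·) (Finset.sum_congr rfl fun i _ => ?_)
      rw [map_sum]
      refine Finset.sum_congr rfl fun ω _ => ?_
      have := congrArg (fun G : Module.End k (Module.End k V) => G f) (hgsi i (ω : Ω).out)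
      simp only [Module.End.mul_apply, hfixn f (hfix f hf) i] at this
      exact this.symm
    rw [hdec, LinearMap.add_apply, hc, LinearMap.sum_apply, LinearMap.smul_apply, Module.End.one_apply]
    have : ∑ i ∈ Finset.range P, (g ^ i) h0 v = (∑ i ∈ Finset.range P, T ^ i) (h0 v) := by
      rw [LinearMap.sum_apply]
      exact Finset.sum_congr rfl fun i _ => by rw [hgpow, Module.End.mul_apply, Module.End.mul_apply, hT'i]
    rw [this, hsum0, LinearMap.zero_apply, add_zero]
  obtain ⟨hn1, hn2⟩ := single_block (T - 1) hr hsc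
  have hupper : Module.finrank k (commutant (T - 1)) ≤ Fintype.card Ω := by
    calc Module.finrank k (commutant (T - 1))
        ≤ Module.finrank k ((ω : Ω) → LinearMap.range (proj S.conjHom ω.out)) := by
          refine LinearMap.finrank_le_finrank_of_injective
            (f := LinearMap.pi fun ω : Ω => (proj S.conjHom ω.out).rangeRestrict ∘ₗ (commutant (T - 1)).subtype) ?_
          rw [← LinearMap.ker_eq_bot, Submodule.eq_bot_iff]
          intro f hf
          refine Subtype.ext (eq_zero_of_forall_proj hU' S.conjHom fun φ => ?_)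
          obtain ⟨n, hn⟩ := hout φ
          have h1 := congrArg (fun G : Module.End k (Module.End k V) => G (f : Module.End k V))
            (hgsi n (Quotient.mk'' φ : Ω).out)
          have h2 : proj S.conjHom (Quotient.mk'' φ : Ω).out (f : Module.End k V) = 0 :=
            congrArg Subtype.val (congrFun (LinearMap.mem_ker.mp hf) (Quotient.mk'' φ : Ω))
          simp only [Module.End.mul_apply, hfixn _ (hfix _ (mem_commutant.mp f.2)) n, h2, map_zero, hn] at h1
          exact h1.symm
      _ = Fintype.card Ω := by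
          rw [Module.finrank_pi_fintype, Finset.sum_congr rfl fun ω _ => huni _, Finset.sum_const,
            Finset.card_univ, smul_eq_mul, hD, mul_one]
  rw [hidx] at hsqi ⊢
  generalize Module.finrank k V = n at hsqi hn1 hn2
  replace hn2 := hn2.trans hupper
  rcases n with _ | _ | u
  · omega
  · left; omega
  · refine Or.inr ⟨u + 2, ?_, hsqi, hn1⟩
    have h1 : (u + 1) * P ≤ (u + 1) * (u + 3) := by
      have : (u + 1) * P ≤ (Fintype.card Ω - 1) * P := Nat.mul_le_mul_right _ (by omega)
      nlinarith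
    have := Nat.le_of_mul_le_mul_left h1 (Nat.succ_pos u)
    omega

/-- The count for an arbitrary setting; in the exceptional case the commutant of the setting commutes with `T`. -/
theorem count_exact_commutant (S : Setting ρ N) [N.Normal] (hU : (N.index : k) ≠ 0)
    {q L : ℕ} [Fact q.Prime] (hL : 0 < L) (hqk : (q : k) = 0) (σ : MulAut Q) (T : Module.End k V)
    (hT : T ^ (q ^ L) = 1) {r : ℕ} (hr : (T - 1) ^ r = 0) (hrP : r < q ^ L)
    (hcompat : ∀ x, T * ρ x = ρ (σ x) * T)
    (hfpf : ∀ x, x⁻¹ * (σ ^ q ^ (L - 1)) x ∈ N → x ∈ N) :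
    N.index = 1 ∨ (∃ n, q ^ L = n + 1 ∧ N.index = n * n ∧ n ≤ r) ∧
      ∀ f : Module.End k V, (∀ x, Commute (ρ x) f) → Commute f T := by
  classical
  have hq : q.Prime := Fact.out
  set P := q ^ L with hPdef
  have hP : 0 < P := pow_pos hq.pos L
  -- an irreducible submodule
  have hex : ∃ d, ∃ W : Submodule k V, W ≠ ⊥ ∧ (∀ x, ∀ v ∈ W, ρ x v ∈ W) ∧ Module.finrank k W = d :=
    ⟨_, ⊤, top_ne_bot, fun _ _ _ => Submodule.mem_top, rfl⟩
  obtain ⟨W, hW0, hWinv, hWd⟩ := Nat.find_spec hex
  let ρW : Q →* Module.End k W :=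
    { toFun := fun x => (ρ x).restrict (hWinv x)
      map_one' := LinearMap.ext fun v => Subtype.ext (by simp)
      map_mul' := fun x y => LinearMap.ext fun v => Subtype.ext (by simp) }
  have : Nontrivial W := Submodule.nontrivial_iff_ne_bot.mpr hW0
  have SW : Setting ρW N := by
    refine ⟨fun x y => ?_, fun x hx => ?_, fun x hx => ?_⟩
    · obtain ⟨c, hc⟩ := S.comm x y
      exact ⟨c, LinearMap.ext fun v => Subtype.ext (congrArg (fun f : Module.End k V => f v) hc)⟩
    · obtain ⟨c, hc⟩ := S.scal x hx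
      exact ⟨c, LinearMap.ext fun v => Subtype.ext (congrArg (fun f : Module.End k V => f v) hc)⟩
    · refine S.nondeg x fun y => ?_
      obtain ⟨c, hc⟩ := S.comm x y
      have hcW : ρW ⁅x, y⁆ = c • 1 :=
        LinearMap.ext fun v => Subtype.ext (congrArg (fun f : Module.End k V => f v) hc)
      have h1 : ρW ⁅x, y⁆ = 1 := by
        rw [commutatorElement_def, map_mul, map_mul, map_mul, (hx y).eq, mul_assoc (ρW y),
          ← map_mul ρW x, mul_inv_cancel, map_one, mul_one, ← map_mul, mul_inv_cancel, map_one]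
      rw [hcW] at h1
      have hc1 : c = 1 :=
        smul_left_injective k (one_ne_zero (α := Module.End k W))
          (by simpa only [one_smul] using h1)
      rw [hc1, one_smul] at hc
      show ρ x * ρ y = ρ y * ρ x
      have : ρ (x * y) = ρ (⁅x, y⁆ * (y * x)) := by rw [commutatorElement_def]; group
      rw [← map_mul, this, map_mul, hc, one_mul, map_mul]
  have hirr : ∀ W' : Submodule k W, (∀ x, ∀ v ∈ W', ρW x v ∈ W') → W' = ⊥ ∨ W' = ⊤ := by
    intro W' hW'
    by_cases h0 : W' = ⊥
    · exact Or.inl h0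
    · refine Or.inr ?_
      have hinv : ∀ x, ∀ v ∈ W'.map W.subtype, ρ x v ∈ W'.map W.subtype := by
        rintro x _ ⟨v, hv, rfl⟩
        exact ⟨ρW x v, hW' x v hv, rfl⟩
      have hne : W'.map W.subtype ≠ ⊥ := fun h => h0 (by
        rwa [← Submodule.finrank_eq_zero, Submodule.finrank_map_subtype_eq, Submodule.finrank_eq_zero] at h)
      have := Nat.find_min' hex ⟨_, hne, hinv, rfl⟩
      rw [← hWd, Submodule.finrank_map_subtype_eq] at this
      exact Submodule.eq_top_of_finrank_eq (le_antisymm (Submodule.finrank_le _) this)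
  -- the algebra spanned by the group
  let A : Submodule k (Module.End k V) := Submodule.span k (Set.range ρ)
  have hρA : ∀ x, ρ x ∈ A := fun x => Submodule.subset_span ⟨x, rfl⟩
  have hAmul : ∀ a ∈ A, ∀ b ∈ A, a * b ∈ A := by
    intro a ha b hb
    induction ha using Submodule.span_induction with
    | mem a ha =>
      obtain ⟨x, rfl⟩ := ha
      induction hb using Submodule.span_induction with
      | mem b hb => obtain ⟨y, rfl⟩ := hb; rw [← map_mul]; exact hρA _
      | zero => rw [mul_zero]; exact zero_mem _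
      | add b b' _ _ h h' => rw [mul_add]; exact add_mem h h'
      | smul c b _ h => rw [mul_smul_comm]; exact A.smul_mem _ h
    | zero => rw [zero_mul]; exact zero_mem _
    | add a a' _ _ h h' => rw [add_mul]; exact add_mem h h'
    | smul c a _ h => rw [smul_mul_assoc]; exact A.smul_mem _ h
  have hAW : ∀ a ∈ A, ∀ v ∈ W, a v ∈ W := by
    intro a ha v hv
    induction ha using Submodule.span_induction with
    | mem a ha => obtain ⟨x, rfl⟩ := ha; exact hWinv x v hv
    | zero => exact zero_mem _
    | add a a' _ _ h h' => exact add_mem h h'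
    | smul c a _ h => exact W.smul_mem _ h
  let res : A →ₗ[k] Module.End k W :=
    { toFun := fun a => (a : Module.End k V).restrict (hAW a a.2)
      map_add' := fun _ _ => rfl
      map_smul' := fun _ _ => rfl }
  have hresρ : ∀ x, res ⟨ρ x, hρA x⟩ = ρW x := fun x => rfl
  let _ := Fintype.ofFinite (Q ⧸ N)
  have hAdim : Module.finrank k A ≤ Module.finrank k (Module.End k W) := by
    rw [Module.finrank_linearMap, ← SW.index_eq_sq hU hirr]
    have hle : A ≤ Submodule.span k (Set.range fun u : Q ⧸ N => ρ u.out) := by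
      refine Submodule.span_le.mpr ?_
      rintro _ ⟨x, rfl⟩
      set u : Q ⧸ N := (x : Q ⧸ N)
      have hm : u.out⁻¹ * x ∈ N := QuotientGroup.eq.mp (Quotient.out_eq' u)
      obtain ⟨c, hc⟩ := S.scal _ hm
      rw [← mul_inv_cancel_left u.out x, map_mul, hc, mul_smul_comm, mul_one]
      exact Submodule.smul_mem _ _ (Submodule.subset_span ⟨u, rfl⟩)
    refine (Submodule.finrank_mono hle).trans ((finrank_range_le_card _).trans ?_)
    rw [← Nat.card_eq_fintype_card]
    rfl
  have hsurj : Function.Surjective res := by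
    intro f
    let _ := SW.quotComm
    have hU' : (Nat.card (Q ⧸ N) : k) ≠ 0 := hU
    have := finite_chars (U := Q ⧸ N) hU'
    let _ := Fintype.ofFinite (Q ⧸ N →* kˣ)
    obtain ⟨huni, hsq, hall⟩ := SW.weights_uniform hU
    have hD : Module.finrank k (LinearMap.range (proj SW.conjHom 1)) = 1 := by
      rw [← SW.index_eq_sq hU hirr] at hsq
      have hpos : 0 < N.index := Nat.pos_of_ne_zero fun h => hU (by rw [h, Nat.cast_zero])
      exact (Nat.eq_of_mul_eq_mul_left hpos (by rw [mul_one]; exact hsq)).symm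
    suffices f ∈ LinearMap.range res from this
    have h1 : (∑ φ : Q ⧸ N →* kˣ, proj SW.conjHom φ) f = f := by rw [sum_proj hU', Module.End.one_apply]
    rw [← h1, LinearMap.sum_apply]
    refine Submodule.sum_mem _ fun φ _ => ?_
    obtain ⟨y, hy⟩ := hall φ
    have hyr : ρW y ∈ LinearMap.range (proj SW.conjHom φ) := (mem_range_iff hU').mpr hy
    have hy0 : ρW y ≠ 0 := fun h => one_ne_zero (α := Module.End k W) (by
      rw [← map_one ρW, ← inv_mul_cancel y, map_mul, h, mul_zero])
    have hspan : Submodule.span k {ρW y} = LinearMap.range (proj SW.conjHom φ) :=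
      Submodule.eq_of_le_of_finrank_eq ((Submodule.span_singleton_le_iff_mem _ _).mpr hyr)
        (by rw [finrank_span_singleton hy0, huni, hD])
    obtain ⟨c, hc⟩ := Submodule.mem_span_singleton.mp (hspan.ge (LinearMap.mem_range_self _ f))
    exact ⟨c • ⟨ρ y, hρA y⟩, by rw [map_smul, hresρ, hc]⟩
  have hfr : Module.finrank k A = Module.finrank k (Module.End k W) := by
    refine le_antisymm hAdim ?_
    have := LinearMap.finrank_range_le res
    rwa [LinearMap.range_eq_top.mpr hsurj, finrank_top] at this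
  have hinj : Function.Injective res :=
    (LinearMap.injective_iff_surjective_of_finrank_eq_finrank hfr).mpr hsurj
  let Φ : Module.End k W ≃ₗ[k] A := (LinearEquiv.ofBijective res ⟨hinj, hsurj⟩).symm
  have hresΦ : ∀ f, res (Φ f) = f := fun f => (LinearEquiv.ofBijective res ⟨hinj, hsurj⟩).apply_symm_apply f
  have hΦρ : ∀ x, (Φ (ρW x) : Module.End k V) = ρ x := fun x => by
    rw [show Φ (ρW x) = ⟨ρ x, hρA x⟩ from hinj (by rw [hresΦ, hresρ])]
  have hΦmul : ∀ f h, (Φ (f * h) : Module.End k V) = (Φ f : Module.End k V) * (Φ h : Module.End k V) := fun f h => by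
    have : Φ (f * h) = ⟨_, hAmul _ (Φ f).2 _ (Φ h).2⟩ := hinj (by
      rw [hresΦ]
      conv_lhs => rw [← hresΦ f, ← hresΦ h]
      exact LinearMap.ext fun v => Subtype.ext rfl)
    rw [this]
  -- the intertwiner on `W`
  let Tu : (Module.End k V)ˣ := Units.ofPowEqOne T P hT hP.ne'
  let T' : Module.End k V := ((Tu⁻¹ : (Module.End k V)ˣ) : Module.End k V)
  have hTT : T * T' = 1 := Tu.mul_inv
  have hT'T : T' * T = 1 := Tu.inv_mul
  have hTA : ∀ a ∈ A, T * a * T' ∈ A := by
    intro a ha
    induction ha using Submodule.span_induction with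
    | mem a ha => obtain ⟨x, rfl⟩ := ha; rw [hcompat, mul_assoc, hTT, mul_one]; exact hρA _
    | zero => rw [mul_zero, zero_mul]; exact zero_mem _
    | add a a' _ _ h h' => rw [mul_add, add_mul]; exact add_mem h h'
    | smul c a _ h => rw [mul_smul_comm, smul_mul_assoc]; exact A.smul_mem _ h
  let α : Module.End k W →ₗ[k] Module.End k W := res ∘ₗ
    ((LinearMap.mulLeft k T ∘ₗ LinearMap.mulRight k T' ∘ₗ A.subtype ∘ₗ Φ.toLinearMap).codRestrict A
      fun f => by simpa [mul_assoc] using hTA _ (Φ f).2)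
  have hα : ∀ f (v : W), ((α f v : W) : V) = (T * (Φ f : Module.End k V) * T') v := fun f v => by
    show (T * ((Φ f : Module.End k V) * T')) v = _
    rw [mul_assoc]
  have hαρ : ∀ x f, α (ρW x * f) = ρW (σ x) * α f := fun x f => LinearMap.ext fun v => Subtype.ext (by
    show _ = ρ (σ x) ((α f v : W) : V)
    rw [hα, hα, hΦmul, hΦρ, ← mul_assoc T, hcompat]
    simp [mul_assoc])
  have hαinj : Function.Injective α := by
    intro f h hfh
    refine Φ.injective (Subtype.ext ?_)
    have h' : res ⟨T * (Φ f : Module.End k V) * T', hTA _ (Φ f).2⟩ = res ⟨T * (Φ h : Module.End k V) * T', hTA _ (Φ h).2⟩ := by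
      refine LinearMap.ext fun v => Subtype.ext ?_
      rw [show ((res _ v : W) : V) = (T * (Φ f : Module.End k V) * T') v from rfl, ← hα, hfh, hα]
      rfl
    have h2 := congrArg (fun z => T' * z * T) (congrArg Subtype.val (hinj h'))
    simpa [mul_assoc, hT'T, ← mul_assoc T' T] using h2
  obtain ⟨v0, hv0⟩ := exists_ne (0 : W)
  obtain ⟨φ, hφ⟩ := Module.Projective.exists_dual_eq_one k hv0
  have hE : φ.smulRight v0 ≠ (0 : Module.End k W) := fun h => hv0 (by
    have := congrArg (fun f : Module.End k W => f v0) h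
    simpa [hφ] using this)
  obtain ⟨z, hz⟩ : ∃ z, α (φ.smulRight v0) z ≠ 0 := by
    by_contra h
    push Not at h
    exact hE (hαinj (by rw [map_zero]; exact LinearMap.ext h))
  let a : Module.End k W := (LinearMap.applyₗ z) ∘ₗ α ∘ₗ LinearMap.smulRightₗ φ
  have hacomp : ∀ x, a * ρW x = ρW (σ x) * a := fun x => LinearMap.ext fun v => by
    show α (φ.smulRight (ρW x v)) z = ρW (σ x) (α (φ.smulRight v) z)
    rw [← Module.End.mul_apply (ρW (σ x)), ← hαρ]
    congr 2
    exact LinearMap.ext fun u => by simp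
  have ha0 : a ≠ 0 := fun h => hz (congrArg (fun f : Module.End k W => f v0) h)
  have hainj : Function.Injective a := by
    rw [← LinearMap.ker_eq_bot]
    refine (hirr _ fun x v hv => ?_).resolve_right fun h => ha0 (LinearMap.ker_eq_top.mp h)
    rw [LinearMap.mem_ker] at hv ⊢
    rw [← Module.End.mul_apply, hacomp, Module.End.mul_apply, hv, map_zero]
  have hTpow : ∀ n x, T ^ n * ρ x = ρ ((σ ^ n) x) * T ^ n := by
    intro n
    induction n with
    | zero => simp
    | succ n ih =>
      intro x
      rw [pow_succ', mul_assoc, ih, ← mul_assoc, hcompat, mul_assoc, pow_succ', MulAut.mul_apply]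
  have hσP : ∀ x, ρ ((σ ^ P) x) = ρ x := fun x => by
    have := hTpow P x
    rw [hT, one_mul, mul_one] at this
    exact this.symm
  have hpowgen : ∀ (b : Module.End k W), (∀ x, b * ρW x = ρW (σ x) * b) →
      ∀ n x, b ^ n * ρW x = ρW ((σ ^ n) x) * b ^ n := by
    intro b hb n
    induction n with
    | zero => simp
    | succ n ih =>
      intro x
      rw [pow_succ', mul_assoc, ih, ← mul_assoc, hb, mul_assoc, pow_succ', MulAut.mul_apply]
  obtain ⟨c, hc⟩ := exists_scalar_of_irreducible hirr (a ^ P) fun x => by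
    show ρW x * a ^ P = a ^ P * ρW x
    rw [hpowgen a hacomp P x]
    congr 1
    exact LinearMap.ext fun v => Subtype.ext (congrArg (fun f : Module.End k V => f v) (hσP x)).symm
  have hc0 : c ≠ 0 := fun h => by
    have hi : Function.Injective (a ^ P : Module.End k W) := by
      rw [Module.End.coe_pow]
      exact hainj.iterate P
    exact hv0 (hi (by rw [hc, h, zero_smul, LinearMap.zero_apply, LinearMap.zero_apply]))
  obtain ⟨d, hd⟩ := IsAlgClosed.exists_pow_nat_eq c hP
  have hd0 : d ≠ 0 := fun h => hc0 (by rw [← hd, h, zero_pow hP.ne'])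
  set b : Module.End k W := d⁻¹ • a with hbdef
  have hb1 : b ^ P = 1 := by
    rw [hbdef, smul_pow, hc, smul_smul, inv_pow, hd, inv_mul_cancel₀ hc0, one_smul]
  have hbcomp : ∀ x, b * ρW x = ρW (σ x) * b := fun x => by
    rw [hbdef, smul_mul_assoc, hacomp, mul_smul_comm]
  -- a fixed intertwiner
  let b' := b ^ (P - 1)
  have hb' : b' * b = 1 := by rw [← pow_succ, Nat.sub_add_cancel hP, hb1]
  let U : Submodule k (W →ₗ[k] V) :=
    { carrier := {u | ∀ x, u ∘ₗ ρW x = ρ x ∘ₗ u}
      add_mem' := fun {u u'} h h' x => by rw [LinearMap.add_comp, h x, h' x, LinearMap.comp_add]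
      zero_mem' := fun x => by rw [LinearMap.zero_comp, LinearMap.comp_zero]
      smul_mem' := fun c u h x => by rw [LinearMap.smul_comp, h x, LinearMap.comp_smul] }
  have hGU : ∀ u ∈ U, T ∘ₗ u ∘ₗ b' ∈ U := by
    intro u hu x
    have hx' : b' * ρW x = ρW ((σ ^ (P - 1)) x) * b' := hpowgen b hbcomp (P - 1) x
    refine LinearMap.ext fun v => ?_
    show T (u ((b' * ρW x) v)) = (ρ x * T) (u (b' v))
    rw [hx']
    have h1 := congrArg (fun f : W →ₗ[k] V => f (b' v)) (hu ((σ ^ (P - 1)) x))
    simp only [LinearMap.comp_apply] at h1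
    rw [Module.End.mul_apply, h1, ← Module.End.mul_apply T, hcompat, ← MulAut.mul_apply, ← pow_succ',
      Nat.sub_add_cancel hP, hσP]
  let G : Module.End k U :=
    { toFun := fun u => ⟨T ∘ₗ (u : W →ₗ[k] V) ∘ₗ b', hGU u u.2⟩
      map_add' := fun u u' => Subtype.ext (by simp [LinearMap.add_comp, LinearMap.comp_add])
      map_smul' := fun c u => Subtype.ext (by simp [LinearMap.smul_comp, LinearMap.comp_smul]) }
  have hGpow : ∀ (n : ℕ) (u : U) v, ((G ^ n) u : W →ₗ[k] V) v = (T ^ n) ((u : W →ₗ[k] V) ((b' ^ n) v)) := by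
    intro n
    induction n with
    | zero => simp
    | succ n ih =>
      intro u v
      rw [pow_succ' G, Module.End.mul_apply]
      show T (((G ^ n) u : W →ₗ[k] V) (b' v)) = _
      rw [ih, pow_succ' T, pow_succ b', Module.End.mul_apply, Module.End.mul_apply]
  have hGP : G ^ P = 1 := LinearMap.ext fun u => Subtype.ext (LinearMap.ext fun v => by
    rw [hGpow, hT, ← pow_mul, mul_comm, pow_mul, hb1, one_pow]
    rfl)
  let u0 : U := ⟨W.subtype, fun x => LinearMap.ext fun v => rfl⟩
  have hu0 : u0 ≠ 0 := fun h => hv0 (Subtype.ext (congrArg (fun f : U => (f : W →ₗ[k] V) v0) h))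
  obtain ⟨u, hu, hu1⟩ : ∃ u : U, u ≠ 0 ∧ G u = u := by
    by_contra hno
    push Not at hno
    have hG1 : Function.Injective (G - 1 : Module.End k U) := by
      rw [← LinearMap.ker_eq_bot, Submodule.eq_bot_iff]
      intro u hu
      by_contra h0
      exact hno u h0 (sub_eq_zero.mp hu)
    have h0 : (G - 1) ^ P = 0 := by
      have h1 := sum_pow_eq hqk L G
      rw [← hPdef] at h1
      rw [← Nat.sub_add_cancel hP, pow_succ, ← h1]
      exact (geom_sum_mul G P).trans (by rw [hGP, sub_self])
    exact hu0 ((Module.End.coe_pow (G - 1) P ▸ hG1.iterate P :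
      Function.Injective ((G - 1) ^ P : Module.End k U)) (by rw [h0, LinearMap.zero_apply, LinearMap.zero_apply]))
  have huinj : Function.Injective (u : W →ₗ[k] V) := by
    rw [← LinearMap.ker_eq_bot]
    refine (hirr _ fun x v hv => ?_).resolve_right fun h => hu (Subtype.ext (LinearMap.ker_eq_top.mp h))
    rw [LinearMap.mem_ker] at hv ⊢
    have := congrArg (fun f : W →ₗ[k] V => f v) (u.2 x)
    simpa [hv] using this
  have hub : ∀ v, (u : W →ₗ[k] V) (b v) = T ((u : W →ₗ[k] V) v) := fun v => by
    conv_lhs => rw [← hu1]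
    show T ((u : W →ₗ[k] V) (b' (b v))) = _
    rw [← Module.End.mul_apply, hb', Module.End.one_apply]
  have hbr : (b - 1) ^ r = 0 := by
    have : ∀ (j : ℕ) v, (u : W →ₗ[k] V) (((b - 1) ^ j) v) = ((T - 1) ^ j) ((u : W →ₗ[k] V) v) := by
      intro j
      induction j with
      | zero => intro v; rfl
      | succ j ih =>
        intro v
        rw [pow_succ', pow_succ', Module.End.mul_apply, Module.End.mul_apply, ← ih]
        simp [hub]
    refine LinearMap.ext fun v => huinj ?_
    rw [this, hr, LinearMap.zero_apply, LinearMap.zero_apply, map_zero]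
  rcases irreducible_count SW hU hirr hL hqk σ b hb1 hbr hrP hbcomp hfpf with h1 | ⟨n, hPn, hidx, hnr⟩
  · exact Or.inl h1
  refine Or.inr ⟨⟨n, hPn, hidx, hnr⟩, ?_⟩
  rcases Nat.eq_zero_or_pos n with rfl | hn0
  · rw [hidx] at hU
    exact absurd Nat.cast_zero hU
  have hrn : r ≤ n := by omega
  have hbn : (b - 1) ^ n = 0 := by
    rw [← Nat.add_sub_cancel' hrn, pow_add, hbr, zero_mul]
  have hTn : (T - 1) ^ n = 0 := by
    rw [← Nat.add_sub_cancel' hrn, pow_add, hr, zero_mul]
  have hbn1 : (b - 1) ^ (n - 1) ≠ 0 := fun h => by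
    rcases irreducible_count SW hU hirr hL hqk σ b hb1 h (show n - 1 < P by omega) hbcomp hfpf with
      h1 | ⟨n', -, hidx', hn'⟩
    · rw [hidx] at h1
      have : n = 1 := Nat.eq_one_of_mul_eq_one_right h1
      rw [this, Nat.sub_self, pow_zero] at h
      exact one_ne_zero h
    · rw [hidx] at hidx'
      have := Nat.mul_self_inj.mp hidx'
      omega
  have hG1 : ∀ u : U, G u = u := by
    intro u
    by_contra hne
    let E : Module.End k U := G - 1
    have hE0 : E ^ P = 0 := by
      have h1 := sum_pow_eq hqk L G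
      rw [← hPdef] at h1
      rw [← Nat.sub_add_cancel hP, pow_succ, ← h1]
      exact (geom_sum_mul G P).trans (by rw [hGP, sub_self])
    have hex : ∃ j, (E ^ j) u = 0 := ⟨P, by rw [hE0, LinearMap.zero_apply]⟩
    have h0 : Nat.find hex ≠ 0 := fun h => hne (by
      have h' := Nat.find_spec hex
      rw [h, pow_zero, Module.End.one_apply] at h'
      rw [h', map_zero])
    have h1' : Nat.find hex ≠ 1 := fun h => hne (by
      have h' := Nat.find_spec hex
      rw [h, pow_one] at h'
      exact sub_eq_zero.mp h')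
    obtain ⟨j, hj⟩ : ∃ j, Nat.find hex = j + 2 := ⟨Nat.find hex - 2, by omega⟩
    have hu0ne : (E ^ (j + 1)) u ≠ 0 := Nat.find_min hex (by omega)
    have hu0fix : E ((E ^ (j + 1)) u) = 0 := by
      rw [← Module.End.mul_apply, ← pow_succ']
      exact hj ▸ Nat.find_spec hex
    set w0 : U := (E ^ (j + 1)) u with hw0
    set w1 : U := (E ^ j) u with hw1
    have hw10 : E w1 = w0 := by rw [hw0, hw1, ← Module.End.mul_apply, ← pow_succ']
    have hgen : ∀ (w : U) v, T ((w : W →ₗ[k] V) v) = ((G w : U) : W →ₗ[k] V) (b v) := fun w v => by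
      show _ = T ((w : W →ₗ[k] V) (b' (b v)))
      rw [← Module.End.mul_apply b', hb', Module.End.one_apply]
    have hG0 : G w0 = w0 := sub_eq_zero.mp hu0fix
    have hGw1 : G w1 = w1 + w0 := by
      rw [← hw10]
      show G w1 = w1 + (G w1 - w1)
      abel
    have hT0 : ∀ v, T ((w0 : W →ₗ[k] V) v) = (w0 : W →ₗ[k] V) (b v) := fun v => by rw [hgen, hG0]
    have hT1 : ∀ v, T ((w1 : W →ₗ[k] V) v) = (w1 : W →ₗ[k] V) (b v) + (w0 : W →ₗ[k] V) (b v) := fun v => by
      rw [hgen, hGw1]; rfl
    have hbb : ∀ j : ℕ, Commute b ((b - 1) ^ j) := fun j =>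
      ((Commute.refl b).sub_right (Commute.one_right b)).pow_right j
    have key : ∀ j v, ((T - 1) ^ (j + 1)) ((w1 : W →ₗ[k] V) v) =
        (w1 : W →ₗ[k] V) (((b - 1) ^ (j + 1)) v) + ((j + 1 : ℕ) : k) • (w0 : W →ₗ[k] V) (b (((b - 1) ^ j) v)) := by
      intro j
      induction j with
      | zero =>
        intro v
        rw [zero_add, pow_one, pow_one, pow_zero, Nat.cast_one, one_smul, Module.End.one_apply]
        simp only [LinearMap.sub_apply, Module.End.one_apply, map_sub, hT1]
        abel
      | succ j ih =>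
        intro v
        have h2 : (b - 1) (b (((b - 1) ^ j) v)) = b (((b - 1) ^ (j + 1)) v) := by
          have hc := hbb 1
          rw [pow_one] at hc
          rw [pow_succ' (b - 1) j]
          exact (congrArg (fun g : Module.End k W => g (((b - 1) ^ j) v)) hc.eq).symm
        rw [pow_succ' (T - 1) (j + 1), Module.End.mul_apply, ih, map_add, map_smul]
        have e1 : ∀ z, (T - 1) ((w1 : W →ₗ[k] V) z) = (w1 : W →ₗ[k] V) ((b - 1) z) + (w0 : W →ₗ[k] V) (b z) :=
          fun z => by
            simp only [LinearMap.sub_apply, Module.End.one_apply, map_sub, hT1]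
            abel
        have e0 : ∀ z, (T - 1) ((w0 : W →ₗ[k] V) z) = (w0 : W →ₗ[k] V) ((b - 1) z) := fun z => by
          simp only [LinearMap.sub_apply, Module.End.one_apply, map_sub, hT0]
        rw [e1, e0, h2, ← Module.End.mul_apply (b - 1), ← pow_succ', Nat.cast_succ (j + 1), add_smul, one_smul]
        abel
    obtain ⟨v, hv⟩ : ∃ v, ((b - 1) ^ (n - 1)) v ≠ 0 := by
      by_contra h
      push Not at h
      exact hbn1 (LinearMap.ext h)
    have hk := key (n - 1) v
    rw [Nat.sub_add_cancel hn0, hTn, hbn, LinearMap.zero_apply, LinearMap.zero_apply, map_zero, zero_add] at hk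
    have hncast : ((n : ℕ) : k) ≠ 0 := fun h => by
      have := congrArg (fun m : ℕ => (m : k)) hPn
      simp only [Nat.cast_pow, hqk, zero_pow hL.ne', Nat.cast_add, h, Nat.cast_one, zero_add] at this
      exact zero_ne_one this
    have hw0inj : Function.Injective (w0 : W →ₗ[k] V) := by
      rw [← LinearMap.ker_eq_bot]
      refine (hirr _ fun x v hv => ?_).resolve_right fun h => hu0ne (Subtype.ext (LinearMap.ker_eq_top.mp h))
      rw [LinearMap.mem_ker] at hv ⊢
      have := congrArg (fun f : W →ₗ[k] V => f v) (w0.2 x)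
      simpa [hv] using this
    have h3 := (smul_eq_zero.mp hk.symm).resolve_left hncast
    have hbinj : Function.Injective b := fun v1 v2 h => by
      have := congrArg b' h
      rwa [← Module.End.mul_apply, ← Module.End.mul_apply, hb'] at this
    exact hv (hbinj (hw0inj (by rw [h3, map_zero, map_zero])))
  intro f hf
  have hagree : ∀ (u : U) v, T (f ((u : W →ₗ[k] V) v)) = f (T ((u : W →ₗ[k] V) v)) := by
    intro u v
    let u' : U := ⟨f ∘ₗ (u : W →ₗ[k] V), fun x => LinearMap.ext fun v => by
      show f ((u : W →ₗ[k] V) (ρW x v)) = ρ x (f ((u : W →ₗ[k] V) v))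
      rw [show (u : W →ₗ[k] V) (ρW x v) = ρ x ((u : W →ₗ[k] V) v) from congrArg (fun g : W →ₗ[k] V => g v) (u.2 x)]
      exact (congrArg (fun g : Module.End k V => g ((u : W →ₗ[k] V) v)) (hf x).eq).symm⟩
    have hgen : ∀ (w : U), T ((w : W →ₗ[k] V) v) = (w : W →ₗ[k] V) (b v) := fun w => by
      conv_rhs => rw [← hG1 w]
      show _ = T ((w : W →ₗ[k] V) (b' (b v)))
      rw [← Module.End.mul_apply b', hb', Module.End.one_apply]
    rw [show f ((u : W →ₗ[k] V) v) = (u' : W →ₗ[k] V) v from rfl, hgen u', hgen u]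
    rfl
  refine LinearMap.ext fun z => ?_
  show f (T z) = T (f z)
  let bas := Module.finBasis k W
  have hone : (1 : Module.End k W) = ∑ i, (bas.coord i).smulRight (bas i) := LinearMap.ext fun v => by
    simp only [LinearMap.sum_apply, LinearMap.smulRight_apply, Module.Basis.coord_apply, Module.End.one_apply]
    exact (bas.sum_repr v).symm
  have hΦ1 : (Φ (1 : Module.End k W) : Module.End k V) = 1 := by
    rw [← map_one ρW, hΦρ, map_one]
  have hz : z = ∑ i, (Φ ((bas.coord i).smulRight (bas i)) : Module.End k V) z := by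
    have hz1 : (1 : Module.End k V) z = z := rfl
    conv_lhs => rw [← hz1, ← hΦ1, hone, map_sum, Submodule.coe_sum, LinearMap.sum_apply]
  rw [hz]
  simp only [map_sum]
  refine Finset.sum_congr rfl fun i _ => (?_ : _ = _)
  let u : U := ⟨{ toFun := fun w => (Φ ((bas.coord i).smulRight w) : Module.End k V) z
                  map_add' := fun w w' => by
                    rw [show (bas.coord i).smulRight (w + w') = (bas.coord i).smulRight w + (bas.coord i).smulRight w' from
                      LinearMap.ext fun v => smul_add _ _ _, map_add]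
                    rfl
                  map_smul' := fun c w => by
                    rw [show (bas.coord i).smulRight (c • w) = c • (bas.coord i).smulRight w from
                      LinearMap.ext fun v => smul_comm _ c _, map_smul]
                    rfl }, fun x => LinearMap.ext fun v => by
      show (Φ ((bas.coord i).smulRight (ρW x v)) : Module.End k V) z = ρ x _
      rw [show (bas.coord i).smulRight (ρW x v) = ρW x * (bas.coord i).smulRight v from
        LinearMap.ext fun w => by simp, hΦmul, hΦρ]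
      rfl⟩
  exact (hagree u (bas i)).symm

/-- The count for an arbitrary setting. -/
theorem count_exact (S : Setting ρ N) [N.Normal] (hU : (N.index : k) ≠ 0)
    {q L : ℕ} [Fact q.Prime] (hL : 0 < L) (hqk : (q : k) = 0) (σ : MulAut Q) (T : Module.End k V)
    (hT : T ^ (q ^ L) = 1) {r : ℕ} (hr : (T - 1) ^ r = 0) (hrP : r < q ^ L)
    (hcompat : ∀ x, T * ρ x = ρ (σ x) * T)
    (hfpf : ∀ x, x⁻¹ * (σ ^ q ^ (L - 1)) x ∈ N → x ∈ N) :
    N.index = 1 ∨ ∃ n, q ^ L = n + 1 ∧ N.index = n * n ∧ n ≤ r :=
  (count_exact_commutant S hU hL hqk σ T hT hr hrP hcompat hfpf).imp_right And.left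

end Cfsg.Agent.H71.Exact
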