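import Cfsg.Agent.Coprime.ShultGrossKey
import Cfsg.Agent.H71.UnipotentSetting

/-!
Hall–Higman Theorem B in exact form, any prime `p`, in characteristic `p`.
-/

set_option autoImplicit false
set_option linter.style.haveILetI false
set_option linter.unusedSectionVars false
set_option maxHeartbeats 1600000

namespace Cfsg.Agent.H71.Exact

open Subgroup
open Coprime Coprime.Weights Coprime.EndBound Coprime.EndCount Coprime.FpfPrime Coprime.ShultGross
open scoped commutatorElement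

variable {k V : Type*} [Field k] [AddCommGroup V] [Module k V]

/-- In characteristic `p`, `(T - 1) ^ p ^ c = T ^ p ^ c - 1`. -/
theorem sub_one_pow_char {p : ℕ} [Fact p.Prime] (hpk : (p : k) = 0) (T : Module.End k V) (c : ℕ) :
    (T - 1) ^ p ^ c = T ^ p ^ c - 1 := by
  haveI : CharP k p := (CharP.charP_iff_prime_eq_zero (Fact.out : p.Prime)).mpr hpk
  have := congrArg (Polynomial.aeval T) (sub_pow_char_pow (p := p) (n := c) (Polynomial.X : Polynomial k) 1)
  simpa using this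

/-- The degree of `T ^ p ^ c` on a block of imprimitivity of size `p ^ c` of `T`. -/
theorem pow_sub_one_mul_eq_zero {p c r : ℕ} [Fact p.Prime] (hpk : (p : k) = 0) (T e : Module.End k V)
    (hidem : e * e = e) (hTe : Commute (T ^ p ^ c) e) (hz : ∀ j, ¬ p ^ c ∣ j → e * T ^ j * e = 0)
    (hr : (T - 1) ^ r = 0) : (T ^ p ^ c - 1) ^ (r / p ^ c) * e = 0 := by
  have hp : p.Prime := Fact.out
  have key : ∀ b i : ℕ, i + b < p ^ c →
      e * (T ^ i * (T - 1) ^ b) * e = if i = 0 then (-1 : k) ^ b • e else 0 := by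
    intro b
    induction b with
    | zero =>
      intro i hi
      rw [pow_zero, mul_one, pow_zero, one_smul]
      split_ifs with h
      · rw [h, pow_zero, mul_one, hidem]
      · exact hz i fun hd => absurd (Nat.le_of_dvd (Nat.pos_of_ne_zero h) hd) (by omega)
    | succ b ih =>
      intro i hi
      rw [pow_succ', ← mul_assoc (T ^ i), mul_sub, mul_one, ← pow_succ, sub_mul, mul_sub, sub_mul,
        ih (i + 1) (by omega), ih i (by omega), if_neg (by omega)]
      split_ifs with h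
      · rw [zero_sub, pow_succ', mul_smul, neg_one_smul]
      · rw [sub_zero]
  set b := r % p ^ c
  set M := (T ^ p ^ c - 1) ^ (r / p ^ c) with hM
  have hdecomp : (T - 1) ^ r = M * (T - 1) ^ b := by
    rw [hM, ← sub_one_pow_char hpk, ← pow_mul, ← pow_add, Nat.div_add_mod]
  have hMe : Commute M e := (hTe.sub_left (Commute.one_left e)).pow_left _
  have h := key b 0 (by rw [zero_add]; exact Nat.mod_lt _ (pow_pos hp.pos c))
  rw [pow_zero, one_mul, if_pos rfl] at h
  have h0 : e * (T - 1) ^ r * e = 0 := by rw [hr, mul_zero, zero_mul]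
  rw [hdecomp, ← mul_assoc, ← hMe.eq, mul_assoc, mul_assoc, ← mul_assoc e, h, mul_smul_comm] at h0
  exact (smul_eq_zero.mp h0).resolve_left (pow_ne_zero _ (neg_ne_zero.mpr one_ne_zero))

/-- The stabiliser of a weight, with the degree on it. -/
theorem orbit_stab_exact {U : Type*} [CommGroup U] [Finite U] (hU : (Nat.card U : k) ≠ 0) (τ : U →* Module.End k V)
    (σ : MulAut U) (T : Module.End k V) (hcompat : ∀ u, T * τ u = τ (σ u) * T) {p n r : ℕ} [Fact p.Prime]
    (hpk : (p : k) = 0) (hσ : σ ^ p ^ n = 1) (hr : (T - 1) ^ r = 0) (hrn : r < p ^ n) (χ : U →* kˣ)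
    (hχ : proj τ χ ≠ 0) :
    ∃ c, c < n ∧ (∀ j : ℕ, (∀ u, χ ((σ ^ j) u) = χ u) ↔ p ^ c ∣ j) ∧
      Commute (T ^ p ^ c) (proj τ χ) ∧
      (T ^ p ^ c - 1) ^ (r / p ^ c) * proj τ χ = 0 ∧ r / p ^ c < p ^ (n - c) := by
  have hsum : ∑ j ∈ Finset.range (p ^ n), T ^ j = 0 := by
    rw [sum_pow_eq hpk, show p ^ n - 1 = r + (p ^ n - 1 - r) by omega, pow_add, hr, zero_mul]
  obtain ⟨c, hc, hiff, hcomm, -⟩ := orbit_stab hU τ σ T hcompat hσ hsum χ hχ
  have hg : ∀ (j : ℕ) u, T ^ j * τ u = τ ((σ ^ j) u) * T ^ j := by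
    intro j
    induction j with
    | zero => simp
    | succ j ih => intro u; rw [pow_succ', mul_assoc, ih, ← mul_assoc, hcompat, mul_assoc, pow_succ', MulAut.mul_apply]
  refine ⟨c, hc, hiff, hcomm, pow_sub_one_mul_eq_zero hpk T _ (proj_mul_self hU τ χ) hcomm (fun j hj => ?_) hr,
    (Nat.div_lt_iff_lt_mul (pow_pos (Fact.out : p.Prime).pos c)).mpr
      (by rwa [← pow_add, Nat.sub_add_cancel hc.le])⟩
  rw [mul_assoc, mul_proj_of_conj (hg j), ← mul_assoc, proj_mul_proj, zero_mul]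
  intro heq
  refine hj ((hiff j).mp fun u => ?_)
  conv_lhs => rw [heq]
  show χ ((σ ^ j).symm ((σ ^ j) u)) = χ u
  rw [MulEquiv.symm_apply_apply]

variable {Y : Type*} [Group Y] [Finite Y] {ρ : Y →* Module.End k V}

/-- Degrees on the range of an idempotent. -/
theorem sub_pow_eq_zero {e : Module.End k V} (z : stab ρ e) {a : ℕ} (h : (ρ (z : Y) - 1) ^ a * e = 0) :
    (sub ρ e z - 1) ^ a = 0 := by
  have hv : ∀ (j : ℕ) (w : LinearMap.range e),
      ((((sub ρ e z - 1) ^ j) w : LinearMap.range e) : V) = ((ρ (z : Y) - 1) ^ j) w := by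
    intro j
    induction j with
    | zero => intro w; rfl
    | succ j ih =>
      intro w
      rw [pow_succ', pow_succ', Module.End.mul_apply, Module.End.mul_apply, ← ih]
      rfl
  refine LinearMap.ext fun ⟨_, v, rfl⟩ => Subtype.ext ?_
  rw [hv]
  exact congrArg (fun f : Module.End k V => f v) h

variable [IsAlgClosed k] [FiniteDimensional k V]

theorem dichotomy_faithful [Nontrivial V] {s p l : ℕ} [Fact s.Prime] [Fact p.Prime] (hsp : s ≠ p)
    (hpk : (p : k) = 0) (hsk : (s : k) ≠ 0) (hinj : Function.Injective ρ)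
    (R : Subgroup Y) (hR : IsPGroup s R) (t : Y) (ht : t ∈ normalizer (R : Set Y)) (hl : 0 < l)
    (htp : t ^ p ^ l = 1) {r : ℕ} (hr : (ρ t - 1) ^ r = 0) (hrl : r < p ^ l)
    (hcomm : ∀ a b : R, ∃ c : k, ρ ((⁅a, b⁆ : R) : Y) = c • 1)
    (hgen : R ≤ ⁅R, zpowers (t ^ p ^ (l - 1))⁆) (hnc : cen (ρ.comp R.subtype) ≠ ⊤) :
    ∃ c m, c < l ∧ 0 < m ∧ p ^ (l - c) = s ^ m + 1 ∧ p ^ c * s ^ m ≤ r := by
  classical
  have hp : p.Prime := Fact.out
  have hs : s.Prime := Fact.out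
  set σ := Subgroup.normalizerMonoidHom R ⟨t, ht⟩ with hσdef
  set N := cen (ρ.comp R.subtype) with hN
  set M := N.map R.subtype with hM
  have hMR : M ≤ R := map_subtype_le _
  have hMcomm : ∀ u ∈ M, ∀ g ∈ R, ρ u * ρ g = ρ g * ρ u := by
    rintro _ ⟨u, hu, rfl⟩ g hg
    exact (hu ⟨g, hg⟩).eq
  let _ : CommGroup M :=
    { (inferInstance : Group M) with
      mul_comm := fun a b => Subtype.ext (hinj (by
        show ρ ((a : Y) * b) = ρ ((b : Y) * a)
        rw [map_mul, map_mul, hMcomm a a.2 b (hMR b.2)])) }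
  have hTp : ρ t ^ p ^ l = 1 := by rw [← map_pow, htp, map_one]
  have hcompatR : ∀ z : R, ρ t * (ρ.comp R.subtype) z = (ρ.comp R.subtype) (σ z) * ρ t := fun z => by
    show ρ t * ρ z = ρ (t * z * t⁻¹) * ρ t
    rw [← map_mul, ← map_mul, inv_mul_cancel_right]
  have htM : t ∈ normalizer (M : Set Y) := by
    refine mem_normalizer_of_map_conj (eq_of_le_of_card_ge ?_
      (Subgroup.card_map_of_injective (MulAut.conj t).injective).ge)
    rintro _ ⟨_, ⟨u, hu, rfl⟩, rfl⟩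
    exact ⟨σ u, cen_map_mem (pow_pos hp.pos l).ne' hTp hcompatR hu, rfl⟩
  obtain ⟨jR, hjR⟩ := IsPGroup.iff_card.mp hR
  have hMk : (Nat.card M : k) ≠ 0 := by
    obtain ⟨j, hj⟩ := IsPGroup.iff_card.mp (hR.to_le hMR)
    rw [hj, Nat.cast_pow]
    exact pow_ne_zero _ hsk
  let τ : M →* Module.End k V := ρ.comp M.subtype
  let σM := Subgroup.normalizerMonoidHom M ⟨t, htM⟩
  have hσM : σM ^ p ^ l = 1 := by
    show Subgroup.normalizerMonoidHom M ⟨t, htM⟩ ^ p ^ l = 1
    rw [← map_pow, show (⟨t, htM⟩ : normalizer (M : Set Y)) ^ p ^ l = 1 from Subtype.ext htp, map_one]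
  obtain ⟨ψ, hψ⟩ : ∃ ψ : M →* kˣ, proj τ ψ ≠ 0 := by
    by_contra h
    push Not at h
    have := finite_chars (k := k) (U := M) hMk
    let _ := Fintype.ofFinite (M →* kˣ)
    have h1 := sum_proj hMk τ
    simp only [h, Finset.sum_const_zero] at h1
    exact zero_ne_one h1
  obtain ⟨c, hcl, -, hTc, hdeg, hlt⟩ := orbit_stab_exact hMk τ σM (ρ t) (fun u => by
    show ρ t * ρ u = ρ (t * u * t⁻¹) * ρ t
    rw [← map_mul, ← map_mul, inv_mul_cancel_right]) hpk hσM hr hrl ψ hψ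
  set e := proj τ ψ with he
  have hRst : ∀ g ∈ R, g ∈ stab ρ e := fun g hg =>
    mul_proj_of_conj (τ := τ) (σ := MulEquiv.refl M) (g := ρ g) (fun u => (hMcomm u u.2 g hg).symm) ψ
  set t2 := t ^ p ^ c with ht2
  have ht2st : t2 ∈ stab ρ e := by
    show Commute (ρ (t ^ p ^ c)) e
    rw [map_pow]
    exact hTc
  let ι : R →* stab ρ e := R.subtype.codRestrict _ fun z => hRst z z.2
  let ρW := (sub ρ e).comp ι
  have : Nontrivial (LinearMap.range e) :=
    Submodule.nontrivial_iff_ne_bot.mpr (fun h => hψ (LinearMap.range_eq_bot.mp h))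
  have S : Setting (V := LinearMap.range e) ρW N := by
    refine ⟨fun a b => ?_, fun u hu => ?_, fun a ha b => ?_⟩
    · obtain ⟨d, hd⟩ := hcomm a b
      exact ⟨d, (sub_eq_iff _ (d • 1) (d • 1) (fun v => rfl)).mpr (by rw [← hd]; rfl)⟩
    · refine ⟨(ψ ⟨u, mem_map_of_mem _ hu⟩ : kˣ), (sub_eq_iff _ ((ψ ⟨u, mem_map_of_mem _ hu⟩ : k) • 1)
        ((ψ ⟨u, mem_map_of_mem _ hu⟩ : k) • 1) (fun v => rfl)).mpr ?_⟩
      rw [smul_mul_assoc, one_mul]
      exact act_mul_proj τ ψ ⟨u, mem_map_of_mem _ hu⟩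
    · obtain ⟨d, hd⟩ := hcomm a b
      have h1 : ρW.toHomUnits ⁅a, b⁆ = 1 := by
        rw [map_commutatorElement, commutatorElement_eq_one_iff_commute]
        exact Units.ext (ha b).eq
      have h2 : ρ ((⁅a, b⁆ : R) : Y) * e = e := (sub_eq_one_iff _).mp (congrArg Units.val h1)
      rw [hd, smul_mul_assoc, one_mul] at h2
      have hd1 : d = 1 := smul_left_injective k hψ (h2.trans (one_smul k e).symm)
      rw [hd1, one_smul] at hd
      show ρ a * ρ b = ρ b * ρ a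
      have h3 : ((⁅a, b⁆ : R) : Y) = 1 := hinj (hd.trans (map_one ρ).symm)
      rw [← map_mul, ← map_mul]
      exact congrArg (fun z : R => ρ z)
        (commutatorElement_eq_one_iff_mul_comm.mp (Subtype.ext h3 : ⁅a, b⁆ = 1))
  have hlc : 0 < l - c := Nat.sub_pos_of_lt hcl
  have hσ2 : ∀ z : R, ((σ ^ p ^ c) z : Y) = t2 * z * t2⁻¹ := fun z => by
    show (((Subgroup.normalizerMonoidHom R ⟨t, ht⟩) ^ p ^ c) z : Y) = _
    rw [← map_pow]
    rfl
  have hT2 : ∀ i, sub ρ e ⟨t2, ht2st⟩ ^ i = sub ρ e (⟨t2, ht2st⟩ ^ i) := fun i => (map_pow _ _ i).symm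
  have hNi : (N.index : k) ≠ 0 := by
    obtain ⟨i, -, hi⟩ := (Nat.dvd_prime_pow hs).mp (hjR ▸ N.index_dvd_card)
    rw [hi, Nat.cast_pow]
    exact pow_ne_zero _ hsk
  rcases count_exact S hNi (q := p) (L := l - c) hlc hpk (σ ^ p ^ c) (sub ρ e ⟨t2, ht2st⟩)
    (by
      rw [hT2, show (⟨t2, ht2st⟩ : stab ρ e) ^ p ^ (l - c) = 1 from Subtype.ext (by
        show t2 ^ p ^ (l - c) = 1
        rw [ht2, ← pow_mul, ← pow_add, Nat.add_sub_cancel' hcl.le, htp]), map_one])
    (r := r / p ^ c) (sub_pow_eq_zero _ (by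
      show (ρ (t ^ p ^ c) - 1) ^ (r / p ^ c) * e = 0
      rw [map_pow]; exact hdeg)) hlt
    (fun z => by
      show sub ρ e ⟨t2, ht2st⟩ * sub ρ e (ι z) = sub ρ e (ι ((σ ^ p ^ c) z)) * sub ρ e ⟨t2, ht2st⟩
      rw [← map_mul, ← map_mul]
      congr 1
      refine Subtype.ext ?_
      show t2 * (z : Y) = (((σ ^ p ^ c) z : R) : Y) * t2
      rw [hσ2, inv_mul_cancel_right])
    (fun z hz => by
      have hy : t ^ p ^ (l - 1) ∈ normalizer (R : Set Y) := pow_mem ht _
      refine mem_cen_of_fixed R hy hp.ne_zero (by rw [← pow_mul, ← pow_succ, Nat.sub_add_cancel hl, htp])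
        hgen hcomm ?_
      rw [← pow_mul, ← pow_add, show c + (l - c - 1) = l - 1 by omega, hσdef, ← map_pow] at hz
      exact hz) with h1 | ⟨n, hqn, hn, hnr⟩
  · exact absurd (Subgroup.index_eq_one.mp h1) hnc
  obtain ⟨i, -, hi⟩ := (Nat.dvd_prime_pow hs).mp (hjR ▸ N.index_dvd_card)
  obtain ⟨m, -, hm⟩ := (Nat.dvd_prime_pow hs).mp (show n ∣ s ^ i from ⟨n, by rw [← hi, hn]⟩)
  subst hm
  refine ⟨c, m, hcl, ?_, hqn, ?_⟩
  · rcases Nat.eq_zero_or_pos m with rfl | h
    · exact absurd (Subgroup.index_eq_one.mp (by rw [hn]; simp)) hnc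
    · exact h
  · rw [mul_comm]
    exact (Nat.le_div_iff_mul_le (pow_pos hp.pos c)).mp hnr

/-- The radical of the scalar pairing is unchanged in the faithful quotient. -/
theorem dichotomy_exact [Nontrivial V] {s p l : ℕ} [Fact s.Prime] [Fact p.Prime] (hsp : s ≠ p)
    (hpk : (p : k) = 0) (hsk : (s : k) ≠ 0)
    (R : Subgroup Y) (hR : IsPGroup s R) (t : Y) (ht : t ∈ normalizer (R : Set Y)) (hl : 0 < l)
    (htp : t ^ p ^ l = 1) {r : ℕ} (hr : (ρ t - 1) ^ r = 0) (hrl : r < p ^ l)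
    (hcomm : ∀ a b : R, ∃ c : k, ρ ((⁅a, b⁆ : R) : Y) = c • 1)
    (hgen : R ≤ ⁅R, zpowers (t ^ p ^ (l - 1))⁆) (hnc : cen (ρ.comp R.subtype) ≠ ⊤) :
    ∃ c m, c < l ∧ 0 < m ∧ p ^ (l - c) = s ^ m + 1 ∧ p ^ c * s ^ m ≤ r := by
  let π := QuotientGroup.mk' ρ.ker
  let ρ' : Y ⧸ ρ.ker →* Module.End k V := QuotientGroup.lift ρ.ker ρ le_rfl
  have hinj : Function.Injective ρ' := by
    refine (injective_iff_map_eq_one' ρ').mpr fun v => ⟨fun hv => ?_, fun hv => by rw [hv, map_one]⟩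
    obtain ⟨w, rfl⟩ := QuotientGroup.mk_surjective v
    exact (QuotientGroup.eq_one_iff _).mpr hv
  let f : R →* R.map π := (π.comp R.subtype).codRestrict _ fun z => mem_map_of_mem _ z.2
  have hf : Function.Surjective f := by
    rintro ⟨_, z, hz, rfl⟩
    exact ⟨⟨z, hz⟩, rfl⟩
  have hcomap : cen (ρ.comp R.subtype) = (cen (ρ'.comp (R.map π).subtype)).comap f := by
    ext z
    constructor
    · intro hz w
      obtain ⟨w, rfl⟩ := hf w
      exact hz w
    · intro hz w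
      exact hz (f w)
  refine dichotomy_faithful hsp hpk hsk hinj (R.map π) (hR.map π) (π t)
    (Subgroup.le_normalizer_map π ⟨t, ht, rfl⟩) hl (by rw [← map_pow, htp, map_one]) hr hrl ?_ ?_ ?_
  · intro a b
    obtain ⟨a, rfl⟩ := hf a
    obtain ⟨b, rfl⟩ := hf b
    rw [← map_commutatorElement]
    exact hcomm a b
  · rw [← map_pow, ← MonoidHom.map_zpowers, ← map_commutator]
    exact map_mono hgen
  · intro h
    exact hnc (by rw [hcomap, h, comap_top])

/-- Hall–Higman Theorem B, faithful form. -/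
theorem hall_higman_B_exact {s p n : ℕ} [Fact s.Prime] [Fact p.Prime] (hsp : s ≠ p)
    (hpk : (p : k) = 0) (hsk : (s : k) ≠ 0) (hinj : Function.Injective ρ) (hn : 0 < n)
    (R : Subgroup Y) (hR : IsPGroup s R) (x : Y) (hx : x ∈ normalizer (R : Set Y))
    (hxp : x ^ p ^ n = 1) {r : ℕ} (hr : (ρ x - 1) ^ r = 0) (hrn : r < p ^ n)
    (hnot : (∀ n₀ m, 0 < n₀ → n₀ ≤ n → 0 < m → p ^ n₀ = s ^ m + 1 → r < p ^ (n - n₀) * s ^ m) ∨
      ∀ a ∈ R, ∀ b ∈ R, Commute a b) :
    zpowers (x ^ p ^ (n - 1)) ≤ centralizer (R : Set Y) := by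
  classical
  have hp : p.Prime := Fact.out
  have hs : s.Prime := Fact.out
  set y := x ^ p ^ (n - 1) with hy
  suffices main : ∀ N, ∀ R : Subgroup Y, Nat.card R = N → IsPGroup s R → x ∈ normalizer (R : Set Y) →
      ((∀ n₀ m, 0 < n₀ → n₀ ≤ n → 0 < m → p ^ n₀ = s ^ m + 1 → r < p ^ (n - n₀) * s ^ m) ∨
        ∀ a ∈ R, ∀ b ∈ R, Commute a b) →
      zpowers y ≤ centralizer (R : Set Y) from main _ R rfl hR hx hnot
  intro N
  induction N using Nat.strong_induction_on with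
  | _ N ih =>
  intro R hN hR hx hnot
  have hyR : y ∈ normalizer (R : Set Y) := pow_mem hx _
  have hyn : zpowers y ≤ normalizer (R : Set Y) := zpowers_le.mpr hyR
  have hyp : y ^ p = 1 := by rw [hy, ← pow_mul, ← pow_succ, Nat.sub_add_cancel hn, hxp]
  obtain ⟨jR, hjR⟩ := IsPGroup.iff_card.mp hR
  have hcop : (Nat.card (zpowers y)).Coprime (Nat.card R) := by
    rw [Nat.card_zpowers, hjR]
    exact Nat.Coprime.coprime_dvd_left (orderOf_dvd_of_pow_eq_one hyp)
      (((Nat.coprime_primes hp hs).mpr (Ne.symm hsp)).pow_right jR)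
  rcases eq_or_ne R ⊥ with rfl | hRbot
  · intro a _
    exact mem_centralizer_iff.mpr fun v hv => by
      rw [SetLike.mem_coe, Subgroup.mem_bot] at hv; rw [hv, one_mul, mul_one]
  have hlt : ∀ {H : Subgroup Y}, H ≤ R → H ≠ R → Nat.card H < N := by
    intro H hH hne
    refine hN ▸ lt_of_le_of_ne (Nat.le_of_dvd Nat.card_pos (card_dvd_of_le hH)) fun h => ?_
    exact hne (eq_of_le_of_card_ge hH h.ge)
  have hRy : ⁅R, zpowers y⁆ ≤ R := commutator_le_left_of_normalizer hyn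
  have hxy : x ∈ normalizer ((zpowers y : Subgroup Y) : Set Y) := by
    refine centralizer_le_normalizer _ (mem_centralizer_iff.mpr fun a ha => ?_)
    obtain ⟨i, rfl⟩ := mem_zpowers_iff.mp ha
    exact (((Commute.refl x).pow_left _).zpow_left i).eq
  by_cases hRe : ⁅R, zpowers y⁆ = R
  swap
  · have h := ih _ (hlt hRy hRe) _ rfl (hR.to_le hRy) (PQTower.mem_normalizer_comm hx hxy)
      (hnot.imp_right fun hc a ha b hb => hc a (hRy ha) b (hRy hb))
    exact le_centralizer_of_commutator_le_centralizer hyn hcop (le_centralizer_iff.mp h)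
  set Φ := (frattini R).map R.subtype with hΦ
  have hΦR : Φ ≤ R := map_subtype_le _
  have hΦne : Φ ≠ R := by
    intro h
    have : Nontrivial R := R.nontrivial_iff_ne_bot.mpr hRbot
    have h2 : frattini R = ⊤ :=
      map_injective R.subtype_injective (by rw [← MonoidHom.range_eq_map, R.range_subtype]; exact h)
    exact bot_ne_top (frattini_nongenerating (K := (⊥ : Subgroup R)) (by rw [bot_sup_eq, h2]))
  have hΦy : zpowers y ≤ centralizer (Φ : Set Y) :=
    ih _ (hlt hΦR hΦne) _ rfl (hR.to_le hΦR) (PQTower.mem_normalizer_frattini hx)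
      (hnot.imp_right fun hc a ha b hb => hc a (hΦR ha) b (hΦR hb))
  have hΦn : R ≤ normalizer (Φ : Set Y) := fun v hv => PQTower.mem_normalizer_frattini (le_normalizer hv)
  have h1 : ⁅⁅zpowers y, R⁆, Φ⁆ = ⊥ := by
    refine commutator_commutator_eq_bot_of_rotate ?_ ?_
    · rw [eq_bot_iff, ← (commutator_eq_bot_iff_le_centralizer.mpr (le_centralizer_iff.mp hΦy))]
      exact commutator_mono (le_normalizer_iff_commutator_le_right.mp hΦn) le_rfl
    · rw [commutator_eq_bot_iff_le_centralizer.mpr (le_centralizer_iff.mp hΦy), commutator_bot_left]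
  rw [commutator_comm (zpowers y) R, hRe, commutator_eq_bot_iff_le_centralizer] at h1
  set σ := Subgroup.normalizerMonoidHom R ⟨x, hx⟩ with hσdef
  have hσj : ∀ (j : ℕ) (z : R), (((σ ^ j) z : R) : Y) = x ^ j * z * (x ^ j)⁻¹ := fun j z => by
    show (((Subgroup.normalizerMonoidHom R ⟨x, hx⟩) ^ j) z : Y) = _
    rw [← map_pow]
    rfl
  have hσp : σ ^ p ^ n = 1 := by
    show Subgroup.normalizerMonoidHom R ⟨x, hx⟩ ^ p ^ n = 1
    rw [← map_pow, show (⟨x, hx⟩ : normalizer (R : Set Y)) ^ p ^ n = 1 from Subtype.ext hxp, map_one]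
  by_cases hab : ∀ a ∈ R, ∀ b ∈ R, Commute a b
  · -- the abelian case
    rw [zpowers_le, mem_centralizer_iff]
    intro v hv
    let _ : CommGroup R :=
      { (inferInstance : Group R) with mul_comm := fun a b => Subtype.ext (hab a a.2 b b.2) }
    have hRk : (Nat.card R : k) ≠ 0 := by rw [hjR, Nat.cast_pow]; exact pow_ne_zero _ hsk
    have := finite_chars (k := k) (U := R) hRk
    let _ := Fintype.ofFinite (R →* kˣ)
    let τ := ρ.comp R.subtype
    refine hinj ?_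
    rw [map_mul, map_mul, ← mul_one (ρ v * ρ y), ← mul_one (ρ y * ρ v), ← sum_proj hRk τ,
      Finset.mul_sum, Finset.mul_sum]
    refine Finset.sum_congr rfl fun χ _ => ?_
    by_cases hz : proj τ χ = 0
    · rw [hz, mul_zero, mul_zero]
    obtain ⟨c, hc, hiff, hcomm, -⟩ := orbit_stab_exact hRk τ σ (ρ x) (fun u => by
      show ρ x * ρ u = ρ (x * u * x⁻¹) * ρ x
      rw [← map_mul, ← map_mul, inv_mul_cancel_right]) hpk hσp hr hrn χ hz
    have hye : Commute (ρ y) (proj τ χ) := by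
      obtain ⟨d, hd⟩ := Nat.pow_dvd_pow p (Nat.le_sub_one_of_lt hc)
      rw [hy, map_pow, hd, pow_mul]
      exact hcomm.pow_left d
    have hfχ := (hiff (p ^ (n - 1))).mpr (Nat.pow_dvd_pow p (Nat.le_sub_one_of_lt hc)) ⟨v, hv⟩
    have e1 := act_mul_proj τ χ ⟨v, hv⟩
    have e2 := act_mul_proj τ χ ((σ ^ p ^ (n - 1)) ⟨v, hv⟩)
    rw [hfχ, ← e1] at e2
    change ρ (((σ ^ p ^ (n - 1)) ⟨v, hv⟩ : R) : Y) * proj τ χ = ρ v * proj τ χ at e2
    rw [hσj, ← hy] at e2
    calc ρ v * ρ y * proj τ χ = ρ v * proj τ χ * ρ y := by rw [mul_assoc, hye.eq, mul_assoc]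
      _ = ρ (y * v * y⁻¹) * proj τ χ * ρ y := by rw [e2]
      _ = ρ (y * v * y⁻¹) * ρ y * proj τ χ := by simp only [mul_assoc, hye.eq]
      _ = ρ y * ρ v * proj τ χ := by rw [← map_mul, ← map_mul, inv_mul_cancel_right]
  exfalso
  replace hnot := hnot.resolve_right hab
  push Not at hab
  obtain ⟨a0, ha0, b0, hb0, hne0⟩ := hab
  set U := (⁅R, R⁆ : Subgroup Y) with hU
  have hUΦ : U ≤ Φ := by
    rw [hU, hΦ, ← map_subtype_commutator]
    exact map_mono (PGroups.commutator_le_frattini hR)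
  have hUR : U ≤ R := hUΦ.trans hΦR
  have hUcen : ∀ u ∈ U, ∀ g ∈ R, Commute u g := fun u hu g hg =>
    mem_centralizer_iff.mp (h1 hg) u (hUΦ hu)
  let _ : CommGroup U :=
    { (inferInstance : Group U) with mul_comm := fun a b => Subtype.ext (hUcen a a.2 b (hUR b.2)) }
  have hUk : (Nat.card U : k) ≠ 0 := by
    obtain ⟨j, hj⟩ := IsPGroup.iff_card.mp (hR.to_le hUR)
    rw [hj, Nat.cast_pow]
    exact pow_ne_zero _ hsk
  let τ : U →* Module.End k V := ρ.comp U.subtype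
  let c0 : U := ⟨⁅a0, b0⁆, commutator_mem_commutator ha0 hb0⟩
  obtain ⟨χ, hχ, hχ0⟩ := exists_proj_ne_zero_of_act_ne_one hUk (τ := τ) (u := c0)
    (fun h => hne0 (commutatorElement_eq_one_iff_commute.mp (hinj (h.trans (map_one ρ).symm))))
  have hxU : x ∈ normalizer (U : Set Y) := PQTower.mem_normalizer_comm hx hx
  let σU := Subgroup.normalizerMonoidHom U ⟨x, hxU⟩
  have hσUj : ∀ (j : ℕ) (z : U), (((σU ^ j) z : U) : Y) = x ^ j * z * (x ^ j)⁻¹ := fun j z => by
    show (((Subgroup.normalizerMonoidHom U ⟨x, hxU⟩) ^ j) z : Y) = _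
    rw [← map_pow]
    rfl
  have hσUp : σU ^ p ^ n = 1 := by
    show Subgroup.normalizerMonoidHom U ⟨x, hxU⟩ ^ p ^ n = 1
    rw [← map_pow, show (⟨x, hxU⟩ : normalizer (U : Set Y)) ^ p ^ n = 1 from Subtype.ext hxp, map_one]
  obtain ⟨i, hin, hiff, hTi, hdeg, hlt⟩ := orbit_stab_exact hUk τ σU (ρ x) (fun u => by
    show ρ x * ρ u = ρ (x * u * x⁻¹) * ρ x
    rw [← map_mul, ← map_mul, inv_mul_cancel_right]) hpk hσUp hr hrn χ hχ
  set e := proj τ χ with he
  set z := x ^ p ^ i with hzdef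
  have hzst : z ∈ stab ρ e := by
    show Commute (ρ (x ^ p ^ i)) e
    rw [map_pow]
    exact hTi
  have hRst : ∀ g ∈ R, g ∈ stab ρ e := fun g hg =>
    mul_proj_of_conj (τ := τ) (σ := MulEquiv.refl U) (g := ρ g) (fun u => by
      show ρ g * ρ u = ρ u * ρ g
      rw [← map_mul, ← map_mul, (hUcen u u.2 g hg).eq]) χ
  let R1 : Subgroup (stab ρ e) := R.subgroupOf (stab ρ e)
  let ι : R →* R1 :=
    { toFun := fun g => ⟨⟨g, hRst g g.2⟩, g.2⟩
      map_one' := rfl
      map_mul' := fun _ _ => rfl }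
  have hι : Function.Surjective ι := fun g => ⟨⟨((g : stab ρ e) : Y), g.2⟩, rfl⟩
  let ρW : R →* Module.End k (LinearMap.range e) := ((sub ρ e).comp R1.subtype).comp ι
  have : Nontrivial (LinearMap.range e) :=
    Submodule.nontrivial_iff_ne_bot.mpr (fun h => hχ (LinearMap.range_eq_bot.mp h))
  let cu : R → R → U := fun a b => ⟨⁅(a : Y), b⁆, commutator_mem_commutator a.2 b.2⟩
  have hscal : ∀ a b : R, ρW ⁅a, b⁆ = ((χ (cu a b) : kˣ) : k) • 1 := fun a b =>
    (sub_eq_iff _ ((χ (cu a b) : k) • 1) ((χ (cu a b) : k) • 1) (fun v => rfl)).mpr (by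
      rw [smul_mul_assoc, one_mul]
      exact act_mul_proj τ χ (cu a b))
  set Nχ := cen (V := LinearMap.range e) ρW with hNχdef
  have hNχ : ∀ a, a ∈ Nχ → ∀ b, χ (cu a b) = 1 := by
    intro a ha b
    have h5 : ρW.toHomUnits ⁅a, b⁆ = 1 := by
      rw [map_commutatorElement, commutatorElement_eq_one_iff_commute]
      exact Units.ext (ha b).eq
    have h2 := congrArg Units.val h5
    rw [MonoidHom.coe_toHomUnits, hscal, Units.val_one] at h2
    obtain ⟨v, hv⟩ := exists_ne (0 : LinearMap.range e)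
    have h4 := congrArg (fun f => f v) h2
    simp only [LinearMap.smul_apply, Module.End.one_apply] at h4
    have hv' : (v : V) ≠ 0 := fun h => hv (Subtype.ext h)
    refine Units.ext (smul_left_injective _ hv' ?_)
    show _ • (v : V) = (1 : k) • (v : V)
    rw [one_smul]
    exact congrArg Subtype.val h4
  have hNtop : Nχ ≠ ⊤ := fun h => hχ0 (hNχ ⟨a0, ha0⟩ (h ▸ mem_top _) ⟨b0, hb0⟩)
  let z1 : stab ρ e := ⟨z, hzst⟩
  have hz1R : z1 ∈ normalizer (R1 : Set (stab ρ e)) := by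
    refine mem_normalizer_iff.mpr fun g => ?_
    show (g : Y) ∈ R ↔ z * g * z⁻¹ ∈ R
    exact mem_normalizer_iff.mp (pow_mem hx _) g
  have hz1p : z1 ^ p ^ (n - i) = 1 := Subtype.ext (by
    show z ^ p ^ (n - i) = 1
    rw [hzdef, ← pow_mul, ← pow_add, Nat.add_sub_cancel' hin.le, hxp])
  have hdeg1 : (sub ρ e z1 - 1) ^ (r / p ^ i) = 0 := sub_pow_eq_zero z1 (by
    show (ρ (x ^ p ^ i) - 1) ^ (r / p ^ i) * e = 0
    rw [map_pow]; exact hdeg)
  have hyzY : z ^ p ^ (n - i - 1) = y := by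
    rw [hzdef, hy, ← pow_mul, ← pow_add, show i + (n - i - 1) = n - 1 by omega]
  have hyst : y ∈ stab ρ e := hyzY ▸ pow_mem hzst _
  have hyz : z1 ^ p ^ (n - i - 1) = ⟨y, hyst⟩ := Subtype.ext hyzY
  have hgen1 : R1 ≤ ⁅R1, zpowers (z1 ^ p ^ (n - i - 1))⁆ := by
    rw [← map_le_map_iff_of_injective (stab ρ e).subtype_injective, map_commutator, MonoidHom.map_zpowers,
      hyz, Subgroup.map_subgroupOf_eq_of_le (fun g hg => hRst g hg)]
    exact hRe.ge
  have hcen1 : cen (V := LinearMap.range e) ρW =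
      (cen (V := LinearMap.range e) ((sub ρ e).comp R1.subtype)).comap ι := by
    ext g
    constructor
    · intro hg w
      obtain ⟨w, rfl⟩ := hι w
      exact hg w
    · intro hg w
      exact hg (ι w)
  obtain ⟨c, m, hc, hm, hpm, hmr⟩ := dichotomy_exact (V := LinearMap.range e) (ρ := sub ρ e)
    (l := n - i) hsp hpk hsk R1
    (hR.comap_of_injective (stab ρ e).subtype (stab ρ e).subtype_injective) z1 hz1R (Nat.sub_pos_of_lt hin)
    hz1p hdeg1 hlt (fun a b => by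
      obtain ⟨a, rfl⟩ := hι a
      obtain ⟨b, rfl⟩ := hι b
      rw [← map_commutatorElement]
      exact ⟨_, hscal a b⟩) hgen1
    (fun h => hNtop (by rw [hNχdef, hcen1, h, comap_top]))
  have h1 := hnot (n - i - c) m (by omega) (by omega) hm hpm
  rw [show n - (n - i - c) = i + c by omega, pow_add, mul_assoc] at h1
  exact absurd ((Nat.mul_le_mul_left _ hmr).trans (Nat.mul_div_le r (p ^ i))) (not_le.mpr h1)

end Cfsg.Agent.H71.Exact
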