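import Cfsg.Agent.PGroups.Commutator
import Mathlib.Algebra.Group.Commutator
import Mathlib.GroupTheory.PGroup

/-!
The Baer trick for groups of class two and odd prime exponent `p`: the additive commutative group with
`x + y = x * y * ⁅y, x⁆ ^ ((p + 1) / 2)`, for which every automorphism is additive.
-/

namespace Cfsg.Agent.H71

open scoped commutatorElement

variable {Γ : Type*} [Group Γ]

/-- The sum in the Baer trick. -/
def baerAdd (h : ℕ) (x y : Γ) : Γ := x * y * ⁅y, x⁆ ^ h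

theorem map_baerAdd {Δ : Type*} [Group Δ] {F : Type*} [FunLike F Γ Δ] [MonoidHomClass F Γ Δ] (f : F)
    (h : ℕ) (x y : Γ) : f (baerAdd h x y) = baerAdd h (f x) (f y) := by
  simp only [baerAdd, map_mul, map_pow, map_commutatorElement]

variable {p : ℕ} (hp : Odd p) (hexp : ∀ x : Γ, x ^ p = 1) (hcen : ∀ x y : Γ, ⁅x, y⁆ ∈ Subgroup.center Γ)

include hp hexp hcen

theorem baerAdd_comm (x y : Γ) : baerAdd ((p + 1) / 2) x y = baerAdd ((p + 1) / 2) y x := by
  set h := (p + 1) / 2 with hh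
  have h2 : h + h = p + 1 := by obtain ⟨k, hk⟩ := hp; omega
  have hc : ∀ g : Γ, g * ⁅x, y⁆ = ⁅x, y⁆ * g := Subgroup.mem_center_iff.1 (hcen x y)
  have e1 : y * x = x * y * ⁅y, x⁆ := by
    rw [← Subgroup.mem_center_iff.1 (hcen y x) (x * y) |>.symm]
    simp only [commutatorElement_def]; group
  unfold baerAdd
  rw [e1, mul_assoc (x * y)]
  congr 1
  rw [← commutatorElement_inv y x, inv_pow, eq_mul_inv_iff_mul_eq, ← pow_add, h2, pow_succ, hexp, one_mul]

theorem baerAdd_assoc (x y z : Γ) :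
    baerAdd ((p + 1) / 2) (baerAdd ((p + 1) / 2) x y) z =
      baerAdd ((p + 1) / 2) x (baerAdd ((p + 1) / 2) y z) := by
  set h := (p + 1) / 2
  unfold baerAdd
  have hl : ∀ a b c : Γ, ⁅a * b, c⁆ = ⁅a, c⁆ * ⁅b, c⁆ := fun a b c =>
    PGroups.commutatorElement_mul_left_of_mem_center (hcen b c)
  have hr : ∀ a b c : Γ, ⁅a, b * c⁆ = ⁅a, b⁆ * ⁅a, c⁆ := fun a b c =>
    PGroups.commutatorElement_mul_right_of_mem_center (hcen a c)
  have h1 : ∀ (k : ℕ) (a b c : Γ), ⁅c, ⁅a, b⁆ ^ k⁆ = 1 := fun k a b c =>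
    commutatorElement_eq_one_iff_mul_comm.2
      ((Commute.pow_right (show Commute c ⁅a, b⁆ from Subgroup.mem_center_iff.1 (hcen a b) c) k).eq)
  have h1' : ∀ (k : ℕ) (a b c : Γ), ⁅⁅a, b⁆ ^ k, c⁆ = 1 := fun k a b c => by
    rw [← commutatorElement_inv, h1, inv_one]
  have hc : ∀ (k : ℕ) (a b g : Γ), g * ⁅a, b⁆ ^ k = ⁅a, b⁆ ^ k * g := fun k a b g =>
    ((Commute.pow_right (show Commute g ⁅a, b⁆ from Subgroup.mem_center_iff.1 (hcen a b) g) k)).eq
  simp only [hr, hl, h1, h1', mul_one, one_mul]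
  have hcm : ∀ a b c d : Γ, Commute ⁅a, b⁆ ⁅c, d⁆ := fun a b c d =>
    Subgroup.mem_center_iff.1 (hcen c d) ⁅a, b⁆
  rw [(hcm z x z y).mul_pow, (hcm y x z x).mul_pow]
  calc x * y * ⁅y, x⁆ ^ h * z * (⁅z, x⁆ ^ h * ⁅z, y⁆ ^ h)
      = x * y * z * (⁅y, x⁆ ^ h * (⁅z, x⁆ ^ h * ⁅z, y⁆ ^ h)) := by
        rw [mul_assoc (x * y) (⁅y, x⁆ ^ h) z, ← hc h y x z]; group
    _ = x * (y * z * ⁅z, y⁆ ^ h) * (⁅y, x⁆ ^ h * ⁅z, x⁆ ^ h) := by
        rw [show (⁅y, x⁆ ^ h * (⁅z, x⁆ ^ h * ⁅z, y⁆ ^ h)) = ⁅z, y⁆ ^ h * (⁅y, x⁆ ^ h * ⁅z, x⁆ ^ h) by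
          rw [← mul_assoc, hc h z y]]
        group

/-- The additive commutative group of the Baer trick. -/
@[reducible]
def baerGroup : AddCommGroup Γ where
  add := baerAdd ((p + 1) / 2)
  zero := (1 : Γ)
  neg x := x⁻¹
  add_assoc := baerAdd_assoc hp hexp hcen
  zero_add x := show baerAdd _ 1 x = x by simp [baerAdd]
  add_zero x := show baerAdd _ x 1 = x by simp [baerAdd]
  neg_add_cancel x := show baerAdd _ x⁻¹ x = 1 by
    simp [baerAdd, commutatorElement_eq_one_iff_mul_comm.2 (show x * x⁻¹ = x⁻¹ * x by simp)]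
  add_comm := baerAdd_comm hp hexp hcen
  nsmul := @nsmulRec Γ ⟨1⟩ ⟨baerAdd ((p + 1) / 2)⟩
  zsmul := @zsmulRec Γ ⟨1⟩ ⟨baerAdd ((p + 1) / 2)⟩ ⟨fun x => x⁻¹⟩ (@nsmulRec Γ ⟨1⟩ ⟨baerAdd ((p + 1) / 2)⟩)

/-- Multiples are powers. -/
theorem baer_nsmul (n : ℕ) (x : Γ) :
    letI := baerGroup hp hexp hcen
    n • x = x ^ n := by
  letI := baerGroup hp hexp hcen
  induction n with
  | zero => rw [zero_nsmul, pow_zero]; rfl
  | succ n ih =>
    rw [succ_nsmul, ih]
    show baerAdd _ (x ^ n) x = x ^ (n + 1)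
    rw [baerAdd, commutatorElement_eq_one_iff_mul_comm.2 (show x * x ^ n = x ^ n * x from (pow_mul_comm' x n).symm),
      one_pow, mul_one, pow_succ]

omit hp hexp hcen

/-- A `p`-group of automorphisms normalizing a `p'`-group of automorphisms of a class two, exponent `p`
group fixes a point outside the centralizer of the latter, provided that group acts nontrivially. -/
theorem exists_fixed_not_fixed [Finite Γ] [hpp : Fact p.Prime] (hp : Odd p) (hΓ : IsPGroup p Γ)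
    (hexp : ∀ x : Γ, x ^ p = 1) (hcen : ∀ x y : Γ, ⁅x, y⁆ ∈ Subgroup.center Γ)
    (P Q : Subgroup (MulAut Γ)) (hP : IsPGroup p P) (hQ : (Nat.card Q).Coprime p)
    (hPQ : P ≤ Subgroup.normalizer (Q : Set (MulAut Γ))) (hnt : ∃ q ∈ Q, ∃ x : Γ, q x ≠ x) :
    ∃ x : Γ, (∀ b ∈ P, b x = x) ∧ ∃ q ∈ Q, q x ≠ x := by
  classical
  letI := baerGroup hp hexp hcen
  haveI : Finite (MulAut Γ) := Finite.of_injective (fun a : MulAut Γ => (a : Γ → Γ)) DFunLike.coe_injective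
  cases nonempty_fintype Q
  have hadd : ∀ (f : MulAut Γ) (x y : Γ), f (x + y) = f x + f y := fun f x y => map_baerAdd f _ x y
  let fh : MulAut Γ → Γ →+ Γ := fun f => AddMonoidHom.mk' f (hadd f)
  let σ : Γ →+ Γ := ∑ q : Q, fh q
  have hσ : ∀ x, σ x = ∑ q : Q, (q : MulAut Γ) x := fun x => AddMonoidHom.finsetSum_apply _ _ _
  have hfix : ∀ q ∈ Q, ∀ x, q (σ x) = σ x := by
    intro q hq x
    rw [hσ, show q (∑ r : Q, (r : MulAut Γ) x) = fh q (∑ r : Q, (r : MulAut Γ) x) from rfl, map_sum]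
    exact Fintype.sum_equiv (Equiv.mulLeft (⟨q, hq⟩ : Q)) _ _ fun r => rfl
  have hsub : ∀ b ∈ P, ∀ x, σ x = 0 → σ (b x) = 0 := by
    intro b hb x hx
    have e : σ (b x) = fh b (σ x) := by
      rw [hσ, hσ, map_sum]
      let e : Q ≃ Q :=
        { toFun := fun q => ⟨b⁻¹ * q * b, (Subgroup.mem_normalizer_iff''.1 (hPQ hb) q).1 q.2⟩
          invFun := fun q => ⟨b * q * b⁻¹, (Subgroup.mem_normalizer_iff.1 (hPQ hb) q).1 q.2⟩
          left_inv := fun q => Subtype.ext (by simp only; group)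
          right_inv := fun q => Subtype.ext (by simp only; group) }
      refine Fintype.sum_equiv e _ _ fun q => ?_
      show (q : MulAut Γ) (b x) = b ((b⁻¹ * q * b : MulAut Γ) x)
      simp only [MulAut.mul_apply, MulAut.apply_inv_self]
    rw [e, hx, map_zero]
  have hinter : ∀ x, σ x = 0 → (∀ q ∈ Q, q x = x) → x = 0 := by
    intro x hx hxQ
    rw [hσ, show (∑ q : Q, (q : MulAut Γ) x) = ∑ _q : Q, x from Finset.sum_congr rfl fun q _ => hxQ _ q.2,
      Finset.sum_const, Finset.card_univ,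
      ← Nat.card_eq_fintype_card] at hx
    have h2 : p • x = 0 := by rw [baer_nsmul hp hexp hcen]; exact hexp x
    have h3 := gcd_nsmul_eq_zero.2 ⟨hx, h2⟩
    rwa [hQ.gcd_eq_one, one_nsmul] at h3
  let L := {x : Γ // σ x = 0}
  have hker : ∃ x : L, x.1 ≠ 0 := by
    by_contra h
    push Not at h
    have hinj : Function.Injective σ := (injective_iff_map_eq_zero σ).2 fun x hx => h ⟨x, hx⟩
    obtain ⟨q, hq, x, hx⟩ := hnt
    obtain ⟨y, rfl⟩ := (Finite.injective_iff_surjective.1 hinj) x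
    exact hx (hfix q hq y)
  have hcardL : p ∣ Nat.card L := by
    obtain ⟨k, hk⟩ := IsPGroup.iff_card.1 hΓ
    have hd : Nat.card L ∣ Nat.card Γ := AddSubgroup.card_addSubgroup_dvd_card σ.ker
    obtain ⟨j, -, hj⟩ := (Nat.dvd_prime_pow hpp.out).1 (hk ▸ hd)
    obtain ⟨x, hx⟩ := hker
    haveI : Nontrivial L := ⟨⟨x, ⟨0, map_zero σ⟩, fun h => hx (congrArg Subtype.val h)⟩⟩
    have h1 : 1 < Nat.card L := Finite.one_lt_card
    rw [hj] at h1 ⊢
    exact dvd_pow_self p (fun h0 => by simp [h0] at h1)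
  let act : MulAction P L :=
    { smul := fun b x => ⟨(b : MulAut Γ) x.1, hsub b b.2 x.1 x.2⟩
      one_smul := fun x => Subtype.ext rfl
      mul_smul := fun b c x => Subtype.ext rfl }
  letI := act
  have h0 : (⟨0, map_zero σ⟩ : L) ∈ MulAction.fixedPoints P L := fun b =>
    Subtype.ext (map_zero (fh b))
  obtain ⟨x, hxP, hx0⟩ := hP.exists_fixed_point_of_prime_dvd_card_of_fixed_point L hcardL h0
  refine ⟨x.1, fun b hb => congrArg Subtype.val (hxP ⟨b, hb⟩), ?_⟩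
  by_contra h
  push Not at h
  exact hx0 (Subtype.ext (hinter x.1 x.2 h).symm)

end Cfsg.Agent.H71
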