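import Mathlib
import Cfsg.Agent.PGroups.NormalSq
import Cfsg.Agent.Coprime.ShultGrossArith

/-!
Two elements of a `p`-group acting on a space over `GF(2)` with small moved spaces commute, `p = 2 ^ m + 1`.
-/

set_option autoImplicit false
set_option linter.style.haveILetI false
set_option linter.unusedSectionVars false

namespace Cfsg.Agent.H71

open Module

variable {V : Type*} [AddCommGroup V] [Module (ZMod 2) V]

theorem end_add_self (f : End (ZMod 2) V) : f + f = 0 := by
  rw [← two_smul (ZMod 2) f, show (2 : ZMod 2) = 0 from rfl, zero_smul]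

theorem end_sub_one_sq (f : End (ZMod 2) V) : (f - 1) ^ 2 = f ^ 2 - 1 := by
  have e : (f - 1) ^ 2 = f ^ 2 - 1 - (f + f) + (1 + 1) := by noncomm_ring
  rw [e, end_add_self, end_add_self, sub_zero, add_zero]

/-- An element of odd order whose square is `1` modulo scalars of order two is `1`. -/
theorem eq_one_of_sq_eq_one {M : Type*} [Monoid M] {f : M} {n : ℕ} (hn : Odd n) (h : f ^ n = 1)
    (h2 : f ^ 2 = 1) : f = 1 := by
  obtain ⟨j, rfl⟩ := hn
  rwa [pow_succ, pow_mul, h2, one_pow, one_mul] at h

/-- A fixed-point-free element of order `p = 2 ^ m + 1` needs dimension `2 m`. -/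
theorem two_mul_le_finrank [FiniteDimensional (ZMod 2) V] {p m : ℕ} [hp : Fact p.Prime] (hm : 0 < m)
    (hpm : p = 2 ^ m + 1) (f : End (ZMod 2) V) (hfp : f ^ p = 1) (hfix : ∀ v, f v = v → v = 0)
    [Nontrivial V] : 2 * m ≤ finrank (ZMod 2) V := by
  haveI : Finite V := Module.finite_of_finite (ZMod 2)
  let σ : MulAut (Multiplicative V) :=
    { toFun := fun v => Multiplicative.ofAdd (f v.toAdd)
      invFun := fun v => Multiplicative.ofAdd ((f ^ (p - 1)) v.toAdd)
      left_inv := fun v => by
        show Multiplicative.ofAdd ((f ^ (p - 1)) (f v.toAdd)) = v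
        rw [← Module.End.mul_apply, ← pow_succ, Nat.sub_add_cancel hp.out.one_le, hfp]; rfl
      right_inv := fun v => by
        show Multiplicative.ofAdd (f ((f ^ (p - 1)) v.toAdd)) = v
        rw [← Module.End.mul_apply, ← pow_succ', Nat.sub_add_cancel hp.out.one_le, hfp]; rfl
      map_mul' := fun v w => by
        show Multiplicative.ofAdd (f (v.toAdd + w.toAdd)) = _
        rw [map_add]; rfl }
  have hσ : ∀ (j : ℕ) (v : Multiplicative V), (σ ^ j) v = Multiplicative.ofAdd ((f ^ j) v.toAdd) := by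
    intro j
    induction j with
    | zero => intro v; rfl
    | succ j ih => intro v; rw [pow_succ', MulAut.mul_apply, ih, pow_succ', Module.End.mul_apply]; rfl
  have h := Coprime.ShultGrossArith.dvd_card_sub_one σ (p := p) (n := 1)
    (MulEquiv.ext fun v => by rw [hσ, pow_one, hfp]; rfl)
    (fun v hv => by
      rw [pow_zero, pow_one] at hv
      exact Multiplicative.ext (hfix _ (congrArg Multiplicative.toAdd hv)))
  rw [pow_one, Nat.card_congr Multiplicative.toAdd, Module.natCard_eq_pow_finrank (K := ZMod 2),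
    Nat.card_zmod] at h
  exact Nat.le_of_dvd Module.finrank_pos (Coprime.ShultGrossArith.two_mul_dvd hm hpm h)

variable {A : Type*} [Group A]

/-- The dimension moved by an element. -/
noncomputable def movedDim (σ : A →* End (ZMod 2) V) (a : A) : ℕ :=
  finrank (ZMod 2) (LinearMap.range (σ a - 1))

/-- Small moved space, for the element or for a `p`-th root of it. -/
def SmallMoved (p m : ℕ) (σ : A →* End (ZMod 2) V) (a : A) : Prop :=
  movedDim σ a ≤ 2 * m ∨ ∃ t : A, a = t ^ p ∧ movedDim σ a ≤ 2 * m * p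

variable [FiniteDimensional (ZMod 2) V] [Finite A]

/-- The restriction to an invariant subspace. -/
def restrictHom (σ : A →* End (ZMod 2) V) (W : Submodule (ZMod 2) V) (hW : ∀ a, ∀ v ∈ W, σ a v ∈ W) :
    A →* End (ZMod 2) W where
  toFun a := (σ a).restrict (hW a)
  map_one' := LinearMap.ext fun v => Subtype.ext (by simp)
  map_mul' a b := LinearMap.ext fun v => Subtype.ext (by simp)

theorem movedDim_restrict_le (σ : A →* End (ZMod 2) V) (W : Submodule (ZMod 2) V)
    (hW : ∀ a, ∀ v ∈ W, σ a v ∈ W) (a : A) : movedDim (restrictHom σ W hW) a ≤ movedDim σ a := by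
  refine (Submodule.finrank_map_subtype_eq W _).symm.le.trans (Submodule.finrank_mono ?_)
  rintro _ ⟨_, ⟨w, rfl⟩, rfl⟩
  exact ⟨w, rfl⟩

/-- The action on a quotient by an invariant subspace. -/
def quotientHom (σ : A →* End (ZMod 2) V) (W : Submodule (ZMod 2) V) (hW : ∀ a, ∀ v ∈ W, σ a v ∈ W) :
    A →* End (ZMod 2) (V ⧸ W) where
  toFun a := W.mapQ W (σ a) (fun v hv => hW a v hv)
  map_one' := Submodule.linearMap_qext _ (LinearMap.ext fun v => by simp)
  map_mul' a b := Submodule.linearMap_qext _ (LinearMap.ext fun v => by simp)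

theorem movedDim_quotient_le (σ : A →* End (ZMod 2) V) (W : Submodule (ZMod 2) V)
    (hW : ∀ a, ∀ v ∈ W, σ a v ∈ W) (a : A) : movedDim (quotientHom σ W hW) a ≤ movedDim σ a := by
  refine le_trans (Submodule.finrank_mono ?_) (Submodule.finrank_map_le W.mkQ (LinearMap.range (σ a - 1)))
  rintro _ ⟨w, rfl⟩
  obtain ⟨v, rfl⟩ := W.mkQ_surjective w
  exact ⟨(σ a - 1) v, ⟨v, rfl⟩, by simp [quotientHom]⟩

universe u v

/-- Two elements with small moved spaces commute. -/
theorem commute_of_smallMoved {p m : ℕ} [hp : Fact p.Prime] (hm : 0 < m) (hpm : p = 2 ^ m + 1) :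
    ∀ (n : ℕ) (A : Type u) [Group A] [Finite A] (V : Type v) [AddCommGroup V] [Module (ZMod 2) V]
      [FiniteDimensional (ZMod 2) V] (σ : A →* End (ZMod 2) V), finrank (ZMod 2) V = n → IsPGroup p A →
      ∀ g h : A, SmallMoved p m σ g → SmallMoved p m σ h → Commute (σ g) (σ h) := by
  classical
  intro n
  induction n using Nat.strong_induction_on with
  | _ n ih =>
  intro A _ _ V _ _ _ σ hn hA g h hg hh
  have hp' := hp.out
  have hp2 : p ≠ 2 := by
    rintro rfl
    have : 2 ∣ 2 ^ m := dvd_pow_self 2 hm.ne'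
    omega
  have hodd : Odd p := hp'.odd_of_ne_two hp2
  haveI : Finite V := Module.finite_of_finite (ZMod 2)
  rcases subsingleton_or_nontrivial V with hV | hV
  · exact LinearMap.ext fun v => Subsingleton.elim _ _
  by_cases hred : ∃ W : Submodule (ZMod 2) V, W ≠ ⊥ ∧ W ≠ ⊤ ∧ ∀ a, ∀ v ∈ W, σ a v ∈ W
  · obtain ⟨W, hW0, hW1, hW⟩ := hred
    have hlt : finrank (ZMod 2) W < n := hn ▸ Submodule.finrank_lt hW1
    have hq : finrank (ZMod 2) (V ⧸ W) < n := by
      have h1 := W.finrank_quotient_add_finrank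
      have h2 : 0 < finrank (ZMod 2) W :=
        Nat.pos_of_ne_zero fun h0 => hW0 (Submodule.finrank_eq_zero.mp h0)
      omega
    have mono : ∀ {X : Type v} [AddCommGroup X] [Module (ZMod 2) X] (τ : A →* End (ZMod 2) X) (a : A),
        movedDim τ a ≤ movedDim σ a → SmallMoved p m σ a → SmallMoved p m τ a := by
      intro X _ _ τ a hle hs
      rcases hs with h1 | ⟨t, ht, h2⟩
      · exact Or.inl (hle.trans h1)
      · exact Or.inr ⟨t, ht, hle.trans h2⟩
    have h1 := ih _ hlt A W (restrictHom σ W hW) rfl hA g h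
      (mono _ g (movedDim_restrict_le σ W hW g) hg) (mono _ h (movedDim_restrict_le σ W hW h) hh)
    have h2 := ih _ hq A (V ⧸ W) (quotientHom σ W hW) rfl hA g h
      (mono _ g (movedDim_quotient_le σ W hW g) hg) (mono _ h (movedDim_quotient_le σ W hW h) hh)
    set c := g * h * g⁻¹ * h⁻¹ with hc
    have hcW : ∀ w ∈ W, σ c w = w := by
      intro w hw
      have hc' : restrictHom σ W hW c = 1 := by
        rw [hc, map_mul, map_mul, map_mul, h1.eq, mul_assoc (restrictHom σ W hW h),
          ← map_mul (restrictHom σ W hW) g, mul_inv_cancel, map_one, mul_one, ← map_mul, mul_inv_cancel, map_one]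
      exact congrArg Subtype.val (congrArg (fun F : End (ZMod 2) W => F ⟨w, hw⟩) hc')
    have hcQ : ∀ v, σ c v - v ∈ W := by
      intro v
      have hc' : quotientHom σ W hW c = 1 := by
        rw [hc, map_mul, map_mul, map_mul, h2.eq, mul_assoc (quotientHom σ W hW h),
          ← map_mul (quotientHom σ W hW) g, mul_inv_cancel, map_one, mul_one, ← map_mul, mul_inv_cancel, map_one]
      exact (Submodule.Quotient.eq W).mp (congrArg (fun F : End (ZMod 2) (V ⧸ W) => F (W.mkQ v)) hc')
    have hsq : (σ c - 1) ^ 2 = 0 := LinearMap.ext fun v => by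
      rw [pow_two, Module.End.mul_apply]
      show σ c (σ c v - v) - (σ c v - v) = 0
      rw [hcW _ (hcQ v), sub_self]
    rw [end_sub_one_sq, sub_eq_zero] at hsq
    obtain ⟨j, hj⟩ := hA c
    have hc1 : σ c = 1 := eq_one_of_sq_eq_one (hodd.pow (n := j)) (by rw [← map_pow, hj, map_one]) hsq
    show σ g * σ h = σ h * σ g
    rw [← map_mul, ← map_mul, show g * h = c * (h * g) by rw [hc]; group, map_mul, hc1, one_mul]
  push Not at hred
  have hirr : ∀ W : Submodule (ZMod 2) V, (∀ a, ∀ v ∈ W, σ a v ∈ W) → W = ⊥ ∨ W = ⊤ := by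
    intro W hW
    by_contra hc
    push Not at hc
    obtain ⟨a, v, hv, hav⟩ := hred W hc.1 hc.2
    exact hav (hW a v hv)
  -- the faithful image
  let K := σ.toHomUnits.ker
  let B := A ⧸ K
  let π : A →* B := QuotientGroup.mk' K
  let τ : B →* End (ZMod 2) V := QuotientGroup.lift K σ fun a ha => congrArg Units.val (MonoidHom.mem_ker.mp ha)
  have hτπ : ∀ a, τ (π a) = σ a := fun a => rfl
  have hτinj : ∀ b, τ b = 1 → b = 1 := by
    intro b
    induction b using QuotientGroup.induction_on with | _ a =>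
    intro hb
    exact (QuotientGroup.eq_one_iff a).mpr (Units.ext hb)
  have hB : IsPGroup p B := hA.to_quotient K
  by_cases hab : ∀ a b : B, a * b = b * a
  · show σ g * σ h = σ h * σ g
    rw [← hτπ g, ← hτπ h, ← map_mul τ, ← map_mul τ, hab]
  have hnc : ¬ IsCyclic (⊤ : Subgroup B) := fun hc => hab fun a b => by
    haveI := hc
    exact congrArg Subtype.val ((inferInstance : IsMulCommutative (⊤ : Subgroup B)).is_comm.comm
      ⟨a, Subgroup.mem_top a⟩ ⟨b, Subgroup.mem_top b⟩)
  obtain ⟨E, -, hEn, hEc, hEp, hEcard⟩ := PGroups.exists_normal_elementary_sq_le hB hp2 ⊤ hnc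
  haveI := hEn
  have hEbot : E ≠ ⊥ := fun h0 => by
    rw [h0, Subgroup.card_bot] at hEcard
    exact absurd hEcard (by have := hp'.one_lt; nlinarith)
  obtain ⟨z, hzE, hzc, hzo⟩ := PGroups.exists_mem_center_orderOf_eq hB E hEbot
  obtain ⟨w, hwE, hwz⟩ : ∃ w ∈ E, w ∉ Subgroup.zpowers z := by
    by_contra hcon
    push Not at hcon
    have := Subgroup.card_dvd_of_le (hcon : E ≤ Subgroup.zpowers z)
    rw [hEcard, Nat.card_zpowers, hzo] at this
    exact absurd (Nat.le_of_dvd hp'.pos this) (by have := hp'.one_lt; nlinarith)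
  haveI hzn : (Subgroup.zpowers z).Normal := Subgroup.Normal.mk fun y hy a => by
    obtain ⟨i, rfl⟩ := Subgroup.mem_zpowers_iff.mp hy
    rw [((show Commute a z from Subgroup.mem_center_iff.mp hzc a).zpow_right i).eq, mul_inv_cancel_right]
    exact hy
  have hE : ∀ e ∈ E, ∃ i j : ℕ, e = w ^ i * z ^ j ∧ i < p := by
    intro e he
    have hsup : Subgroup.zpowers z ⊔ Subgroup.zpowers w = E := by
      refine Subgroup.eq_of_le_of_card_ge (sup_le (Subgroup.zpowers_le.mpr hzE) (Subgroup.zpowers_le.mpr hwE)) ?_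
      rw [hEcard, PGroups.card_sup_zpowers (p := p) _ hwz (by rw [hEp w hwE]; exact one_mem _), Nat.card_zpowers, hzo,
        pow_two]
    rw [← hsup, sup_comm] at he
    obtain ⟨a, ha, b, hb, rfl⟩ := Subgroup.mem_sup_of_normal_right.mp he
    obtain ⟨i, hi, hai⟩ : ∃ i < p, w ^ i = a := by
      have := (isOfFinOrder_of_finite w).mem_zpowers_iff_mem_range_orderOf.mp ha
      obtain ⟨i, hi, rfl⟩ := Finset.mem_image.mp this
      exact ⟨i, (Finset.mem_range.mp hi).trans_le (Nat.le_of_dvd hp'.pos (orderOf_dvd_of_pow_eq_one (hEp w hwE))), rfl⟩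
    obtain ⟨j, rfl⟩ := (isOfFinOrder_of_finite z).mem_powers_iff_mem_zpowers.mpr hb
    exact ⟨i, j, by rw [hai], hi⟩
  -- projections
  let P : B → End (ZMod 2) V := fun e => ∑ j ∈ Finset.range p, τ e ^ j
  have hPfix : ∀ e, e ^ p = 1 → ∀ v, τ e (P e v) = P e v := by
    intro e he v
    have h1 : τ e * P e = P e := by
      have h2 : (τ e - 1) * P e = 0 := by rw [mul_geom_sum, ← map_pow, he, map_one, sub_self]
      rwa [sub_mul, one_mul, sub_eq_zero] at h2
    exact congrArg (fun F : End (ZMod 2) V => F v) h1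
  have hpone : (p : ZMod 2) = 1 := ZMod.natCast_eq_one_iff_odd.mpr hodd
  have hPid : ∀ e v, τ e v = v → P e v = v := by
    intro e v hv
    have : ∀ j : ℕ, (τ e ^ j) v = v := fun j => by
      induction j with
      | zero => rfl
      | succ j ihj => rw [pow_succ', Module.End.mul_apply, ihj, hv]
    simp only [P, LinearMap.sum_apply, this, Finset.sum_const, Finset.card_range]
    rw [← Nat.cast_smul_eq_nsmul (ZMod 2), hpone, one_smul]
  have hPz : P z = 0 := by
    rcases hirr (LinearMap.ker (τ z - 1)) (fun a v hv => by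
      rw [LinearMap.mem_ker, LinearMap.sub_apply, Module.End.one_apply, sub_eq_zero] at hv ⊢
      rw [← hτπ a, ← Module.End.mul_apply, ← map_mul, ← Subgroup.mem_center_iff.mp hzc (π a), map_mul,
        Module.End.mul_apply, hv]) with h0 | h0
    · refine LinearMap.ext fun v => ?_
      have : P z v ∈ LinearMap.ker (τ z - 1) := by
        simp [hPfix z (hEp z hzE)]
      rw [h0] at this
      exact (Submodule.mem_bot _).mp this
    · exfalso
      have : τ z = 1 := sub_eq_zero.mp (LinearMap.ker_eq_top.mp h0)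
      exact hp'.ne_one (hzo ▸ by rw [hτinj z this, orderOf_one])
  let e : ZMod p → B := fun i => w * z ^ i.val
  have hcwz : Commute w z := Subgroup.mem_center_iff.mp hzc w
  have hep : ∀ i, e i ^ p = 1 := fun i => by
    rw [show e i ^ p = _ from (hcwz.pow_right i.val).mul_pow p, hEp w hwE, one_mul, ← pow_mul, mul_comm, pow_mul,
      hEp z hzE, one_pow]
  -- distinct projections annihilate each other
  have hmulz : ∀ j k : ℕ, j % p = k % p → z ^ j = z ^ k := fun j k hjk => by
    rw [← pow_mod_orderOf z j, ← pow_mod_orderOf z k, hzo, hjk]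
  have hzero : ∀ i k v, i ≠ k → τ (e i) v = v → τ (e k) v = v → v = 0 := by
    intro i k v hik h1 h2
    have hz' : τ (z ^ (k - i).val) v = v := by
      have he : e k = z ^ (k - i).val * e i := by
        show w * z ^ k.val = z ^ (k - i).val * (w * z ^ i.val)
        rw [← mul_assoc, ← (hcwz.pow_right _).eq, mul_assoc, ← pow_add]
        congr 1
        refine hmulz _ _ ?_
        rw [← ZMod.natCast_eq_natCast_iff']
        simp
      rw [he, map_mul, Module.End.mul_apply, h1] at h2
      exact h2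
    have hpow : ∀ r : ℕ, τ ((z ^ (k - i).val) ^ r) v = v := fun r => by
      induction r with
      | zero => simp
      | succ r ihr => rw [pow_succ', map_mul, Module.End.mul_apply, ihr, hz']
    have hzv : τ z v = v := by
      have := hpow (k - i)⁻¹.val
      rw [← pow_mul, hmulz _ 1 (by
        rw [← ZMod.natCast_eq_natCast_iff']
        simp [mul_inv_cancel₀ (sub_ne_zero.mpr (Ne.symm hik))]), pow_one] at this
      exact this
    rw [← hPid z v hzv, hPz, LinearMap.zero_apply]
  have hsum : ∑ i : ZMod p, P (e i) = 1 := by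
    have hterm : ∀ (j : ℕ) (i : ZMod p), τ (e i) ^ j = τ (w ^ j) * τ (z ^ (i.val * j)) := fun j i => by
      rw [← map_pow, ← map_mul]
      congr 1
      rw [show e i ^ j = _ from (hcwz.pow_right i.val).mul_pow j, ← pow_mul]
    rw [Finset.sum_comm]
    simp only [hterm, ← Finset.mul_sum]
    rw [Finset.sum_eq_single 0]
    · simp only [pow_zero, mul_zero, map_one, one_mul, Finset.sum_const, Finset.card_univ, ZMod.card]
      rw [← Nat.cast_smul_eq_nsmul (ZMod 2), hpone, one_smul]
    · intro j hj hj0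
      have hjne : (j : ZMod p) ≠ 0 := by
        rw [Ne, ZMod.natCast_eq_zero_iff]
        exact Nat.not_dvd_of_pos_of_lt (Nat.pos_of_ne_zero hj0) (Finset.mem_range.mp hj)
      have : ∑ i : ZMod p, τ (z ^ (i.val * j)) = P z := by
        show _ = ∑ r ∈ Finset.range p, τ z ^ r
        refine Finset.sum_bij (fun i _ => (i * (j : ZMod p)).val) (fun i _ => Finset.mem_range.mpr (ZMod.val_lt _))
          ?_ ?_ ?_
        · intro a _ b _ hab'
          exact mul_right_cancel₀ hjne (ZMod.val_injective p hab')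
        · intro r hr
          refine ⟨(r : ZMod p) * (j : ZMod p)⁻¹, Finset.mem_univ _, ?_⟩
          rw [mul_assoc, inv_mul_cancel₀ hjne, mul_one, ZMod.val_natCast_of_lt (Finset.mem_range.mp hr)]
        · intro i _
          rw [← map_pow]
          refine congrArg τ (hmulz _ _ ?_)
          rw [← ZMod.natCast_eq_natCast_iff']
          simp
      rw [this, hPz, mul_zero]
    · exact fun h0 => absurd (Finset.mem_range.mpr hp'.pos) h0
  -- the blocks
  let U : ZMod p → Submodule (ZMod 2) V := fun i => LinearMap.range (P (e i))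
  have hUfix : ∀ i v, v ∈ U i → τ (e i) v = v := by
    rintro i _ ⟨v, rfl⟩
    exact hPfix _ (hep i) v
  have hUmem : ∀ i v, τ (e i) v = v → v ∈ U i := fun i v hv => ⟨v, hPid _ _ hv⟩
  have hPU : ∀ i k v, v ∈ U k → P (e i) v = if i = k then v else 0 := by
    intro i k v hv
    by_cases hik : i = k
    · subst hik
      rw [if_pos rfl]
      exact hPid _ _ (hUfix i v hv)
    rw [if_neg hik]
    refine hzero i k _ hik (hPfix _ (hep i) v) ?_
    have hc : Commute (τ (e k)) (τ (e i)) := by
      show τ (e k) * τ (e i) = τ (e i) * τ (e k)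
      rw [← map_mul, ← map_mul]
      congr 1
      exact (((Commute.refl w).mul_right (hcwz.pow_right _)).mul_left
        ((hcwz.symm.pow_left _).mul_right (Commute.pow_pow_self z _ _))).eq
    rw [← Module.End.mul_apply, (Commute.sum_right _ _ _ fun j _ => hc.pow_right j).eq, Module.End.mul_apply,
      hUfix k v hv]
  let Φ : V →ₗ[ZMod 2] ((i : ZMod p) → U i) := LinearMap.pi fun i => (P (e i)).rangeRestrict
  have hdim : ∀ X : ZMod p → Submodule (ZMod 2) V, (∀ i, X i ≤ U i) → ∀ Y : Submodule (ZMod 2) V,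
      (∀ i, X i ≤ Y) → ∑ i, finrank (ZMod 2) (X i) ≤ finrank (ZMod 2) Y := by
    intro X hX Y hY
    rw [← Module.finrank_pi_fintype]
    let Ψ : ((i : ZMod p) → X i) →ₗ[ZMod 2] Y :=
      ∑ i, (Submodule.inclusion (hY i)) ∘ₗ LinearMap.proj i
    refine LinearMap.finrank_le_finrank_of_injective (f := Ψ) ?_
    intro a b hab'
    funext i
    refine Subtype.ext ?_
    have key : ∀ a : (i : ZMod p) → X i, P (e i) (Ψ a : V) = (a i : V) := fun a => by
      simp only [Ψ, LinearMap.sum_apply, LinearMap.comp_apply, LinearMap.proj_apply, Submodule.coe_sum,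
        Submodule.coe_inclusion, map_sum]
      rw [Finset.sum_eq_single i (fun k _ hk => by rw [hPU i k _ (hX k (a k).2), if_neg (Ne.symm hk)])
        (fun h0 => absurd (Finset.mem_univ _) h0), hPU i i _ (hX i (a i).2), if_pos rfl]
    rw [← key a, ← key b, hab']
  -- conjugation on the blocks
  have hconj : ∀ b : B, ∃ c : ZMod p, ∀ i, b * e i * b⁻¹ = e (i + c) := by
    intro b
    obtain ⟨i₀, j₀, hij, hi₀⟩ := hE (b * w * b⁻¹) (hEn.conj_mem w hwE b)
    have hiter : ∀ r : ℕ, ∃ s : ℕ, b ^ r * w * (b ^ r)⁻¹ = w ^ (i₀ ^ r) * z ^ s := by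
      intro r
      induction r with
      | zero => exact ⟨0, by simp⟩
      | succ r ihr =>
        obtain ⟨s, hs⟩ := ihr
        refine ⟨j₀ * i₀ ^ r + s, ?_⟩
        have hbz : b * z ^ s * b⁻¹ = z ^ s := by
          rw [((show Commute b z from Subgroup.mem_center_iff.mp hzc b).pow_right s).eq, mul_inv_cancel_right]
        calc b ^ (r + 1) * w * (b ^ (r + 1))⁻¹ = b * (b ^ r * w * (b ^ r)⁻¹) * b⁻¹ := by rw [pow_succ']; group
          _ = (b * w * b⁻¹) ^ (i₀ ^ r) * (b * z ^ s * b⁻¹) := by rw [hs, conj_pow]; group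
          _ = _ := by
            rw [hij, hbz, (hcwz.pow_pow _ _).mul_pow, ← pow_mul, ← pow_mul, mul_assoc, ← pow_add, pow_succ' i₀]
    obtain ⟨r, hr⟩ := hB b
    obtain ⟨s, hs⟩ := hiter (p ^ r)
    rw [hr, one_mul, inv_one, mul_one] at hs
    have hone : ((i₀ : ℕ) : ZMod p) = 1 := by
      have hpw : w ^ (i₀ ^ p ^ r) = w * (z ^ s)⁻¹ := by
        conv_rhs => arg 1; rw [hs]
        rw [mul_inv_cancel_right]
      by_contra hne
      refine hwz ?_
      have hmem : w ^ ((i₀ ^ p ^ r + (p - 1)) % p) ∈ Subgroup.zpowers z := by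
        rw [← pow_eq_pow_mod _ (hEp w hwE), pow_add, hpw, (hcwz.pow_right s).inv_right.eq, mul_assoc, ← pow_succ',
          Nat.sub_add_cancel hp'.one_le, hEp w hwE, mul_one]
        exact inv_mem (Subgroup.pow_mem _ (Subgroup.mem_zpowers z) s)
      set a := (i₀ ^ p ^ r + (p - 1)) % p with ha
      have haz : (a : ZMod p) = (i₀ : ZMod p) - 1 := by
        rw [ha, ZMod.natCast_mod, Nat.cast_add, Nat.cast_pow, ZMod.pow_card_pow, Nat.cast_sub hp'.one_le,
          ZMod.natCast_self, Nat.cast_one, zero_sub, ← sub_eq_add_neg]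
      have hne0 : (a : ZMod p) ≠ 0 := by rw [haz]; exact sub_ne_zero.mpr hne
      have := Subgroup.pow_mem _ hmem ((a : ZMod p)⁻¹).val
      rw [← pow_mul, pow_eq_pow_mod _ (hEp w hwE)] at this
      have he1 : (a * ((a : ZMod p)⁻¹).val) % p = 1 := by
        rw [← Nat.one_mod_eq_one.mpr hp'.ne_one, ← ZMod.natCast_eq_natCast_iff']
        simp [mul_inv_cancel₀ hne0]
      rwa [he1, pow_one] at this
    refine ⟨(j₀ : ZMod p), fun i => ?_⟩
    have hw1 : w ^ i₀ = w := by
      rw [pow_eq_pow_mod _ (hEp w hwE)]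
      conv_rhs => rw [← pow_one w]
      congr 1
      rw [← Nat.one_mod_eq_one.mpr hp'.ne_one, ← ZMod.natCast_eq_natCast_iff', hone, Nat.cast_one]
    have hbz : b * z ^ i.val * b⁻¹ = z ^ i.val := by
      rw [((show Commute b z from Subgroup.mem_center_iff.mp hzc b).pow_right i.val).eq, mul_inv_cancel_right]
    show b * (w * z ^ i.val) * b⁻¹ = w * z ^ (i + (j₀ : ZMod p)).val
    rw [show b * (w * z ^ i.val) * b⁻¹ = (b * w * b⁻¹) * (b * z ^ i.val * b⁻¹) by group, hij, hw1, hbz,
      mul_assoc, ← pow_add]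
    congr 1
    refine hmulz _ _ ?_
    rw [← ZMod.natCast_eq_natCast_iff']
    simp [add_comm]
  choose c hc using hconj
  have hmove : ∀ (b : B) i v, v ∈ U i → τ b v ∈ U (i + c b) := by
    intro b i v hv
    refine hUmem _ _ ?_
    rw [← hc b i, ← Module.End.mul_apply, ← map_mul, inv_mul_cancel_right, map_mul, Module.End.mul_apply,
      hUfix i v hv]
  have hcmul : ∀ a b, c (a * b) = c b + c a := by
    intro a b
    have hinj' : Function.Injective e := by
      intro i k hik
      have h1 : z ^ i.val = z ^ k.val := mul_left_cancel hik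
      rw [pow_eq_pow_iff_modEq, hzo] at h1
      exact ZMod.val_injective p (Nat.ModEq.eq_of_lt_of_lt h1 (ZMod.val_lt i) (ZMod.val_lt k))
    have h1 := hc (a * b) 0
    rw [show a * b * e 0 * (a * b)⁻¹ = a * (b * e 0 * b⁻¹) * a⁻¹ by group, hc b 0, hc a] at h1
    have := hinj' h1
    rw [zero_add, zero_add] at this
    exact this.symm
  have hc1 : c 1 = 0 := by simpa using hcmul 1 1
  obtain ⟨i₁, hi₁⟩ : ∃ i, U i ≠ ⊥ := by
    by_contra h0
    push Not at h0
    have h1 : (1 : End (ZMod 2) V) = 0 := by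
      rw [← hsum]
      exact Finset.sum_eq_zero fun i _ => LinearMap.range_eq_bot.mp (h0 i)
    exact one_ne_zero h1
  obtain ⟨b₀, hb₀⟩ : ∃ b, c b ≠ 0 := by
    by_contra h0
    push Not at h0
    rcases hirr (U i₁) (fun a v hv => by
      have := hmove (π a) i₁ v hv
      rw [h0, add_zero, hτπ] at this
      exact this) with h1 | h1
    · exact hi₁ h1
    · have he : τ (e i₁) = 1 := LinearMap.ext fun v => hUfix _ _ (h1 ▸ Submodule.mem_top)
      refine hwz ?_
      have hw : w = (z ^ i₁.val)⁻¹ := eq_inv_of_mul_eq_one_left (hτinj _ he)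
      rw [hw]
      exact inv_mem (Subgroup.pow_mem _ (Subgroup.mem_zpowers z) _)
  have hcpow : ∀ b (r : ℕ), c (b ^ r) = (r : ZMod p) * c b := by
    intro b r
    induction r with
    | zero => simpa using hc1
    | succ r ihr => rw [pow_succ, hcmul, ihr]; push_cast; ring
  have htrans : ∀ i k, ∃ b, i + c b = k := fun i k =>
    ⟨b₀ ^ ((k - i) * (c b₀)⁻¹).val, by
      rw [hcpow, ZMod.natCast_zmod_val, mul_assoc, inv_mul_cancel₀ hb₀, mul_one, add_sub_cancel]⟩
  have hτb : ∀ b, Function.Injective (τ b) := fun b x y hxy => by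
    have h0 := congrArg (τ b⁻¹) hxy
    simpa [← Module.End.mul_apply, ← map_mul] using h0
  have heq : ∀ i k, finrank (ZMod 2) (U i) ≤ finrank (ZMod 2) (U k) := by
    intro i k
    obtain ⟨b, rfl⟩ := htrans i k
    refine LinearMap.finrank_le_finrank_of_injective
      (f := (τ b).restrict (p := U i) (q := U (i + c b)) (hmove b i)) fun x y hxy => Subtype.ext (hτb b ?_)
    exact congrArg Subtype.val hxy
  set d := finrank (ZMod 2) (U i₁) with hd
  have hUd : ∀ i, finrank (ZMod 2) (U i) = d := fun i => le_antisymm (heq _ _) (heq _ _)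
  have hd2 : 2 * m ≤ d := by
    haveI : Nontrivial (U i₁) := Submodule.nontrivial_iff_ne_bot.mpr hi₁
    have hz1 : ∀ v ∈ U i₁, τ z v ∈ U i₁ := by
      intro v hv
      have := hmove z i₁ v hv
      rwa [show c z = 0 from ?_, add_zero] at this
      have h1 := hc z 0
      rw [Subgroup.mem_center_iff.mp hzc (e 0) |>.symm, mul_inv_cancel_right] at h1
      have h2 : z ^ (0 : ZMod p).val = z ^ (0 + c z).val := mul_left_cancel h1
      rw [pow_eq_pow_iff_modEq, hzo] at h2
      exact (zero_add (c z)).symm.trans (ZMod.val_injective p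
        (Nat.ModEq.eq_of_lt_of_lt h2 (ZMod.val_lt _) (ZMod.val_lt _))).symm
    refine two_mul_le_finrank hm hpm ((τ z).restrict hz1) ?_ ?_
    · refine LinearMap.ext fun v => Subtype.ext ?_
      have hpw : ∀ r : ℕ, ((((τ z).restrict hz1) ^ r) v : V) = (τ z ^ r) v := by
        intro r
        induction r with
        | zero => rfl
        | succ r ihr => rw [pow_succ', pow_succ', Module.End.mul_apply, Module.End.mul_apply, ← ihr]; rfl
      rw [hpw, ← map_pow, hEp z hzE, map_one]; rfl
    · intro v hv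
      refine Subtype.ext ?_
      have h1 : τ z (v : V) = v := congrArg Subtype.val hv
      rw [← hPid z _ h1, hPz]; rfl
  have hVd : p * d ≤ n := by
    have h1 := hdim U (fun _ => le_rfl) ⊤ (fun _ => le_top)
    simp only [hUd, Finset.sum_const, Finset.card_univ, ZMod.card, smul_eq_mul, finrank_top] at h1
    exact hn ▸ h1
  -- elements with small moved space fix the blocks
  have hfixblock : ∀ a, SmallMoved p m σ a → c (π a) = 0 := by
    intro a ha
    rcases ha with h1 | ⟨t, rfl, -⟩
    swap
    · rw [map_pow, hcpow, ZMod.natCast_self, zero_mul]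
    by_contra hca
    let f := π a
    have hall : ∀ (j : ℕ) v, (τ f ^ j) v - v ∈ LinearMap.range (σ a - 1) := by
      intro j
      induction j with
      | zero => intro v; simp
      | succ j ihj =>
        intro v
        have e1 : (τ f ^ (j + 1)) v - v = (σ a - 1) ((τ f ^ j) v) + ((τ f ^ j) v - v) := by
          rw [pow_succ', Module.End.mul_apply, LinearMap.sub_apply, Module.End.one_apply, ← hτπ a]
          abel
        rw [e1]
        exact Submodule.add_mem _ (LinearMap.mem_range_self _ _) (ihj v)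
    have htop : U i₁ ⊔ LinearMap.range (σ a - 1) = ⊤ := by
      refine eq_top_iff.mpr fun v _ => ?_
      have hv : v = ∑ i, P (e i) v := by
        have h0 := congrArg (fun F : End (ZMod 2) V => F v) hsum
        simpa using h0.symm
      rw [hv]
      refine Submodule.sum_mem _ fun i _ => ?_
      set r := ((i₁ - i) * (c f)⁻¹).val with hr
      have hm1 : (τ f ^ r) (P (e i) v) ∈ U i₁ := by
        have := hmove (f ^ r) i (P (e i) v) (LinearMap.mem_range_self _ _)
        rwa [map_pow, hcpow, hr, ZMod.natCast_zmod_val, mul_assoc, inv_mul_cancel₀ hca, mul_one,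
          add_sub_cancel] at this
      rw [show P (e i) v = (τ f ^ r) (P (e i) v) - ((τ f ^ r) (P (e i) v) - P (e i) v) by abel]
      exact Submodule.sub_mem _ (Submodule.mem_sup_left hm1) (Submodule.mem_sup_right (hall r _))
    have h2 := Submodule.finrank_add_le_finrank_add_finrank (U i₁) (LinearMap.range (σ a - 1))
    rw [htop, finrank_top, hn, hUd] at h2
    have h3 : p * d ≤ d + 2 * m := hVd.trans (h2.trans (Nat.add_le_add_left h1 _))
    have h4 : 2 ≤ 2 ^ m := Nat.le_self_pow hm.ne' 2
    rw [hpm] at h3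
    nlinarith
  -- the stabiliser of the blocks
  let M : Subgroup A :=
    { carrier := {a | c (π a) = 0}
      one_mem' := by show c (π 1) = 0; rw [map_one, hc1]
      mul_mem' := fun {a b} ha hb => by
        show c (π (a * b)) = 0
        rw [map_mul, hcmul, ha, hb, add_zero]
      inv_mem' := fun {a} (ha : c (π a) = 0) => by
        show c (π a⁻¹) = 0
        have h0 := hcmul (π a⁻¹) (π a)
        rw [← map_mul, inv_mul_cancel, map_one, hc1, ha, zero_add] at h0
        exact h0.symm }
  have hMU : ∀ i, ∀ a : M, ∀ v ∈ U i, σ (a : A) v ∈ U i := fun i a v hv => by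
    have := hmove (π a) i v hv
    rwa [show c (π (a : A)) = 0 from a.2, add_zero] at this
  have hblock : ∀ i, ∀ a : A, ∀ ha : a ∈ M, SmallMoved p m σ a →
      SmallMoved p m (restrictHom (σ.comp M.subtype) (U i) (hMU i)) ⟨a, ha⟩ := by
    intro i a ha hs
    set σi := fun j => restrictHom (σ.comp M.subtype) (U j) (hMU j) with hσi
    have hle : movedDim (σi i) ⟨a, ha⟩ ≤ movedDim σ a :=
      movedDim_restrict_le (σ.comp M.subtype) (U i) (hMU i) ⟨a, ha⟩
    rcases hs with h1 | ⟨t, htp, h2⟩
    · exact Or.inl (hle.trans h1)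
    by_cases ht : t ∈ M
    · exact Or.inr ⟨⟨t, ht⟩, Subtype.ext htp, hle.trans h2⟩
    refine Or.inl ?_
    let X : ZMod p → Submodule (ZMod 2) V := fun j => (U j).map (σ a - 1)
    have hX : ∀ j, movedDim (σi j) ⟨a, ha⟩ = finrank (ZMod 2) (X j) := by
      intro j
      rw [movedDim, ← Submodule.finrank_map_subtype_eq]
      have : (LinearMap.range (σi j ⟨a, ha⟩ - 1)).map (U j).subtype = X j := by
        apply le_antisymm
        · rintro _ ⟨_, ⟨v, rfl⟩, rfl⟩
          exact ⟨v, v.2, rfl⟩
        · rintro _ ⟨v, hv, rfl⟩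
          exact ⟨_, ⟨⟨v, hv⟩, rfl⟩, rfl⟩
      rw [this]
    have hXU : ∀ j, X j ≤ U j := by
      rintro j _ ⟨v, hv, rfl⟩
      exact Submodule.sub_mem _ (hMU j ⟨a, ha⟩ v hv) hv
    have hsum' := hdim X hXU (LinearMap.range (σ a - 1)) fun j => LinearMap.map_le_range
    have hstep : ∀ j, finrank (ZMod 2) (X j) ≤ finrank (ZMod 2) (X (j + c (π t))) := by
      intro j
      refine le_trans (le_of_eq (Submodule.equivMapOfInjective (τ (π t)) (hτb _) (X j)).finrank_eq)
        (Submodule.finrank_mono ?_)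
      rintro _ ⟨_, ⟨v, hv, rfl⟩, rfl⟩
      refine ⟨τ (π t) v, hmove _ _ _ hv, ?_⟩
      have hcom : σ a * τ (π t) = τ (π t) * σ a := by
        rw [← hτπ, htp, map_pow, map_pow]
        exact ((Commute.refl _).pow_left _).eq
      simp only [LinearMap.sub_apply, Module.End.one_apply, map_sub]
      rw [← Module.End.mul_apply, hcom, Module.End.mul_apply]
    have hchain : ∀ (r : ℕ) j, finrank (ZMod 2) (X j) ≤ finrank (ZMod 2) (X (j + (r : ZMod p) * c (π t))) := by
      intro r
      induction r with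
      | zero => intro j; rw [Nat.cast_zero, zero_mul, add_zero]
      | succ r ihr =>
        intro j
        refine (ihr j).trans ((hstep _).trans (le_of_eq ?_))
        rw [show j + (r : ZMod p) * c (π t) + c (π t) = j + ((r + 1 : ℕ) : ZMod p) * c (π t) by push_cast; ring]
    have hall : ∀ j, finrank (ZMod 2) (X i) ≤ finrank (ZMod 2) (X j) := by
      intro j
      have := hchain ((j - i) * (c (π t))⁻¹).val i
      rwa [ZMod.natCast_zmod_val, mul_assoc, inv_mul_cancel₀ (show c (π t) ≠ 0 from ht), mul_one, add_sub_cancel] at this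
    have h5 : p * finrank (ZMod 2) (X i) ≤ 2 * m * p := by
      refine le_trans ?_ (hsum'.trans h2)
      refine le_trans (le_of_eq ?_) (Finset.sum_le_sum fun j _ => hall j)
      simp [ZMod.card]
    rw [hX, mul_comm (2 * m)] at *
    exact Nat.le_of_mul_le_mul_left h5 hp'.pos
  have hlt : ∀ i, finrank (ZMod 2) (U i) < n := fun i => by
    rw [hUd]
    have h1 : 1 ≤ d := le_trans (by omega) hd2
    have := hp'.two_le
    nlinarith
  have hgM : g ∈ M := hfixblock g hg
  have hhM : h ∈ M := hfixblock h hh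
  show σ g * σ h = σ h * σ g
  rw [← mul_one (σ g * σ h), ← mul_one (σ h * σ g), ← hsum, Finset.mul_sum, Finset.mul_sum]
  refine Finset.sum_congr rfl fun i _ => LinearMap.ext fun v => ?_
  have hcom := ih _ (hlt i) M (U i) (restrictHom (σ.comp M.subtype) (U i) (hMU i)) rfl (hA.to_subgroup M)
    ⟨g, hgM⟩ ⟨h, hhM⟩ (hblock i g hgM hg) (hblock i h hhM hh)
  exact congrArg Subtype.val
    (congrArg (fun F : End (ZMod 2) (U i) => F ⟨P (e i) v, LinearMap.mem_range_self _ _⟩) hcom.eq)

end Cfsg.Agent.H71
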