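import Cfsg.Agent.H71.HallHigmanB
import Cfsg.Agent.H71.SmallMoved
import Cfsg.Agent.Coprime.Action

/-!
An element `x` of order `p ^ (n + 1)`, `p` odd, on a module for a 2-group `D` of class two, the sum of
whose powers vanishes: the powers `x ^ p ^ n` commute on `D`; if moreover
`(x ^ p ^ n - 1) (∑ i < p ^ n, x ^ i) = 0` they centralise it.
-/

set_option autoImplicit false
set_option linter.style.haveILetI false
set_option linter.unusedSectionVars false
set_option maxHeartbeats 1000000

namespace Cfsg.Agent.H71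

open Subgroup
open Coprime Coprime.Weights Coprime.EndBound Coprime.FpfPrime Coprime.ShultGross
open scoped commutatorElement IsMulCommutative

variable {Y : Type*} [Group Y] {D : Subgroup Y}

/-- The centre of a subgroup, in the ambient group. -/
abbrev zc (D : Subgroup Y) : Subgroup Y := D ⊓ centralizer (D : Set Y)

instance zc_comm : IsMulCommutative (zc D) :=
  ⟨⟨fun a b => Subtype.ext (mem_centralizer_iff.mp b.2.2 (a : Y) a.2.1)⟩⟩

/-- A subgroup whose commutators and squares are central. -/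
structure ClassTwo (D : Subgroup Y) : Prop where
  comm : ∀ a ∈ D, ∀ b ∈ D, ⁅a, b⁆ ∈ zc D
  sq : ∀ a ∈ D, a * a ∈ zc D

theorem conj_mem_zc {a z : Y} (ha : a ∈ normalizer (D : Set Y)) (hz : z ∈ zc D) : a * z * a⁻¹ ∈ zc D := by
  refine ⟨Coprime.conj_mem ha hz.1, mem_centralizer_iff.mpr fun d hd => ?_⟩
  have h1 := mem_centralizer_iff.mp hz.2 (a⁻¹ * d * a) (Coprime.conj_mem' ha hd)
  calc d * (a * z * a⁻¹) = a * (a⁻¹ * d * a * z) * a⁻¹ := by group
    _ = a * (z * (a⁻¹ * d * a)) * a⁻¹ := by rw [h1]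
    _ = _ := by group

theorem mem_normalizer_zc {a : Y} (ha : a ∈ normalizer (D : Set Y)) : a ∈ normalizer (zc D : Set Y) := by
  refine mem_normalizer_iff.mpr fun z => ⟨conj_mem_zc ha, fun h => ?_⟩
  have h1 := conj_mem_zc (inv_mem ha) h
  rwa [inv_inv, show a⁻¹ * (a * z * a⁻¹) * a = z by group] at h1

variable {k : Type*} [Field k]

/-- The pairing of a character of the centre. -/
noncomputable def pair (h : ClassTwo D) (ψ : zc D →* kˣ) : D →* (D →* kˣ) :=
  MonoidHom.mk' (fun u => MonoidHom.mk' (fun b => ψ ⟨⁅(u : Y), (b : Y)⁆, h.comm u u.2 b b.2⟩) (fun b c => by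
      rw [← map_mul]
      congr 1
      refine Subtype.ext ?_
      have hz := mem_centralizer_iff.mp (h.comm u u.2 c c.2).2 (b : Y) b.2
      show ⁅(u : Y), (b : Y) * c⁆ = ⁅(u : Y), (b : Y)⁆ * ⁅(u : Y), (c : Y)⁆
      rw [show ⁅(u : Y), (b : Y) * c⁆ = ⁅(u : Y), (b : Y)⁆ * ((b : Y) * ⁅(u : Y), (c : Y)⁆ * (b : Y)⁻¹) by
        simp only [commutatorElement_def]; group, hz, mul_inv_cancel_right]))
    (fun u v => MonoidHom.ext fun b => by
      show ψ _ = ψ _ * ψ _
      rw [← map_mul]
      congr 1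
      refine Subtype.ext ?_
      have hz := mem_centralizer_iff.mp (h.comm v v.2 b b.2).2 (u : Y) u.2
      have hz2 := mem_centralizer_iff.mp (h.comm u u.2 b b.2).2 _ (h.comm v v.2 b b.2).1
      show ⁅(u : Y) * v, (b : Y)⁆ = ⁅(u : Y), (b : Y)⁆ * ⁅(v : Y), (b : Y)⁆
      rw [show ⁅(u : Y) * v, (b : Y)⁆ = (u : Y) * ⁅(v : Y), (b : Y)⁆ * (u : Y)⁻¹ * ⁅(u : Y), (b : Y)⁆ by
        simp only [commutatorElement_def]; group, hz, mul_inv_cancel_right, hz2])

theorem pair_apply (h : ClassTwo D) (ψ : zc D →* kˣ) (u b : D) :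
    pair h ψ u b = ψ ⟨⁅(u : Y), (b : Y)⁆, h.comm u u.2 b b.2⟩ := rfl

/-- The space `D / N_ψ`. -/
abbrev Sp (h : ClassTwo D) (ψ : zc D →* kˣ) : Type _ := Additive (pair h ψ).range

noncomputable instance spModule (h : ClassTwo D) (ψ : zc D →* kˣ) : Module (ZMod 2) (Sp h ψ) :=
  AddCommGroup.zmodModule (fun v => by
    induction v using Additive.rec with
    | _ f =>
      obtain ⟨_, u, rfl⟩ := f
      refine congrArg Additive.ofMul (Subtype.ext ?_ : (⟨pair h ψ u, u, rfl⟩ : (pair h ψ).range) ^ 2 = 1)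
      show pair h ψ u ^ 2 = 1
      rw [← map_pow]
      refine MonoidHom.ext fun b => ?_
      rw [pair_apply, MonoidHom.one_apply, ← map_one ψ]
      congr 1
      refine Subtype.ext ?_
      show ⁅((u ^ 2 : D) : Y), (b : Y)⁆ = 1
      rw [commutatorElement_eq_one_iff_mul_comm, SubmonoidClass.coe_pow, pow_two]
      exact (mem_centralizer_iff.mp (h.sq u u.2).2 (b : Y) b.2).symm)

/-- The stabiliser of a character of the centre. -/
def stabChar (D : Subgroup Y) (ψ : zc D →* kˣ) : Subgroup Y where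
  carrier := {a | a ∈ normalizer (D : Set Y) ∧ ∀ z z' : zc D, (z' : Y) = a * z * a⁻¹ → ψ z' = ψ z}
  one_mem' := ⟨one_mem _, fun z z' h => by rw [show z' = z from Subtype.ext (by simpa using h)]⟩
  mul_mem' := fun {a b} ha hb => ⟨mul_mem ha.1 hb.1, fun z z' h => by
    rw [ha.2 ⟨_, conj_mem_zc hb.1 z.2⟩ z' (by rw [h]; group), hb.2 z _ rfl]⟩
  inv_mem' := fun {a} ha => ⟨inv_mem ha.1, fun z z' h => (ha.2 z' z (by rw [h]; group)).symm⟩

theorem stabChar_le (D : Subgroup Y) (ψ : zc D →* kˣ) : stabChar D ψ ≤ normalizer (D : Set Y) :=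
  fun _ ha => ha.1

theorem le_stabChar (D : Subgroup Y) (ψ : zc D →* kˣ) : D ≤ stabChar D ψ := fun a ha =>
  ⟨le_normalizer ha, fun z z' h => by
    rw [show z' = z from Subtype.ext (by rw [h, mem_centralizer_iff.mp z.2.2 a ha, mul_inv_cancel_right])]⟩

/-- Conjugation on `D` by the stabiliser. -/
def conjD (D : Subgroup Y) (ψ : zc D →* kˣ) : stabChar D ψ →* MulAut D :=
  (Subgroup.normalizerMonoidHom D).comp (Subgroup.inclusion (stabChar_le D ψ))

theorem conjD_coe (ψ : zc D →* kˣ) (a : stabChar D ψ) (u : D) :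
    ((conjD D ψ a u : D) : Y) = a * u * (a : Y)⁻¹ := rfl

theorem pair_conjD (h : ClassTwo D) (ψ : zc D →* kˣ) (a : stabChar D ψ) (u b : D) :
    pair h ψ (conjD D ψ a u) b = pair h ψ u (conjD D ψ a⁻¹ b) := by
  rw [pair_apply, pair_apply]
  refine a.2.2 _ _ ?_
  show ⁅(a : Y) * u * (a : Y)⁻¹, (b : Y)⁆ = a * ⁅(u : Y), ((a⁻¹ : stabChar D ψ) : Y) * b * ((a⁻¹ : stabChar D ψ) : Y)⁻¹⁆ * (a : Y)⁻¹
  rw [Subgroup.coe_inv, commutatorElement_def, commutatorElement_def]
  group

/-- The action on `Additive` range of the pairing. -/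
noncomputable def actOne (h : ClassTwo D) (ψ : zc D →* kˣ) (a : stabChar D ψ) :
    (pair h ψ).range →* (pair h ψ).range :=
  MonoidHom.mk' (fun f => ⟨(f : D →* kˣ).comp (conjD D ψ a⁻¹).toMonoidHom, by
    obtain ⟨u, hu⟩ := f.2
    exact ⟨conjD D ψ a u, MonoidHom.ext fun b => by rw [pair_conjD, hu]; rfl⟩⟩) (fun _ _ => rfl)

/-- The action of the stabiliser on `D / N_ψ`. -/
noncomputable def act (h : ClassTwo D) (ψ : zc D →* kˣ) : stabChar D ψ →* Module.End (ZMod 2) (Sp h ψ) where
  toFun a := AddMonoidHom.toZModLinearMap 2 (MonoidHom.toAdditive (actOne h ψ a))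
  map_one' := LinearMap.ext fun f => by
    induction f using Additive.rec with
    | _ f =>
      refine congrArg Additive.ofMul (Subtype.ext (MonoidHom.ext fun b => ?_) : actOne h ψ 1 f = f)
      show (f : D →* kˣ) (conjD D ψ 1⁻¹ b) = _
      rw [inv_one, map_one, MulAut.one_apply]
  map_mul' a c := LinearMap.ext fun f => by
    induction f using Additive.rec with
    | _ f =>
      refine congrArg Additive.ofMul (Subtype.ext (MonoidHom.ext fun b => ?_) :
        actOne h ψ (a * c) f = actOne h ψ a (actOne h ψ c f))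
      show (f : D →* kˣ) (conjD D ψ (a * c)⁻¹ b) = (f : D →* kˣ) (conjD D ψ c⁻¹ (conjD D ψ a⁻¹ b))
      rw [mul_inv_rev, map_mul, MulAut.mul_apply]

/-- The class of an element in `D / N_ψ`. -/
noncomputable def cls (h : ClassTwo D) (ψ : zc D →* kˣ) (u : D) : Sp h ψ :=
  Additive.ofMul ⟨pair h ψ u, u, rfl⟩

theorem cls_surjective (h : ClassTwo D) (ψ : zc D →* kˣ) (v : Sp h ψ) : ∃ u, cls h ψ u = v := by
  induction v using Additive.rec with
  | _ f =>
    obtain ⟨_, u, rfl⟩ := f
    exact ⟨u, rfl⟩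

theorem cls_mul (h : ClassTwo D) (ψ : zc D →* kˣ) (u v : D) : cls h ψ (u * v) = cls h ψ u + cls h ψ v :=
  congrArg Additive.ofMul (Subtype.ext (map_mul (pair h ψ) u v) :
    (⟨pair h ψ (u * v), _, rfl⟩ : (pair h ψ).range) = ⟨pair h ψ u, u, rfl⟩ * ⟨pair h ψ v, v, rfl⟩)

theorem act_cls (h : ClassTwo D) (ψ : zc D →* kˣ) (a : stabChar D ψ) (u : D) :
    act h ψ a (cls h ψ u) = cls h ψ (conjD D ψ a u) :=
  congrArg Additive.ofMul (Subtype.ext (MonoidHom.ext fun b => (pair_conjD h ψ a u b).symm))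

theorem pair_eq_of_act_eq_one (h : ClassTwo D) (ψ : zc D →* kˣ) {a : stabChar D ψ} (ha : act h ψ a = 1)
    (u : D) : pair h ψ (conjD D ψ a u) = pair h ψ u := by
  have h1 := congrArg (fun F : Module.End (ZMod 2) (Sp h ψ) => F (cls h ψ u)) ha
  simp only [act_cls, Module.End.one_apply] at h1
  exact congrArg Subtype.val (Additive.ofMul.injective h1)

variable [Finite Y] {V : Type*} [AddCommGroup V] [Module k V] {ρ : Y →* Module.End k V}

theorem two_card_zc_ne_zero (hD2 : IsPGroup 2 D) (h2 : (2 : k) ≠ 0) : (Nat.card (zc D) : k) ≠ 0 := by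
  obtain ⟨j, hj⟩ := IsPGroup.iff_card.mp (hD2.to_le (inf_le_left : zc D ≤ D))
  rw [hj, Nat.cast_pow]
  exact pow_ne_zero _ (by simpa using h2)

variable [IsAlgClosed k] [FiniteDimensional k V]

omit [IsAlgClosed k] [FiniteDimensional k V] in
theorem commute_proj_of_mem_stabChar (ψ : zc D →* kˣ) {a : Y} (ha : a ∈ stabChar D ψ) :
    a ∈ FpfPrime.stab ρ (proj (ρ.comp (zc D).subtype) ψ) := by
  let σ : MulAut (zc D) := Subgroup.normalizerMonoidHom (zc D) ⟨a, mem_normalizer_zc ha.1⟩
  have h3 := Weights.mul_proj_of_conj (τ := ρ.comp (zc D).subtype) (σ := σ) (g := ρ a) (fun u => by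
    show ρ a * ρ u = ρ (a * u * a⁻¹) * ρ a
    rw [← map_mul, ← map_mul, inv_mul_cancel_right]) ψ
  rwa [show ψ.comp σ.symm.toMonoidHom = ψ from MonoidHom.ext fun u => by
    refine (ha.2 (σ.symm u) u ?_).symm
    exact (congrArg Subtype.val (σ.apply_symm_apply u)).symm] at h3

/-- The rank moved on `D / N_ψ` by an element whose powers sum to zero on the weight space. -/
theorem moved_rank {p l : ℕ} [Fact p.Prime] (hp2 : p ≠ 2) (h2 : (2 : k) ≠ 0)
    (hD : ClassTwo D) (hD2 : IsPGroup 2 D) (ψ : zc D →* kˣ) (hψ : proj (ρ.comp (zc D).subtype) ψ ≠ 0)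
    (a : stabChar D ψ) (hl : 0 < l) (hap : a ^ p ^ l = 1)
    (hsum : (∑ i ∈ Finset.range (p ^ l), ρ a ^ i) * proj (ρ.comp (zc D).subtype) ψ = 0) :
    movedDim (act hD ψ) (a ^ p ^ (l - 1)) = 0 ∨ ∃ j m, 0 < j ∧ j ≤ l ∧ 0 < m ∧ p ^ j = 2 ^ m + 1 ∧
      movedDim (act hD ψ) (a ^ p ^ (l - 1)) = 2 * m := by
  classical
  have hp : p.Prime := Fact.out
  haveI : Fact (Nat.Prime 2) := ⟨Nat.prime_two⟩
  set e := proj (ρ.comp (zc D).subtype) ψ with he
  set g := a ^ p ^ (l - 1) with hg
  have hgn : (g : Y) ∈ normalizer (D : Set Y) := g.2.1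
  let σg := conjD D ψ g
  let R' : Subgroup D := moved σg
  set R := R'.map D.subtype with hR
  have hRD : R ≤ D := map_subtype_le _
  have hgp : g ^ p = 1 := by rw [hg, ← pow_mul, ← pow_succ, Nat.sub_add_cancel hl, hap]
  have hcop : (Nat.card (zpowers (g : Y))).Coprime (Nat.card D) := by
    obtain ⟨j, hj⟩ := IsPGroup.iff_card.mp hD2
    rw [Nat.card_zpowers, hj]
    exact Nat.Coprime.coprime_dvd_left
      (orderOf_dvd_of_pow_eq_one (by rw [← SubmonoidClass.coe_pow, hgp, OneMemClass.coe_one]))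
      (((Nat.coprime_primes hp Nat.prime_two).mpr hp2).pow_right j)
  have hsol : Group.IsSolvable (zpowers (g : Y)) := Coprime.isSolvable_zpowers _
  have hgl : zpowers (g : Y) ≤ normalizer (D : Set Y) := zpowers_le.mpr hgn
  have hRle : ⁅D, zpowers (g : Y)⁆ = R := by
    refine le_antisymm (commutator_le_moved D hgn) ?_
    rw [hR, map_le_iff_le_comap]
    refine (Subgroup.closure_le _).mpr ?_
    rintro _ ⟨u, rfl⟩
    show (u : Y)⁻¹ * ((g : Y) * u * (g : Y)⁻¹) ∈ ⁅D, zpowers (g : Y)⁆
    have := commutator_mem_commutator (inv_mem u.2) (mem_zpowers (g : Y))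
    rw [commutatorElement_def, inv_inv] at this
    simpa [mul_assoc] using this
  -- the moved space
  let S2 : Subgroup (pair hD ψ).range := R'.map (pair hD ψ).rangeRestrict
  have hcard : Nat.card S2 = 2 ^ movedDim (act hD ψ) g := by
    haveI : Finite (Sp hD ψ) :=
      Finite.of_surjective (cls hD ψ) (cls_surjective hD ψ)
    have hrange : ∀ v, v ∈ LinearMap.range (act hD ψ g - 1) ↔ v.toMul ∈ S2 := by
      intro v
      constructor
      · rintro ⟨w, rfl⟩
        obtain ⟨u, rfl⟩ := cls_surjective hD ψ w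
        refine ⟨u⁻¹ * σg u, mem_moved σg u, ?_⟩
        have e1 : (act hD ψ g - 1) (cls hD ψ u) = cls hD ψ (u⁻¹ * σg u) := by
          rw [LinearMap.sub_apply, Module.End.one_apply, act_cls, cls_mul]
          have h0 : cls hD ψ u⁻¹ = - cls hD ψ u := congrArg Additive.ofMul (Subtype.ext (map_inv (pair hD ψ) u))
          rw [h0, sub_eq_add_neg, add_comm]
        rw [e1]; rfl
      · rintro ⟨r, hr, hrv⟩
        have hv : v = cls hD ψ r := by
          rw [← ofMul_toMul v, ← hrv]; rfl
        rw [hv]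
        clear hrv hv
        induction hr using Subgroup.closure_induction with
        | mem y hy =>
          obtain ⟨u, rfl⟩ := hy
          refine ⟨cls hD ψ u, ?_⟩
          rw [LinearMap.sub_apply, Module.End.one_apply, act_cls, cls_mul]
          have h0 : cls hD ψ u⁻¹ = - cls hD ψ u := congrArg Additive.ofMul (Subtype.ext (map_inv (pair hD ψ) u))
          rw [h0, sub_eq_add_neg, add_comm]
        | one =>
          have h0 : cls hD ψ 1 = 0 := congrArg Additive.ofMul (Subtype.ext (map_one (pair hD ψ)))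
          rw [h0]; exact Submodule.zero_mem _
        | mul y z _ _ hy hz => rw [cls_mul]; exact Submodule.add_mem _ hy hz
        | inv y _ hy =>
          have h0 : cls hD ψ y⁻¹ = - cls hD ψ y := congrArg Additive.ofMul (Subtype.ext (map_inv (pair hD ψ) y))
          rw [h0]; exact Submodule.neg_mem _ hy
    rw [movedDim, ← Nat.card_congr (Equiv.subtypeEquiv Additive.toMul hrange),
      Module.natCard_eq_pow_finrank (K := ZMod 2), Nat.card_zmod]
  -- the representation on the weight space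
  have hDst : ∀ u ∈ D, u ∈ FpfPrime.stab ρ e := fun u hu => commute_proj_of_mem_stabChar ψ (le_stabChar D ψ hu)
  have hast : (a : Y) ∈ FpfPrime.stab ρ e := commute_proj_of_mem_stabChar ψ a.2
  let R1 : Subgroup (FpfPrime.stab ρ e) := R.subgroupOf (FpfPrime.stab ρ e)
  let a1 : FpfPrime.stab ρ e := ⟨a, hast⟩
  let ι : R1 →* D := (((FpfPrime.stab ρ e).subtype.comp R1.subtype)).codRestrict D fun r => hRD r.2
  let f := (pair hD ψ).comp ι
  haveI : Nontrivial (LinearMap.range e) :=
    Submodule.nontrivial_iff_ne_bot.mpr (fun h => hψ (LinearMap.range_eq_bot.mp h))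
  have hscal : ∀ u v : R1, sub ρ e (((⁅u, v⁆ : R1)) : FpfPrime.stab ρ e) =
      ((f u (ι v) : kˣ) : k) • 1 := fun u v =>
    (sub_eq_iff _ (((f u (ι v) : kˣ) : k) • 1) (((f u (ι v) : kˣ) : k) • 1) (fun w => rfl)).mpr (by
      rw [smul_mul_assoc, one_mul]
      exact act_mul_proj (ρ.comp (zc D).subtype) ψ ⟨⁅(ι u : Y), (ι v : Y)⁆, hD.comm _ (ι u).2 _ (ι v).2⟩)
  have hcen : cen ((sub ρ e).comp R1.subtype) = f.ker := by
    ext u
    constructor
    · intro hu
      -- trivial on `R`
      have hR1 : ∀ v : R1, f u (ι v) = 1 := by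
        intro v
        have h5 : ((sub ρ e).comp R1.subtype).toHomUnits ⁅u, v⁆ = 1 := by
          rw [map_commutatorElement, commutatorElement_eq_one_iff_commute]
          exact Units.ext (hu v).eq
        have h6 := congrArg Units.val h5
        rw [MonoidHom.coe_toHomUnits, MonoidHom.comp_apply, Subgroup.coe_subtype, hscal, Units.val_one] at h6
        refine Units.ext (smul_left_injective k (one_ne_zero (α := Module.End k (LinearMap.range e))) ?_)
        show _ • (1 : Module.End k (LinearMap.range e)) = ((1 : kˣ) : k) • 1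
        rw [Units.val_one, one_smul]
        exact h6
      refine MonoidHom.mem_ker.mpr (MonoidHom.ext fun b => ?_)
      have hb : (b : Y) ∈ ((f u).ker).map D.subtype := by
        have hsup := Coprime.commutator_sup_centralizer hgl hcop (Or.inl hsol)
        have hmem : (b : Y) ∈ ⁅D, zpowers (g : Y)⁆ ⊔ (D ⊓ centralizer (zpowers (g : Y) : Set Y)) := by
          rw [hsup]; exact b.2
        refine (sup_le ?_ ?_ : _ ≤ ((f u).ker).map D.subtype) hmem
        · rw [hRle]
          rintro r hr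
          have hrD := hRD hr
          refine ⟨⟨r, hrD⟩, hR1 ⟨⟨r, hDst r hrD⟩, hr⟩, rfl⟩
        · rintro c ⟨hc, hcg⟩
          refine ⟨⟨c, hc⟩, MonoidHom.mem_ker.mpr ?_, rfl⟩
          have huR : ι u ∈ R' := by
            obtain ⟨w, hw, hwu⟩ := u.2
            rwa [show ι u = w from Subtype.ext hwu.symm]
          show pair hD ψ (ι u) ⟨c, hc⟩ = 1
          generalize ι u = r at huR ⊢
          induction huR using Subgroup.closure_induction with
          | mem y hy =>
            obtain ⟨w, rfl⟩ := hy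
            rw [map_mul, map_inv, MonoidHom.mul_apply, MonoidHom.inv_apply, pair_conjD,
              show conjD D ψ g⁻¹ ⟨c, hc⟩ = ⟨c, hc⟩ from Subtype.ext (by
                rw [conjD_coe, Subgroup.coe_inv, inv_inv]
                have := mem_centralizer_iff.mp hcg (g : Y) (mem_zpowers _)
                rw [mul_assoc, ← this, inv_mul_cancel_left]), inv_mul_cancel]
          | one => rw [map_one, MonoidHom.one_apply]
          | mul y z _ _ hy hz => rw [map_mul, MonoidHom.mul_apply, hy, hz, one_mul]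
          | inv y _ hy => rw [map_inv, MonoidHom.inv_apply, hy, inv_one]
      obtain ⟨b', hb', hbb⟩ := hb
      rw [MonoidHom.one_apply, ← show b' = b from Subtype.ext hbb]
      exact hb'
    · intro hu v
      show sub ρ e (u : FpfPrime.stab ρ e) * sub ρ e (v : FpfPrime.stab ρ e) =
        sub ρ e (v : FpfPrime.stab ρ e) * sub ρ e (u : FpfPrime.stab ρ e)
      have h1 := hscal u v
      rw [MonoidHom.mem_ker.mp hu, MonoidHom.one_apply, Units.val_one, one_smul] at h1
      rw [← map_mul, ← map_mul,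
        show (u : FpfPrime.stab ρ e) * v = ((⁅u, v⁆ : R1) : FpfPrime.stab ρ e) * (v * u) by
          show _ = ⁅(u : FpfPrime.stab ρ e), (v : FpfPrime.stab ρ e)⁆ * (v * u)
          rw [commutatorElement_def]; group,
        map_mul, h1, one_mul]
  have hfr : f.range.map (MonoidHom.id _) = R'.map (pair hD ψ) := by
    rw [Subgroup.map_id, MonoidHom.range_comp]
    congr 1
    ext r
    constructor
    · rintro ⟨u, rfl⟩
      obtain ⟨w, hw, hwu⟩ := u.2
      rwa [show ι u = w from Subtype.ext hwu.symm]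
    · intro hr
      exact ⟨⟨⟨r, hDst r r.2⟩, r, hr, rfl⟩, rfl⟩
  have hidx : (cen ((sub ρ e).comp R1.subtype)).index = 2 ^ movedDim (act hD ψ) g := by
    rw [hcen, Subgroup.index_ker, ← hcard]
    rw [Subgroup.map_id] at hfr
    rw [hfr, ← Subgroup.card_map_of_injective (f := (pair hD ψ).range.subtype) Subtype.val_injective (K := S2),
      Subgroup.map_map]
    rfl
  by_cases htop : cen ((sub ρ e).comp R1.subtype) = ⊤
  · left
    rw [htop, Subgroup.index_top] at hidx
    exact (Nat.pow_eq_one.mp hidx.symm).resolve_left (by norm_num)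
  right
  have hgY : ((a1 ^ p ^ (l - 1) : FpfPrime.stab ρ e) : Y) = (g : Y) := by
    rw [hg, SubmonoidClass.coe_pow, SubmonoidClass.coe_pow]
  have ha1R : a1 ∈ normalizer (R1 : Set (FpfPrime.stab ρ e)) := by
    have hcg : Commute (a : Y) (g : Y) := by rw [hg, SubmonoidClass.coe_pow]; exact Commute.self_pow _ _
    have haR : (a : Y) ∈ normalizer (R : Set Y) := by
      rw [← hRle]
      refine PQTower.mem_normalizer_comm a.2.1 (centralizer_le_normalizer _ (mem_centralizer_iff.mpr ?_))
      intro y hy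
      obtain ⟨i, rfl⟩ := mem_zpowers_iff.mp hy
      exact ((hcg.zpow_right i).eq).symm
    exact mem_normalizer_iff.mpr fun r => mem_normalizer_iff.mp haR (r : Y)
  obtain ⟨-, j, m, hj0, hjl, hm, hjm, hidx'⟩ := dichotomy' (ρ := sub ρ e) (V := LinearMap.range e)
    (s := 2) (Ne.symm hp2) hp2 (by simpa using h2) R1
    ((hD2.to_le hRD).comap_of_injective (FpfPrime.stab ρ e).subtype (FpfPrime.stab ρ e).subtype_injective) a1
    ha1R hl
    (Subtype.ext (by rw [SubmonoidClass.coe_pow]; exact congrArg Subtype.val hap))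
    (LinearMap.ext fun ⟨_, v, rfl⟩ => Subtype.ext (by
      have hTv : ∀ (i : ℕ) (w : LinearMap.range e),
          (((sub ρ e a1 ^ i) w : LinearMap.range e) : V) = (ρ a ^ i) w := fun i w => by
        rw [← map_pow, ← map_pow]
        show ρ ((a1 ^ i : FpfPrime.stab ρ e) : Y) w = _
        rw [SubmonoidClass.coe_pow]
      simp only [LinearMap.sum_apply, Submodule.coe_sum, hTv, LinearMap.zero_apply, Submodule.coe_zero]
      have := congrArg (fun F : Module.End k V => F v) hsum
      simpa only [Module.End.mul_apply, LinearMap.sum_apply, LinearMap.zero_apply] using this))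
    (fun u v => ⟨_, hscal u v⟩)
    (by
      rw [← map_le_map_iff_of_injective (FpfPrime.stab ρ e).subtype_injective, map_commutator, MonoidHom.map_zpowers,
        Subgroup.map_subgroupOf_eq_of_le (fun r hr => hDst r (hRD hr))]
      rw [show (FpfPrime.stab ρ e).subtype (a1 ^ p ^ (l - 1)) = (g : Y) from hgY, ← hRle,
        Coprime.commutator_commutator_eq hgl hcop (Or.inl hsol)])
    htop
  refine ⟨j, m, hj0, hjl, hm, hjm, Nat.pow_right_injective le_rfl ?_⟩
  exact hidx.symm.trans hidx'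

end Cfsg.Agent.H71
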