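import Mathlib.GroupTheory.Sylow
import Mathlib.GroupTheory.PGroup
import Mathlib.GroupTheory.Commutator.Basic
import Mathlib.Data.ZMod.Basic
import Mathlib.Tactic.LinearCombination
import Mathlib.Tactic.Ring
import Mathlib.Algebra.BigOperators.Group.Finset.Basic

/-!
A Chevalley-Warning lemma for functions on finite 2-groups: a `ZMod 2`-valued function of degree at
most `n` (all `(n+1)`-fold differences vanish) sums to zero over every subgroup of order `> 2 ^ n`.
For a central subgroup `M` of exponent two containing all squares, the indicator of `x ^ 2 ∈ K`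
has degree at most `2 j` when `K` has index `2 ^ j` in `M`.
-/

namespace Cfsg.Agent.H71

open scoped commutatorElement

variable {G H : Type*} [Group G] [Group H]

/-- Functions of degree at most `n`. -/
def DegLE : ℕ → (G → ZMod 2) → Prop
  | 0, f => ∀ x y, f x = f y
  | n + 1, f => ∀ a, DegLE n fun x => f (a * x) + f x

theorem degLE_const (c : ZMod 2) : ∀ n, DegLE n (fun _ : G => c)
  | 0 => fun _ _ => rfl
  | n + 1 => fun _ => degLE_const (c + c) n

theorem DegLE.succ : ∀ {n : ℕ} {f : G → ZMod 2}, DegLE n f → DegLE (n + 1) f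
  | 0, f, h => fun a x y => by simp only [h (a * x) (a * y), h x y]
  | _ + 1, _, h => fun a => (h a).succ

theorem DegLE.mono {n m : ℕ} {f : G → ZMod 2} (h : DegLE n f) (hm : n ≤ m) : DegLE m f := by
  induction hm with
  | refl => exact h
  | step _ ih => exact ih.succ

theorem DegLE.add : ∀ {n : ℕ} {f g : G → ZMod 2}, DegLE n f → DegLE n g → DegLE n (fun x => f x + g x)
  | 0, _, _, hf, hg => fun x y => by simp only [hf x y, hg x y]
  | n + 1, f, g, hf, hg => fun a => by
    have := (hf a).add (hg a)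
    have e : (fun x => f (a * x) + g (a * x) + (f x + g x)) =
        fun x => f (a * x) + f x + (g (a * x) + g x) := by funext x; abel
    rw [e]; exact this

theorem DegLE.shift : ∀ {n : ℕ} {f : G → ZMod 2}, DegLE n f → ∀ a, DegLE n (fun x => f (a * x))
  | 0, _, h => fun _ _ _ => h _ _
  | n + 1, f, h => fun a b => by
    have h1 := (h (a * b * a⁻¹)).shift a
    have e : (fun x => f (a * (b * x)) + f (a * x)) =
        fun x => f (a * b * a⁻¹ * (a * x)) + f (a * x) := by funext x; congr 2; group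
    rw [e]; exact h1

theorem degLE_mul_zero {n : ℕ} {f g : G → ZMod 2} (hg : DegLE n g) (hf : DegLE 0 f) :
    DegLE n (fun x => f x * g x) := by
  induction n generalizing g with
  | zero => exact fun x y => by simp only [hf x y, hg x y]
  | succ n ih =>
    intro a
    have h := ih (hg a)
    have e : (fun x => f (a * x) * g (a * x) + f x * g x) = fun x => f x * (g (a * x) + g x) := by
      funext x; rw [hf (a * x) x, mul_add]
    rw [e]; exact h

theorem DegLE.mul : ∀ {n m : ℕ} {f g : G → ZMod 2}, DegLE n f → DegLE m g →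
    DegLE (n + m) (fun x => f x * g x)
  | 0, m, _, _, hf, hg => (degLE_mul_zero hg hf).mono (by omega)
  | n + 1, 0, f, g, hf, hg => by
    have := degLE_mul_zero hf hg
    simp only [mul_comm (g _)] at this
    exact this
  | n + 1, m + 1, f, g, hf, hg => by
    rw [show n + 1 + (m + 1) = (n + m + 1) + 1 by omega]
    intro a
    have h1 : DegLE (n + (m + 1)) (fun x => (f (a * x) + f x) * g (a * x)) := (hf a).mul (hg.shift a)
    have h2 : DegLE (n + 1 + m) (fun x => f x * (g (a * x) + g x)) := hf.mul (hg a)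
    have h1' := h1.mono (m := n + m + 1) (by omega)
    have h2' := h2.mono (m := n + m + 1) (by omega)
    have e : (fun x => f (a * x) * g (a * x) + f x * g x) =
        fun x => (f (a * x) + f x) * g (a * x) + f x * (g (a * x) + g x) := by
      funext x
      have h2 : (2 : ZMod 2) = 0 := rfl
      linear_combination (-(f x * g (a * x))) * h2
    show DegLE (n + m + 1) fun x => f (a * x) * g (a * x) + f x * g x
    rw [e]
    exact h1'.add h2'

/-- Degree is detected through a surjective homomorphism. -/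
theorem degLE_of_comp {φ : G →* H} (hφ : Function.Surjective φ) :
    ∀ {n : ℕ} {f : H → ZMod 2}, DegLE n (fun x => f (φ x)) → DegLE n f
  | 0, f, h => fun x y => by
    obtain ⟨x, rfl⟩ := hφ x
    obtain ⟨y, rfl⟩ := hφ y
    exact h x y
  | n + 1, f, h => fun a => by
    obtain ⟨a, rfl⟩ := hφ a
    have := h a
    simp only [map_mul] at this
    exact degLE_of_comp hφ this

/-- The sum over a 2-subgroup of order larger than `2 ^ n` of a function of degree at most `n` vanishes. -/
theorem sum_eq_zero [Finite G] {n : ℕ} {f : G → ZMod 2} (hf : DegLE n f) {C : Subgroup G}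
    (hC : IsPGroup 2 C) (hcard : 2 ^ n < Nat.card C) (s : Finset G) (hs : ∀ x, x ∈ s ↔ x ∈ C) :
    ∑ x ∈ s, f x = 0 := by
  classical
  haveI : Fact (Nat.Prime 2) := ⟨Nat.prime_two⟩
  induction n generalizing f C s with
  | zero =>
    obtain ⟨k, hk⟩ := IsPGroup.iff_card.1 hC
    rw [Finset.sum_congr rfl fun x _ => hf x 1, Finset.sum_const, nsmul_eq_mul]
    have : s.card = Nat.card C := by
      rw [← Nat.card_eq_finsetCard]
      exact Nat.card_congr (Equiv.subtypeEquivRight hs)
    rw [this, hk]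
    obtain ⟨j, rfl⟩ : ∃ j, k = j + 1 := ⟨k - 1, by
      rcases k with _ | k
      · simp [hk] at hcard
      · omega⟩
    rw [Nat.cast_pow, show ((2 : ℕ) : ZMod 2) = 0 from rfl, pow_succ]
    simp
  | succ n ih =>
    obtain ⟨k, hk⟩ := IsPGroup.iff_card.1 hC
    rw [hk] at hcard
    have hnk : n + 1 < k := (Nat.pow_lt_pow_iff_right one_lt_two).1 hcard
    obtain ⟨D₀, hD₀⟩ := Sylow.exists_subgroup_card_pow_prime (G := C) 2 (n := k - 1)
      (by rw [hk]; exact pow_dvd_pow 2 (by omega))
    set D := D₀.map C.subtype with hD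
    have hDcard : Nat.card D = 2 ^ (k - 1) := by
      rw [← hD₀]; exact (Nat.card_congr (D₀.equivMapOfInjective _ C.subtype_injective).toEquiv).symm
    have hDC : D ≤ C := Subgroup.map_subtype_le _
    have hidx : (D.subgroupOf C).index = 2 := by
      have h := (D.subgroupOf C).index_mul_card
      rw [Nat.card_congr (Subgroup.subgroupOfEquivOfLe hDC).toEquiv, hDcard, hk] at h
      have hp : (2 : ℕ) ^ k = 2 * 2 ^ (k - 1) := by
        rw [← pow_succ', show k - 1 + 1 = k by omega]
      rw [hp] at h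
      exact Nat.eq_of_mul_eq_mul_right (by positivity) h
    obtain ⟨a, haC, haD⟩ : ∃ a, a ∈ C ∧ a ∉ D := by
      by_contra h
      push Not at h
      have : D = C := le_antisymm hDC h
      rw [this, Subgroup.subgroupOf_self, Subgroup.index_top] at hidx
      omega
    have hsplit : ∀ x, x ∈ C → (x ∈ D ↔ a⁻¹ * x ∉ D) := by
      intro x hx
      have h := Subgroup.mul_mem_iff_of_index_two hidx
        (a := (⟨a⁻¹, inv_mem haC⟩ : C)) (b := ⟨x, hx⟩)
      simp only [Subgroup.mem_subgroupOf, Subgroup.coe_mul, inv_mem_iff] at h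
      constructor
      · intro hxD hax; exact haD ((h.1 hax).2 hxD)
      · intro hax; by_contra hxD; exact hax (h.2 (iff_of_false haD hxD))
    let t := s.filter (· ∈ D)
    have ht : ∀ x, x ∈ t ↔ x ∈ D := fun x => by
      simp only [t, Finset.mem_filter, hs]; exact ⟨And.right, fun h => ⟨hDC h, h⟩⟩
    have hcomp : s.filter (fun x => x ∉ D) = t.map ⟨(a * ·), mul_right_injective a⟩ := by
      ext x
      simp only [Finset.mem_filter, hs, Finset.mem_map, ht, Function.Embedding.coeFn_mk]
      constructor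
      · rintro ⟨hxC, hxD⟩
        exact ⟨a⁻¹ * x, by_contra fun h => hxD ((hsplit x hxC).2 h), by simp⟩
      · rintro ⟨y, hy, rfl⟩
        exact ⟨mul_mem haC (hDC hy), fun h => (hsplit _ (mul_mem haC (hDC hy))).1 h (by simpa using hy)⟩
    rw [← Finset.sum_filter_add_sum_filter_not s (· ∈ D), hcomp, Finset.sum_map,
      ← Finset.sum_add_distrib]
    simp only [Function.Embedding.coeFn_mk, add_comm (f _) (f (a * _))]
    refine ih (f := fun x => f (a * x) + f x) (C := D) (hf a) (hC.to_le hDC) ?_ t ht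
    rw [hDcard]
    exact Nat.pow_lt_pow_right one_lt_two (by omega)

/-- If the indicator-like function `f` has degree at most `n` and `f 1 = 1`, then every 2-subgroup of
order `> 2 ^ n` contains a nontrivial `x` with `f x ≠ 0`. -/
theorem exists_ne_one_ne_zero [Finite G] {n : ℕ} {f : G → ZMod 2} (hf : DegLE n f) (h1 : f 1 = 1)
    {C : Subgroup G} (hC : IsPGroup 2 C) (hcard : 2 ^ n < Nat.card C) :
    ∃ x ∈ C, x ≠ 1 ∧ f x ≠ 0 := by
  classical
  by_contra h
  push Not at h
  letI := Fintype.ofFinite G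
  have := sum_eq_zero hf hC hcard (Finset.univ.filter (· ∈ C)) (by simp)
  rw [Finset.sum_eq_single (1 : G)] at this
  · rw [h1] at this; exact one_ne_zero this
  · intro x hx hx1
    exact h x (Finset.mem_filter.1 hx).2 hx1
  · intro h'; simp at h'

section squares

variable {M : Subgroup G}

/-- In a group of the kind considered, an index-two subgroup gives a function of degree at most two,
and of degree at most one if it contains all commutators. -/
theorem degLE_sq_mem_of_index_two (hMc : M ≤ Subgroup.center G) (hsq : ∀ x : G, x ^ 2 ∈ M)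
    {L : Subgroup G} (hLM : L ≤ M) (hL : (L.subgroupOf M).index = 2) [DecidablePred (· ∈ L)]
    {n : ℕ} (hn : n = 2 ∨ (n = 1 ∧ commutator G ≤ L)) :
    DegLE n (fun x : G => if x ^ 2 ∈ L then (1 : ZMod 2) else 0) := by
  classical
  let χ : G → ZMod 2 := fun m => if m ∈ L then 0 else 1
  have hχ : ∀ m ∈ M, ∀ m' ∈ M, χ (m * m') = χ m + χ m' := by
    intro m hm m' hm'
    have h := Subgroup.mul_mem_iff_of_index_two hL (a := (⟨m, hm⟩ : M)) (b := ⟨m', hm'⟩)
    simp only [Subgroup.mem_subgroupOf, Subgroup.coe_mul] at h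
    simp only [χ]
    by_cases h1 : m ∈ L <;> by_cases h2 : m' ∈ L <;> simp [h, h1, h2] <;> rfl
  have hcm : ∀ x y : G, ⁅x, y⁆ ∈ M := by
    intro x y
    have e : ⁅x, y⁆ = x ^ 2 * (x⁻¹ * y) ^ 2 * (y ^ 2)⁻¹ := by
      simp only [commutatorElement_def, pow_two]; group
    rw [e]
    exact mul_mem (mul_mem (hsq x) (hsq _)) (inv_mem (hsq y))
  -- the polar form
  let B : G → G → ZMod 2 := fun a x => χ ⁅a⁻¹, x⁆
  have hBadd : ∀ a b x, B a (b * x) = B a b + B a x := by
    intro a b x
    have e : ⁅a⁻¹, b * x⁆ = ⁅a⁻¹, b⁆ * (b * ⁅a⁻¹, x⁆ * b⁻¹) := by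
      simp only [commutatorElement_def]; group
    have hc : b * ⁅a⁻¹, x⁆ * b⁻¹ = ⁅a⁻¹, x⁆ := by
      rw [Subgroup.mem_center_iff.1 (hMc (hcm _ _)) b, mul_inv_cancel_right]
    simp only [B, e, hc]
    exact hχ _ (hcm _ _) _ (hcm _ _)
  have hd : ∀ a x : G, (if (a * x) ^ 2 ∈ L then (1 : ZMod 2) else 0) + (if x ^ 2 ∈ L then 1 else 0) =
      χ (a ^ 2) + B a x := by
    intro a x
    have hf : ∀ y : G, (if y ^ 2 ∈ L then (1 : ZMod 2) else 0) = 1 + χ (y ^ 2) := by
      intro y; simp only [χ]; split_ifs <;> rfl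
    have e : (a * x) ^ 2 = a ^ 2 * ⁅a⁻¹, x⁆ * x ^ 2 := by
      simp only [commutatorElement_def, pow_two]; group
    rw [hf, hf, e, hχ _ (mul_mem (hsq a) (hcm _ _)) _ (hsq x), hχ _ (hsq a) _ (hcm _ _)]
    have h2 : (2 : ZMod 2) = 0 := rfl
    linear_combination (1 + χ (x ^ 2)) * h2
  rcases hn with rfl | ⟨rfl, hcL⟩
  · intro a b x y
    simp only [hd, hBadd]
    have h2 : (2 : ZMod 2) = 0 := rfl
    linear_combination (B a x - B a y) * h2
  · intro a x y
    simp only [hd]
    have h0 : ∀ z, B a z = 0 := fun z => if_pos (hcL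
      (Subgroup.commutator_mem_commutator (Subgroup.mem_top a⁻¹) (Subgroup.mem_top z)))
    simp only [h0]

/-- A subgroup maximal among those containing `K` and avoiding `z` has index two in `M`. -/
theorem exists_index_two (hMc : M ≤ Subgroup.center G) (hM2 : ∀ m ∈ M, m ^ 2 = 1) [Finite G]
    {K : Subgroup G} (hK : K ≤ M) {z : G} (hz : z ∈ M) (hzK : z ∉ K) :
    ∃ L : Subgroup G, K ≤ L ∧ L ≤ M ∧ z ∉ L ∧ (L.subgroupOf M).index = 2 := by
  obtain ⟨L, ⟨hKL, hLM, hzL⟩, hmax⟩ :=
    (Set.toFinite {L : Subgroup G | K ≤ L ∧ L ≤ M ∧ z ∉ L}).exists_maximal ⟨K, le_rfl, hK, hzK⟩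
  refine ⟨L, hKL, hLM, hzL, ?_⟩
  rw [Subgroup.index_eq_two_iff]
  refine ⟨⟨z, hz⟩, fun b => ?_⟩
  by_cases hb : (b : G) ∈ L
  · refine Or.inr ⟨Subgroup.mem_subgroupOf.2 hb, fun h => hzL ?_⟩
    have h' := L.mul_mem (L.inv_mem hb) (Subgroup.mem_subgroupOf.1 h)
    simpa using h'
  · refine Or.inl ⟨Subgroup.mem_subgroupOf.2 ?_, fun h => hb (Subgroup.mem_subgroupOf.1 h)⟩
    show (b : G) * z ∈ L
    have hzin : z ∈ L ⊔ Subgroup.zpowers (b : G) := by
      by_contra h
      exact hb (hmax (y := L ⊔ Subgroup.zpowers (b : G))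
        ⟨hKL.trans le_sup_left, sup_le hLM (Subgroup.zpowers_le.2 b.2), h⟩ le_sup_left
        (Subgroup.mem_sup_right (Subgroup.mem_zpowers _)))
    haveI : L.Normal := Subgroup.Normal.mk fun l hl g => by
      rw [Subgroup.mem_center_iff.1 (hMc (hLM hl)) g, mul_inv_cancel_right]; exact hl
    obtain ⟨l, hl, w, hw, e⟩ := Subgroup.mem_sup_of_normal_left.1 hzin
    obtain ⟨i, rfl⟩ := Subgroup.mem_zpowers_iff.1 hw
    have hb2 : (b : G) ^ (2 : ℤ) = 1 := by
      rw [show (2 : ℤ) = ((2 : ℕ) : ℤ) from rfl, zpow_natCast]; exact hM2 _ b.2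
    rcases Int.even_or_odd' i with ⟨q, rfl | rfl⟩
    · rw [zpow_mul, hb2, one_zpow, mul_one] at e
      exact absurd (e ▸ hl) hzL
    · rw [zpow_add, zpow_mul, hb2, one_zpow, one_mul, zpow_one] at e
      have hlb : l * (b : G) = (b : G) * l := (Subgroup.mem_center_iff.1 (hMc (hLM hl)) b).symm
      have : (b : G) * z = l := by
        rw [← e, hlb, ← mul_assoc, ← pow_two, hM2 _ b.2, one_mul]
      rw [this]; exact hl

open Classical in
/-- The indicator of `x ^ 2 ∈ K` has degree at most twice the 2-logarithm of the index. -/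
theorem degLE_sq_mem (hMc : M ≤ Subgroup.center G) (hsq : ∀ x : G, x ^ 2 ∈ M)
    (hM2 : ∀ m ∈ M, m ^ 2 = 1) [Finite G] :
    ∀ (j : ℕ) (K : Subgroup G), K ≤ M → Nat.card M ≤ 2 ^ j * Nat.card K →
      DegLE (2 * j) (fun x : G => if x ^ 2 ∈ K then (1 : ZMod 2) else 0) := by
  intro j
  induction j with
  | zero =>
    intro K hK hj x y
    have : K = M := Subgroup.eq_of_le_of_card_ge hK (by simpa using hj)
    simp [this, hsq]
  | succ j ih =>
    intro K hK hj
    rcases hK.eq_or_lt with rfl | hlt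
    · simp [hsq]; exact degLE_const _ _
    obtain ⟨z, hz, hzK⟩ := SetLike.exists_of_lt hlt
    obtain ⟨L, hKL, hLM, hzL, hL2⟩ := exists_index_two hMc hM2 hK hz hzK
    set K' := K ⊔ Subgroup.zpowers z with hK'
    have hK'M : K' ≤ M := sup_le hK (Subgroup.zpowers_le.2 hz)
    have hinf : L ⊓ K' = K := by
      refine le_antisymm ?_ (le_inf hKL le_sup_left)
      rintro x ⟨hxL, hxK'⟩
      haveI : K.Normal := Subgroup.Normal.mk fun l hl g => by
        rw [Subgroup.mem_center_iff.1 (hMc (hK hl)) g, mul_inv_cancel_right]; exact hl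
      obtain ⟨l, hl, w, hw, rfl⟩ := Subgroup.mem_sup_of_normal_left.1 (show x ∈ K ⊔ Subgroup.zpowers z from hxK')
      have hw' : w ∈ L := by
        have := L.mul_mem (L.inv_mem (hKL hl)) hxL
        simpa using this
      obtain ⟨i, rfl⟩ := Subgroup.mem_zpowers_iff.1 hw
      have hz2 : z ^ (2 : ℤ) = 1 := by
        rw [show (2 : ℤ) = ((2 : ℕ) : ℤ) from rfl, zpow_natCast]; exact hM2 _ hz
      rcases Int.even_or_odd' i with ⟨q, rfl | rfl⟩
      · rw [zpow_mul, hz2, one_zpow, mul_one]; exact hl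
      · rw [zpow_add, zpow_mul, hz2, one_zpow, one_mul, zpow_one] at hw'
        exact absurd hw' hzL
    have hcard : Nat.card M ≤ 2 ^ j * Nat.card K' := by
      have hlt' : K < K' := lt_of_le_of_ne le_sup_left fun h => hzK (h ▸ Subgroup.mem_sup_right (Subgroup.mem_zpowers z))
      have h1 : Nat.card K ∣ Nat.card K' := Subgroup.card_dvd_of_le hlt'.le
      have h2 : Nat.card K ≠ Nat.card K' := fun h => hlt'.ne (Subgroup.eq_of_le_of_card_ge hlt'.le h.ge)
      obtain ⟨c, hc⟩ := h1
      have hc2 : 2 ≤ c := by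
        rcases c with _ | _ | c
        · have := Nat.card_pos (α := K'); simp at hc; omega
        · simp at hc; exact absurd hc.symm h2
        · omega
      rw [pow_succ] at hj
      calc Nat.card M ≤ 2 ^ j * 2 * Nat.card K := hj
        _ = 2 ^ j * (Nat.card K * 2) := by ring
        _ ≤ 2 ^ j * Nat.card K' := by rw [hc]; exact Nat.mul_le_mul_left _ (Nat.mul_le_mul_left _ hc2)
    have h1 := degLE_sq_mem_of_index_two hMc hsq hLM hL2 (n := 2) (Or.inl rfl)
    have h := (h1.mul (ih K' hK'M hcard)).mono (m := 2 * (j + 1)) (by omega)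
    have e : (fun x : G => if x ^ 2 ∈ K then (1 : ZMod 2) else 0) =
        fun x => (if x ^ 2 ∈ L then 1 else 0) * (if x ^ 2 ∈ K' then 1 else 0) := by
      funext x
      rw [← hinf]
      simp only [Subgroup.mem_inf]
      by_cases a1 : x ^ 2 ∈ L <;> by_cases a2 : x ^ 2 ∈ K' <;> simp [a1, a2]
    rw [e]; exact h

open Classical in
/-- A central elementary abelian `M` containing all squares, inside `M'` of the same kind: if the group is
large enough, some element outside `M'` squares to `1`. -/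
theorem exists_sq_eq_one_notMem [Finite G] {M' : Subgroup G} (hMM : M ≤ M') (hMc : M' ≤ Subgroup.center G)
    (hsq : ∀ x : G, x ^ 2 ∈ M) (hM2 : ∀ m ∈ M', m ^ 2 = 1) {j : ℕ} (hj : Nat.card M ≤ 2 ^ j)
    (hcard : 2 ^ (2 * j) * Nat.card M' < Nat.card G) : ∃ x : G, x ∉ M' ∧ x ^ 2 = 1 := by
  haveI : M'.Normal := Subgroup.Normal.mk fun m hm g => by
    rw [Subgroup.mem_center_iff.1 (hMc hm) g, mul_inv_cancel_right]; exact hm
  have hdeg := degLE_sq_mem (hMM.trans hMc) hsq (fun m hm => hM2 m (hMM hm)) j ⊥ bot_le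
    (by simpa using hj)
  let F : G ⧸ M' → ZMod 2 := fun q => if q.out ^ 2 ∈ (⊥ : Subgroup G) then 1 else 0
  have hF : ∀ x : G, F (QuotientGroup.mk' M' x) = if x ^ 2 ∈ (⊥ : Subgroup G) then 1 else 0 := by
    intro x
    have h : (QuotientGroup.mk' M' x).out⁻¹ * x ∈ M' := by
      rw [← QuotientGroup.eq, QuotientGroup.out_eq']; rfl
    obtain ⟨m, hm, e⟩ : ∃ m ∈ M', x = (QuotientGroup.mk' M' x).out * m := ⟨_, h, by simp⟩
    have : x ^ 2 = (QuotientGroup.mk' M' x).out ^ 2 := by
      conv_lhs => rw [e]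
      rw [Commute.mul_pow (show Commute _ m from Subgroup.mem_center_iff.1 (hMc hm) _), hM2 m hm, mul_one]
    simp only [F, this]
  have hdF : DegLE (2 * j) F := degLE_of_comp (QuotientGroup.mk'_surjective M') (by simpa only [hF] using hdeg)
  have hG : IsPGroup 2 (G ⧸ M') := fun q => by
    induction q using QuotientGroup.induction_on with
    | H x => exact ⟨1, by rw [pow_one]; exact (QuotientGroup.eq_one_iff _).2 (hMM (hsq x))⟩
  have h1 : F 1 = 1 := by
    have := hF 1
    rw [map_one] at this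
    rw [this, one_pow, if_pos (one_mem _)]
  obtain ⟨q, -, hq1, hq⟩ := exists_ne_one_ne_zero hdF h1 (hG.to_subgroup ⊤) (by
    rw [Subgroup.card_top]
    refine Nat.lt_of_mul_lt_mul_right (a := Nat.card M') ?_
    calc 2 ^ (2 * j) * Nat.card M' < Nat.card G := hcard
      _ = _ := (Subgroup.card_eq_card_quotient_mul_card_subgroup M'))
  obtain ⟨x, rfl⟩ := QuotientGroup.mk'_surjective M' q
  refine ⟨x, fun hx => hq1 ((QuotientGroup.eq_one_iff x).2 hx), ?_⟩
  rw [hF] at hq
  by_contra h
  exact hq (if_neg (fun h' => h (Subgroup.mem_bot.1 h')))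

end squares

end Cfsg.Agent.H71
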