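import Cfsg.Agent.H92.ExtraForm

/-!
Two extraspecial 2-groups with the same quadratic space are isomorphic; elementary abelian subgroups
correspond to totally singular subgroups.
-/

set_option autoImplicit false
set_option linter.style.haveILetI false

namespace Cfsg.Agent.H71.FormIso

open Subgroup QuadraticMap Cfsg.Agent.Orthogonal Cfsg.Agent.H92.ExtraForm Cfsg.Agent.H92

variable {E : Type*} [Group E] {E' : Type*} [Group E'] {U : Type*} [AddCommGroup U] [Module (ZMod 2) U]
  {Q : QuadraticForm (ZMod 2) U}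

/-- Graph lifting between two groups over the same quadratic space. -/
theorem nonempty_mulEquiv [Finite E] [Finite E'] (F : FormMap E U Q) (F' : FormMap E' U Q) :
    Nonempty (E ≃* E') := by
  classical
  let Γ : Subgroup (E × E') :=
    { carrier := {p | F'.π p.2 = F.π p.1}
      one_mem' := show F'.π 1 = F.π 1 by rw [F'.π_one, F.π_one]
      mul_mem' := fun {a b} ha hb => show F'.π (a.2 * b.2) = F.π (a.1 * b.1) by
        rw [F'.π_mul, F.π_mul, ha, hb]
      inv_mem' := fun {a} ha => show F'.π a.2⁻¹ = F.π a.1⁻¹ by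
        rw [F'.π_inv, F.π_inv, ha] }
  have hzc : ∀ (a : ZMod 2) (w : E × E'), w * (zp F.z a, zp F'.z a) = (zp F.z a, zp F'.z a) * w := fun a w => by
    rcases two_cases a with rfl | rfl
    · simp [zp, Prod.ext_iff]
    · simp only [zp, one_ne_zero, if_false]
      exact Prod.ext (mem_center_iff.mp ((F.mem_center _).mpr (Or.inr rfl)) w.1)
        (mem_center_iff.mp ((F'.mem_center _).mpr (Or.inr rfl)) w.2)
  let S : Set (Subgroup (E × E')) :=
    {H | H ≤ Γ ∧ (F.z, F'.z) ∈ H ∧ ((1 : E), F'.z) ∉ H}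
  have hS : S.Nonempty := by
    refine ⟨zpowers (F.z, F'.z), ?_, mem_zpowers _, ?_⟩
    · rw [zpowers_le]
      show F'.π F'.z = F.π F.z
      rw [F.π_z, F'.π_z]
    · intro h
      obtain ⟨k, hk⟩ := mem_zpowers_iff.mp h
      rw [Prod.ext_iff] at hk
      simp only [Prod.pow_fst, Prod.pow_snd] at hk
      rcases Int.even_or_odd' k with ⟨j, rfl | rfl⟩
      · refine F'.hz ?_
        rw [← hk.2, zpow_mul, zpow_ofNat, pow_two, F'.hzz, one_zpow]
      · refine F.hz ?_
        have h1 := hk.1
        rwa [zpow_add_one, zpow_mul, zpow_ofNat, pow_two, F.hzz, one_zpow, one_mul] at h1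
  obtain ⟨H, hH⟩ := S.toFinite.exists_maximal hS
  obtain ⟨hHΓ, hzzH, hzH⟩ := hH.prop
  have hdiag : ∀ a, (zp F.z a, zp F'.z a) ∈ H := fun a => by
    rcases two_cases a with rfl | rfl
    · simp only [zp, if_pos]; exact H.one_mem
    · simpa [zp] using hzzH
  -- `H` together with `(1, z)` exhausts `Γ`
  have hmax : ∀ x ∈ Γ, x ∈ H ∨ x * (1, F'.z) ∈ H := by
    intro x hx
    by_contra hcon
    push Not at hcon
    have hxx' : ∀ y ∈ Γ, y * y ∈ H := by
      intro y hy
      have : y * y = (zp F.z (Q (F.π y.1)), zp F'.z (Q (F.π y.1))) := by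
        refine Prod.ext (F.sq y.1) ?_
        show y.2 * y.2 = _
        rw [F'.sq, (hy : F'.π y.2 = F.π y.1)]
      rw [this]; exact hdiag _
    have hxx := hxx' x hx
    have hcomm : ∀ y ∈ Γ, ∃ c ∈ H, y * x = x * y * c ∧ ∀ w, w * c = c * w := by
      intro y hy
      refine ⟨(zp F.z (polar Q (F.π x.1) (F.π y.1)), zp F'.z (polar Q (F.π x.1) (F.π y.1))),
        hdiag _, Prod.ext (F.comm x.1 y.1) ?_, fun w => hzc _ w⟩
      show y.2 * x.2 = _
      rw [F'.comm x.2 y.2, (hx : F'.π x.2 = F.π x.1), (hy : F'.π y.2 = F.π y.1)]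
      rfl
    let K : Subgroup (E × E') :=
      { carrier := {y | y ∈ Γ ∧ (y ∈ H ∨ x * y ∈ H)}
        one_mem' := ⟨one_mem _, Or.inl (one_mem _)⟩
        mul_mem' := fun {a b} ha hb => ⟨mul_mem ha.1 hb.1, by
          obtain ⟨c, hc, hac, hcc⟩ := hcomm a ha.1
          have e1 : a * x = x * a * c := hac
          rcases ha.2 with ha' | ha' <;> rcases hb.2 with hb' | hb'
          · exact Or.inl (mul_mem ha' hb')
          · refine Or.inr ?_
            have : x * (a * b) = (a * (x * b)) * c⁻¹ := by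
              calc x * (a * b) = (x * a * c) * c⁻¹ * b := by group
                _ = (a * x) * (c⁻¹ * b) := by rw [← e1]; group
                _ = (a * x) * (b * c⁻¹) := by rw [((Commute.inv_right (hcc b)).eq)]
                _ = _ := by group
            rw [this]
            exact mul_mem (mul_mem ha' hb') (inv_mem hc)
          · exact Or.inr (by rw [← mul_assoc]; exact mul_mem ha' hb')
          · refine Or.inl ?_
            have : a * b = (x * x)⁻¹ * ((x * a) * (x * b)) * c⁻¹ := by
              calc a * b = (x * x)⁻¹ * (x * (x * a * c) * c⁻¹ * b) := by group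
                _ = (x * x)⁻¹ * (x * (a * x)) * (c⁻¹ * b) := by rw [← e1]; group
                _ = (x * x)⁻¹ * (x * (a * x)) * (b * c⁻¹) := by
                  rw [((Commute.inv_right (hcc b)).eq)]
                _ = _ := by group
            rw [this]
            exact mul_mem (mul_mem (inv_mem hxx) (mul_mem ha' hb')) (inv_mem hc)⟩
        inv_mem' := fun {a} ha => ⟨inv_mem ha.1, by
          rcases ha.2 with ha' | ha'
          · exact Or.inl (inv_mem ha')
          · refine Or.inr ?_
            have : x * a⁻¹ = (x * a) * (a * a)⁻¹ := by group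
            rw [this]
            exact mul_mem ha' (inv_mem (hxx' a ha.1))⟩ }
    have hHK : H ≤ K := fun y hy => ⟨hHΓ hy, Or.inl hy⟩
    have hxK : x ∈ K := ⟨hx, Or.inr hxx⟩
    have hzK : ((1 : E), F'.z) ∈ K := by
      by_contra hzK
      have hKS : K ∈ S := ⟨fun y (hy : y ∈ Γ ∧ _) => hy.1, hHK hzzH, hzK⟩
      exact hcon.1 (hH.le_of_ge hKS hHK hxK)
    rcases hzK.2 with e | e
    · exact hzH e
    · exact hcon.2 e
  have hzmem : ∀ {w : E × E'}, w ∈ H → w.1 = 1 → w.2 = 1 := by
    intro w hw hw1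
    have h2 : F'.π w.2 = F.π w.1 := hHΓ hw
    rw [hw1, F.π_one, F'.π_eq_zero] at h2
    rcases h2 with e | e
    · exact e
    · exact absurd (by rwa [show w = ((1 : E), F'.z) from Prod.ext hw1 e] at hw) hzH
  have hex : ∀ e : E, ∃ y, (e, y) ∈ H := by
    intro e
    obtain ⟨y, hy⟩ := F'.surj (F.π e)
    rcases hmax (e, y) hy with h | h
    · exact ⟨y, h⟩
    · exact ⟨y * F'.z, by simpa using h⟩
  choose φ hφ using hex
  have huniq : ∀ {e : E} {y : E'}, (e, y) ∈ H → y = φ e := by
    intro e y h
    have := hzmem (mul_mem (inv_mem h) (hφ e)) (by simp)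
    exact inv_mul_eq_one.mp (by simpa using this)
  let f : E →* E' := MonoidHom.mk' φ fun a b => (huniq (mul_mem (hφ a) (hφ b))).symm
  have hinj : Function.Injective f := by
    rw [injective_iff_map_eq_one]
    intro e he
    have h1 : (e, (1 : E')) ∈ H := by
      have := hφ e
      rwa [show φ e = 1 from he] at this
    have h2 : F'.π 1 = F.π e := hHΓ h1
    rw [F'.π_one, eq_comm, F.π_eq_zero] at h2
    rcases h2 with e1 | e1
    · exact e1
    · subst e1
      exact absurd (by simpa [F.hzz, F'.hzz] using mul_mem h1 hzzH) hzH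
  have hsurj : Function.Surjective f := by
    intro y
    obtain ⟨e, he⟩ := F.surj (F'.π y)
    rcases hmax (e, y) he.symm with h | h
    · exact ⟨e, (huniq h).symm⟩
    · refine ⟨e * F.z, ?_⟩
      have h' := mul_mem h hzzH
      simp only [Prod.mk_mul_mk, mul_one, mul_assoc, F'.hzz] at h'
      exact (huniq h').symm
  exact ⟨MulEquiv.ofBijective f ⟨hinj, hsurj⟩⟩

/-- The hom to the quadratic space. -/
def toVec (F : FormMap E U Q) (A : Subgroup E) : A →* Multiplicative U :=
  MonoidHom.mk' (fun a => .ofAdd (F.π a)) fun a b => by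
    rw [← ofAdd_add]; congr 1; exact F.π_mul a b

theorem card_ker_toVec [Finite E] (F : FormMap E U Q) (A : Subgroup E) :
    Nat.card (toVec F A).ker ≤ 2 := by
  let g : (toVec F A).ker → ({1, F.z} : Set E) := fun a => ⟨(a : A), by
    rcases (F.π_eq_zero _).mp (congrArg Multiplicative.toAdd (MonoidHom.mem_ker.mp a.2)) with h | h
    · exact Or.inl h
    · exact Or.inr h⟩
  have hg : Function.Injective g := fun a b h => Subtype.ext (Subtype.ext (congrArg (fun x : ({1, F.z} : Set E) => (x : E)) h))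
  refine (Nat.card_le_card_of_injective g hg).trans ?_
  rw [Nat.card_coe_set_eq]
  exact (Set.ncard_insert_le _ _).trans (by simp)

/-- An elementary abelian subgroup has order at most twice the square root of the space. -/
theorem exists_le_of_elementary [Finite E] [Finite U] (F : FormMap E U Q) (hnd : Nondeg Q) {A : Subgroup E}
    (hA : Cfsg.IsElementaryAbelian 2 A) :
    ∃ w : ℕ, Nat.card A ≤ 2 * w ∧ w ^ 2 ≤ Nat.card U := by
  classical
  have := Fintype.ofFinite U
  let W : AddSubgroup U := Subgroup.toAddSubgroup' (toVec F A).range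
  have hW : ∀ u ∈ W, Q u = 0 := by
    rintro u ⟨a, ha⟩
    obtain rfl : F.π a = u := congrArg Multiplicative.toAdd ha
    apply zp_inj F.hz
    rw [← F.sq, ← pow_two, hA.2 a a.2]; simp [zp]
  let B : U →+ U →+ ZMod 2 :=
    AddMonoidHom.mk' (fun u => AddMonoidHom.mk' (fun v => polar (⇑Q) u v)
      (fun v w => Q.polar_add_right u v w))
      (fun u v => AddMonoidHom.ext fun w => Q.polar_add_left u v w)
  have hq : F2Forms.IsQuad (⇑Q) B := by
    refine ⟨fun u v => map_add_polar Q u v, fun w hw => hnd w fun v => ?_⟩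
    rw [polar_comm (⇑Q)]; exact hw v
  refine ⟨Nat.card W, ?_, ?_⟩
  · rw [← card_mul_index (toVec F A).ker, index_ker]
    exact Nat.mul_le_mul (card_ker_toVec F A) (le_of_eq rfl)
  · have h := hq.card_sq_le hW
    simpa [pow_two] using h

/-- A totally singular subgroup lifts to an elementary abelian subgroup of twice its order. -/
theorem exists_elementary_of [Finite E] (F : FormMap E U Q) (W : AddSubgroup U) (hW : ∀ u ∈ W, Q u = 0) :
    ∃ A : Subgroup E, Cfsg.IsElementaryAbelian 2 A ∧ Nat.card A = 2 * Nat.card W := by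
  classical
  let A : Subgroup E :=
    { carrier := {x | F.π x ∈ W}
      one_mem' := show F.π 1 ∈ W by rw [F.π_one]; exact W.zero_mem
      mul_mem' := fun {a b} ha hb => show F.π (a * b) ∈ W by rw [F.π_mul]; exact W.add_mem ha hb
      inv_mem' := fun {a} ha => show F.π a⁻¹ ∈ W by rw [F.π_inv]; exact W.neg_mem ha }
  have hsq : ∀ a ∈ A, a * a = 1 := fun a ha => by simp [F.sq, hW _ ha, zp]
  refine ⟨A, ⟨⟨⟨?_⟩⟩, fun a ha => by rw [pow_two]; exact hsq a ha⟩, ?_⟩
  · rintro ⟨a, ha⟩ ⟨b, hb⟩
    apply Subtype.ext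
    calc a * b = (a * b)⁻¹ := (inv_eq_of_mul_eq_one_left (hsq _ (A.mul_mem ha hb))).symm
      _ = b * a := by
        rw [mul_inv_rev, inv_eq_of_mul_eq_one_left (hsq a ha), inv_eq_of_mul_eq_one_left (hsq b hb)]
  · have hzA : F.z ∈ A := show F.π F.z ∈ W by rw [F.π_z]; exact W.zero_mem
    have hk2 : Nat.card (toVec F A).ker = 2 := by
      rw [Nat.card_eq_two_iff' (⟨1, one_mem _⟩ : (toVec F A).ker)]
      refine ⟨⟨⟨F.z, hzA⟩, MonoidHom.mem_ker.mpr (congrArg Multiplicative.ofAdd F.π_z)⟩,
        fun e => F.hz (congrArg (fun u : (toVec F A).ker => ((u : A) : E)) e), ?_⟩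
      rintro ⟨b, hb⟩ hb1
      rcases (F.π_eq_zero _).mp (congrArg Multiplicative.toAdd (MonoidHom.mem_ker.mp hb)) with e | e
      · exact absurd (Subtype.ext (Subtype.ext e)) hb1
      · exact Subtype.ext (Subtype.ext e)
    have hr : Subgroup.toAddSubgroup' (toVec F A).range = W := by
      ext u
      constructor
      · rintro ⟨a, ha⟩
        obtain rfl : F.π a = u := congrArg Multiplicative.toAdd ha
        exact a.2
      · intro hu
        obtain ⟨x, rfl⟩ := F.surj u
        exact ⟨⟨x, hu⟩, rfl⟩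
    rw [← card_mul_index (toVec F A).ker, hk2, index_ker]
    exact congrArg (2 * ·) (congrArg (fun S : AddSubgroup U => Nat.card S) hr)

end Cfsg.Agent.H71.FormIso
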