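import Cfsg.Agent.H71.PlaneCore
import Mathlib.FieldTheory.IsAlgClosed.AlgebraicClosure
import Mathlib.Algebra.Module.ZMod
import Mathlib.Algebra.CharP.Lemmas
import Mathlib.LinearAlgebra.Dual.Lemmas

/-!
Automorphisms of an abelian group of exponent `q` on its homomorphisms into an algebraic closure of
`ZMod q`, and the pairing of a class two `q`-group attached to a character of its centre.
-/

set_option autoImplicit false
set_option linter.style.haveILetI false
set_option linter.unusedSectionVars false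

namespace Cfsg.Agent.H71.GrossTwo

open Subgroup
open scoped commutatorElement IsMulCommutative

section Dual

variable (A : Type*) [CommGroup A] (q : ℕ) [Fact q.Prime]

/-- The coefficient field. -/
abbrev Cq := AlgebraicClosure (ZMod q)

/-- Homomorphisms into the coefficient field. -/
abbrev Du := Additive A →+ Cq q

/-- The contragredient representation. -/
noncomputable def dualRep : MulAut A →* Module.End (Cq q) (Du A q) where
  toFun σ :=
    { toFun := fun f => f.comp (MonoidHom.toAdditive σ⁻¹.toMonoidHom)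
      map_add' := fun _ _ => rfl
      map_smul' := fun _ _ => rfl }
  map_one' := LinearMap.ext fun f => AddMonoidHom.ext fun v => rfl
  map_mul' σ τ := LinearMap.ext fun f => AddMonoidHom.ext fun v => by
    show f (Additive.ofMul ((σ * τ)⁻¹ (Additive.toMul v))) = f (Additive.ofMul (τ⁻¹ (σ⁻¹ (Additive.toMul v))))
    rw [mul_inv_rev, MulAut.mul_apply]

theorem dualRep_apply (σ : MulAut A) (f : Du A q) (a : A) :
    dualRep A q σ f (Additive.ofMul a) = f (Additive.ofMul (σ⁻¹ a)) := rfl

variable {A q} [Finite A]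

instance : FiniteDimensional (Cq q) (Du A q) :=
  FiniteDimensional.of_injective
    ({ toFun := fun f v => f v, map_add' := fun _ _ => rfl, map_smul' := fun _ _ => rfl } :
      Du A q →ₗ[Cq q] (Additive A → Cq q))
    (fun _ _ h => AddMonoidHom.ext fun v => congrFun h v)

theorem two_ne_zero (hq2 : q ≠ 2) : (2 : Cq q) ≠ 0 := fun h =>
  hq2 ((Nat.prime_dvd_prime_iff_eq (Fact.out : q.Prime) Nat.prime_two).mp
    ((CharP.cast_eq_zero_iff (Cq q) q 2).mp (by exact_mod_cast h)))

/-- Homomorphisms separate the points. -/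
theorem eq_one_of_dualRep (hexp : ∀ a : A, a ^ q = 1) {σ : MulAut A} (h : dualRep A q σ = 1) : σ = 1 := by
  suffices h1 : σ⁻¹ = 1 from inv_eq_one.mp h1
  refine MulEquiv.ext fun a => ?_
  by_contra hne
  set u : A := σ⁻¹ a * a⁻¹ with hu
  have hu1 : Additive.ofMul u ≠ 0 := fun e => hne (mul_inv_eq_one.mp (e : u = 1))
  have hexp' : ∀ v : Additive A, q • v = 0 := fun v => by
    induction v using Additive.rec with
    | _ b => exact congrArg Additive.ofMul (hexp b)
  let _ : Module (ZMod q) (Additive A) := AddCommGroup.zmodModule hexp'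
  obtain ⟨φ, hφ⟩ : ∃ φ : Module.Dual (ZMod q) (Additive A), φ.toAddMonoidHom (Additive.ofMul u) ≠ 0 := by
    by_contra hc
    push Not at hc
    exact hu1 ((Module.forall_dual_apply_eq_zero_iff (ZMod q) _).mp hc)
  let f : Du A q := (algebraMap (ZMod q) (Cq q)).toAddMonoidHom.comp φ.toAddMonoidHom
  have h2 : f (Additive.ofMul (σ⁻¹ a)) = f (Additive.ofMul a) := by
    rw [← dualRep_apply, h]; rfl
  refine hφ ((algebraMap (ZMod q) (Cq q)).injective (Eq.trans ?_ (map_zero _).symm))
  show f (Additive.ofMul u) = 0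
  rw [hu, ofMul_mul, ofMul_inv, map_add, map_neg, h2, add_neg_cancel]

/-- An automorphism trivial where its involutory power is, moving a plane, is a plane element. -/
theorem planeElt_dual (hq2 : q ≠ 2) {L : ℕ} (hL : 0 < L) (σ : MulAut A) (hσ : σ ^ 2 ^ L = 1)
    (hfix : ∀ a, (σ ^ 2 ^ (L - 1)) a = a → σ a = a) (B : Subgroup A)
    (hB : ∀ a, a⁻¹ * (σ ^ 2 ^ (L - 1)) a ∈ B) (hcard : Nat.card B = q ^ 2) (hexp : ∀ a : A, a ^ q = 1) :
    Plane.PlaneElt (dualRep A q σ) L := by
  have h2 := two_ne_zero (q := q) hq2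
  set g := σ ^ 2 ^ (L - 1) with hg
  have hgg : g * g = 1 := by rw [hg, ← pow_add, ← two_mul, ← pow_succ', Nat.sub_add_cancel hL, hσ]
  have hga : ∀ a, g (g a) = a := fun a => by rw [← MulAut.mul_apply, hgg, MulAut.one_apply]
  have hginv : g⁻¹ = g := inv_eq_of_mul_eq_one_right hgg
  have hgfix : ∀ a, g (a * g a) = a * g a := fun a => by rw [map_mul, hga, mul_comm]
  refine ⟨by rw [← map_pow, hσ, map_one], fun f hf => ?_, ?_⟩
  · rw [← map_pow, ← hg] at hf
    have hfg : ∀ a, f (Additive.ofMul (g a)) = f (Additive.ofMul a) := fun a => by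
      conv_rhs => rw [← hf, dualRep_apply, hginv]
    have hsfix : ∀ a, g a = a → σ⁻¹ a = a := fun a ha => by
      nth_rw 1 [← hfix a ha]
      exact MulEquiv.symm_apply_apply σ a
    have hcomm : ∀ a, σ⁻¹ (g a) = g (σ⁻¹ a) := fun a => by
      rw [← MulAut.mul_apply, ← MulAut.mul_apply, hg, ((Commute.refl σ).inv_left.pow_right _).eq]
    refine AddMonoidHom.ext fun v => ?_
    induction v using Additive.rec with
    | _ a =>
      rw [dualRep_apply]
      have e1 : f (Additive.ofMul (σ⁻¹ a)) + f (Additive.ofMul (σ⁻¹ a)) = f (Additive.ofMul (a * g a)) := by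
        nth_rw 2 [← hfg]
        rw [← map_add, ← ofMul_mul, ← hcomm, ← map_mul, hsfix _ (hgfix a)]
      have e2 : f (Additive.ofMul a) + f (Additive.ofMul a) = f (Additive.ofMul (a * g a)) := by
        nth_rw 2 [← hfg]
        rw [← map_add, ← ofMul_mul]
      rw [← e2, ← two_mul, ← two_mul] at e1
      exact mul_left_cancel₀ h2 e1
  · obtain ⟨b1, b2, hgen⟩ : ∃ b1 b2 : B, Subgroup.closure {b1, b2} = ⊤ := by
      have hq := (Fact.out : q.Prime)
      have : Nontrivial B := Finite.one_lt_card_iff_nontrivial.mp (by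
        rw [hcard]; exact Nat.one_lt_pow (by norm_num) hq.one_lt)
      obtain ⟨b1, hb1⟩ := exists_ne (1 : B)
      have hord : orderOf b1 = q := orderOf_eq_prime (Subtype.ext (hexp b1)) hb1
      obtain ⟨b2, hb2⟩ : ∃ b2 : B, b2 ∉ zpowers b1 := by
        by_contra hc
        push Not at hc
        have h1 := Subgroup.card_le_card_group (zpowers b1)
        have h3 : Nat.card (zpowers b1) = Nat.card B := by
          rw [(eq_top_iff.mpr fun v _ => hc v : zpowers b1 = ⊤), Subgroup.card_top]
        rw [Nat.card_zpowers, hord, hcard, pow_two] at h3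
        have : q * 1 = q * q := by rw [mul_one]; exact h3
        exact hq.one_lt.ne (mul_left_cancel₀ hq.ne_zero this)
      refine ⟨b1, b2, ?_⟩
      set H := Subgroup.closure ({b1, b2} : Set B)
      have h1 : Nat.card H ∣ q ^ 2 := hcard ▸ Subgroup.card_subgroup_dvd_card H
      obtain ⟨i, hi, hi'⟩ := (Nat.dvd_prime_pow hq).mp h1
      have hz : zpowers b1 ≤ H := zpowers_le.mpr (Subgroup.subset_closure (Set.mem_insert _ _))
      have hq1 : q ∣ Nat.card H := by
        rw [← hord, ← Nat.card_zpowers]; exact Subgroup.card_dvd_of_le hz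
      refine Subgroup.eq_top_of_card_eq _ ?_
      rw [hi', hcard]
      rcases (show i = 0 ∨ i = 1 ∨ i = 2 by omega) with rfl | rfl | rfl
      · exact absurd (Nat.le_of_dvd one_pos (by simpa [hi'] using hq1)) (not_le.mpr hq.one_lt)
      · exfalso
        refine hb2 ?_
        rw [Subgroup.eq_of_le_of_card_ge hz (by rw [hi', pow_one, Nat.card_zpowers, hord])]
        exact Subgroup.subset_closure (Set.mem_insert_of_mem _ rfl)
      · rfl
    rw [← map_pow, ← hg]
    let E : LinearMap.range (dualRep A q g - 1) →ₗ[Cq q] Cq q × Cq q :=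
      { toFun := fun f => ((f : Du A q) (Additive.ofMul (b1 : A)), (f : Du A q) (Additive.ofMul (b2 : A)))
        map_add' := fun _ _ => rfl
        map_smul' := fun _ _ => rfl }
    have hE : Function.Injective E := by
      rintro ⟨u, f1, hu⟩ ⟨u', f1', hu'⟩ h0
      set f : Du A q := u - u' with hfdef
      have hf1 : (dualRep A q g - 1) (f1 - f1') = f := by rw [map_sub, hu, hu']
      have hf0' : f (Additive.ofMul (b1 : A)) = 0 ∧ f (Additive.ofMul (b2 : A)) = 0 :=
        ⟨sub_eq_zero.mpr (congrArg Prod.fst h0), sub_eq_zero.mpr (congrArg Prod.snd h0)⟩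
      let Z : Subgroup B :=
        { carrier := {b | f (Additive.ofMul (b : A)) = 0}
          one_mem' := map_zero f
          mul_mem' := fun {a b} (ha : f _ = 0) (hb : f _ = 0) => by
            show f (Additive.ofMul ((a : A) * b)) = 0
            rw [ofMul_mul, map_add, ha, hb, add_zero]
          inv_mem' := fun {a} (ha : f _ = 0) => by
            show f (Additive.ofMul ((a : A)⁻¹)) = 0
            rw [ofMul_inv, map_neg, ha, neg_zero] }
      have hZ : ∀ b : B, f (Additive.ofMul (b : A)) = 0 := fun b => by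
        have : Subgroup.closure {b1, b2} ≤ Z := by
          rw [Subgroup.closure_le]
          rintro _ (rfl | rfl)
          · exact hf0'.1
          · exact hf0'.2
        exact this (hgen ▸ mem_top b)
      refine Subtype.ext (sub_eq_zero.mp (show f = 0 from AddMonoidHom.ext fun v => ?_))
      induction v using Additive.rec with
      | _ a =>
        show f (Additive.ofMul a) = 0
        have hfix0 : f (Additive.ofMul (a * g a)) = 0 := by
          rw [← hf1]
          show (f1 - f1') (Additive.ofMul (g⁻¹ (a * g a))) - (f1 - f1') (Additive.ofMul (a * g a)) = 0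
          rw [hginv, hgfix, sub_self]
        have hmv : f (Additive.ofMul (a⁻¹ * g a)) = 0 := hZ ⟨_, hB a⟩
        rw [ofMul_mul, map_add] at hfix0
        rw [ofMul_mul, ofMul_inv, map_add, map_neg] at hmv
        have h4 : (2 : Cq q) * f (Additive.ofMul a) = 0 := by linear_combination hfix0 - hmv
        exact (mul_eq_zero.mp h4).resolve_left h2
    have := LinearMap.finrank_le_finrank_of_injective hE
    rw [Module.finrank_prod, Module.finrank_self] at this
    exact this

end Dual

section Pairing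

variable {Y : Type*} [Group Y] {D : Subgroup Y} {k : Type*} [Field k]

/-- The pairing of a character of the centre of a class two group. -/
noncomputable def pairQ (hc : ∀ a ∈ D, ∀ b ∈ D, ⁅a, b⁆ ∈ H71.zc D) (ψ : H71.zc D →* kˣ) :
    D →* (D →* kˣ) :=
  MonoidHom.mk' (fun u => MonoidHom.mk' (fun b => ψ ⟨⁅(u : Y), (b : Y)⁆, hc u u.2 b b.2⟩) (fun b c => by
      rw [← map_mul]
      congr 1
      refine Subtype.ext ?_
      have hz := mem_centralizer_iff.mp (hc u u.2 c c.2).2 (b : Y) b.2
      show ⁅(u : Y), (b : Y) * c⁆ = ⁅(u : Y), (b : Y)⁆ * ⁅(u : Y), (c : Y)⁆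
      rw [show ⁅(u : Y), (b : Y) * c⁆ = ⁅(u : Y), (b : Y)⁆ * ((b : Y) * ⁅(u : Y), (c : Y)⁆ * (b : Y)⁻¹) by
        simp only [commutatorElement_def]; group, hz, mul_inv_cancel_right]))
    (fun u v => MonoidHom.ext fun b => by
      show ψ _ = ψ _ * ψ _
      rw [← map_mul]
      congr 1
      refine Subtype.ext ?_
      have hz := mem_centralizer_iff.mp (hc v v.2 b b.2).2 (u : Y) u.2
      have hz2 := mem_centralizer_iff.mp (hc u u.2 b b.2).2 _ (hc v v.2 b b.2).1
      show ⁅(u : Y) * v, (b : Y)⁆ = ⁅(u : Y), (b : Y)⁆ * ⁅(v : Y), (b : Y)⁆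
      rw [show ⁅(u : Y) * v, (b : Y)⁆ = (u : Y) * ⁅(v : Y), (b : Y)⁆ * (u : Y)⁻¹ * ⁅(u : Y), (b : Y)⁆ by
        simp only [commutatorElement_def]; group, hz, mul_inv_cancel_right, hz2])

variable (hc : ∀ a ∈ D, ∀ b ∈ D, ⁅a, b⁆ ∈ H71.zc D) (ψ : H71.zc D →* kˣ)

theorem pairQ_apply (u b : D) : pairQ hc ψ u b = ψ ⟨⁅(u : Y), (b : Y)⁆, hc u u.2 b b.2⟩ := rfl

theorem pairQ_conjD (a : H71.stabChar D ψ) (u b : D) :
    pairQ hc ψ (H71.conjD D ψ a u) b = pairQ hc ψ u (H71.conjD D ψ a⁻¹ b) := by
  rw [pairQ_apply, pairQ_apply]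
  refine a.2.2 _ _ ?_
  show ⁅(a : Y) * u * (a : Y)⁻¹, (b : Y)⁆ =
    a * ⁅(u : Y), ((a⁻¹ : H71.stabChar D ψ) : Y) * b * ((a⁻¹ : H71.stabChar D ψ) : Y)⁻¹⁆ * (a : Y)⁻¹
  rw [Subgroup.coe_inv, commutatorElement_def, commutatorElement_def]
  group

/-- Conjugation on the range of the pairing. -/
noncomputable def pairActOne (a : H71.stabChar D ψ) (f : (pairQ hc ψ).range) : (pairQ hc ψ).range :=
  ⟨(f : D →* kˣ).comp (H71.conjD D ψ a⁻¹).toMonoidHom, by
    obtain ⟨u, hu⟩ := f.2
    exact ⟨H71.conjD D ψ a u, MonoidHom.ext fun b => by rw [pairQ_conjD, hu]; rfl⟩⟩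

theorem pairActOne_apply (a : H71.stabChar D ψ) (f : (pairQ hc ψ).range) (b : D) :
    (pairActOne hc ψ a f : D →* kˣ) b = (f : D →* kˣ) (H71.conjD D ψ a⁻¹ b) := rfl

theorem pairActOne_mul (a c : H71.stabChar D ψ) (f : (pairQ hc ψ).range) :
    pairActOne hc ψ (a * c) f = pairActOne hc ψ a (pairActOne hc ψ c f) :=
  Subtype.ext (MonoidHom.ext fun b => by
    rw [pairActOne_apply, pairActOne_apply, pairActOne_apply, mul_inv_rev, map_mul, MulAut.mul_apply])

theorem pairActOne_one (f : (pairQ hc ψ).range) : pairActOne hc ψ 1 f = f :=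
  Subtype.ext (MonoidHom.ext fun b => by rw [pairActOne_apply, inv_one, map_one, MulAut.one_apply])

/-- The action of the stabiliser on the range of the pairing. -/
noncomputable def pairAct : H71.stabChar D ψ →* MulAut (pairQ hc ψ).range where
  toFun a :=
    { toFun := pairActOne hc ψ a
      invFun := pairActOne hc ψ a⁻¹
      left_inv := fun f => by rw [← pairActOne_mul, inv_mul_cancel, pairActOne_one]
      right_inv := fun f => by rw [← pairActOne_mul, mul_inv_cancel, pairActOne_one]
      map_mul' := fun f g => rfl }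
  map_one' := MulEquiv.ext (pairActOne_one hc ψ)
  map_mul' a c := MulEquiv.ext (pairActOne_mul hc ψ a c)

theorem pairAct_pair (a : H71.stabChar D ψ) (u : D) :
    pairAct hc ψ a ⟨pairQ hc ψ u, u, rfl⟩ = ⟨pairQ hc ψ (H71.conjD D ψ a u), _, rfl⟩ :=
  Subtype.ext (MonoidHom.ext fun b => (pairQ_conjD hc ψ a u b).symm)

theorem pow_eq_one_range {q : ℕ} (hpow : ∀ a ∈ D, a ^ q ∈ H71.zc D) (f : (pairQ hc ψ).range) :
    f ^ q = 1 := by
  obtain ⟨_, u, rfl⟩ := f
  refine Subtype.ext ?_
  show pairQ hc ψ u ^ q = 1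
  refine (map_pow (pairQ hc ψ) u q).symm.trans ?_
  refine MonoidHom.ext fun b => ?_
  rw [pairQ_apply, MonoidHom.one_apply, ← map_one ψ]
  congr 1
  refine Subtype.ext ?_
  show ⁅((u ^ q : D) : Y), (b : Y)⁆ = 1
  rw [commutatorElement_eq_one_iff_mul_comm, SubmonoidClass.coe_pow]
  exact (mem_centralizer_iff.mp (hpow u u.2).2 (b : Y) b.2).symm

end Pairing

end Cfsg.Agent.H71.GrossTwo
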