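import Cfsg.Agent.H71.UnipotentSetting
import Mathlib.Tactic.Linarith
import Cfsg.Agent.Coprime.EndBound
import Mathlib.Algebra.BigOperators.Ring.Nat

/-!
An element of order `2 ^ L` and degree less than `2 ^ L` on a setting in characteristic two: its
involutory power moves at most a plane of `Q / N`, and the element is trivial where that power is.
-/

set_option autoImplicit false
set_option linter.style.haveILetI false
set_option linter.unusedSectionVars false

namespace Cfsg.Agent.H71.Plane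

open Coprime Coprime.Weights Coprime.EndBound Coprime.EndCount
open scoped commutatorElement

/-- `q ^ m + 1 = 2 ^ L` with `L ≥ 2` forces `m = 1`. -/
theorem eq_one_of_pow_add_one {q m L : ℕ} (hq : q.Prime) (hL : 2 ≤ L) (h : q ^ m + 1 = 2 ^ L) : m = 1 := by
  have hodd : Odd q := hq.odd_of_ne_two (by
    rintro rfl
    have h1 : 2 ∣ 2 ^ L := dvd_pow_self 2 (by omega)
    rcases m with _ | m
    · have : 2 ^ 2 ≤ 2 ^ L := Nat.pow_le_pow_right (by norm_num) hL
      omega
    · have h2 : 2 ∣ 2 ^ (m + 1) := dvd_pow_self 2 m.succ_ne_zero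
      omega)
  have h4 : 4 ∣ 2 ^ L := (pow_dvd_pow 2 hL)
  rcases Nat.even_or_odd m with ⟨j, rfl⟩ | hmo
  · exfalso
    obtain ⟨t, ht⟩ := hodd.pow (n := j)
    rw [pow_add, ht] at h
    obtain ⟨c, hc⟩ := h4
    rw [hc] at h
    have h5 : (4 * (t * t) + 4 * t + 2) = 4 * c := by rw [← h]; ring
    omega
  · obtain ⟨b, rfl⟩ := hmo
    by_contra hb
    -- the cofactor of `q + 1` is odd and larger than one
    have hdvd : (q : ℤ) + 1 ∣ (q : ℤ) ^ (2 * b + 1) + 1 := by
      have := Odd.add_dvd_pow_add_pow (q : ℤ) 1 (odd_two_mul_add_one b)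
      simpa using this
    have hdvdN : q + 1 ∣ 2 ^ L := by
      rw [← h]
      exact_mod_cast hdvd
    obtain ⟨i, -, hi⟩ := (Nat.dvd_prime_pow Nat.prime_two).mp hdvdN
    have hiL : i < L := by
      by_contra hle
      have h1 : 2 ^ L ≤ 2 ^ i := Nat.pow_le_pow_right (by norm_num) (not_lt.mp hle)
      have h2 : q ^ 2 ≤ q ^ (2 * b + 1) := Nat.pow_le_pow_right hq.pos (by omega)
      have h3 : q < q ^ 2 := by
        have := hq.two_le
        nlinarith
      omega
    have hqi : (q : ℤ) = 2 ^ i - 1 := by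
      have : ((q + 1 : ℕ) : ℤ) = ((2 ^ i : ℕ) : ℤ) := by rw [hi]
      push_cast at this
      omega
    -- modulo `2 ^ (i + 1)`
    have hi0 : i ≠ 0 := by
      rintro rfl
      have := hq.two_le
      simp at hi
      omega
    have hsum : (q : ℤ) ^ (2 * b + 1) + 1 = ((q : ℤ) + 1) * ∑ j ∈ Finset.range (2 * b + 1), (-(q : ℤ)) ^ j := by
      have := geom_sum_mul (-(q : ℤ)) (2 * b + 1)
      rw [(odd_two_mul_add_one b).neg_pow] at this
      linarith
    have hS : Odd (∑ j ∈ Finset.range (2 * b + 1), (-(q : ℤ)) ^ j) := by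
      rw [Int.odd_iff, Finset.sum_int_mod, Finset.sum_congr rfl fun j _ =>
        Int.odd_iff.mp (((Int.odd_coe_nat q).mpr hodd).neg.pow (n := j))]
      simp
    have hZ : (2 : ℤ) ^ i * ∑ j ∈ Finset.range (2 * b + 1), (-(q : ℤ)) ^ j = 2 ^ i * 2 ^ (L - i) := by
      rw [← pow_add, Nat.add_sub_cancel' hiL.le]
      have hh : ((q ^ (2 * b + 1) + 1 : ℕ) : ℤ) = ((2 ^ L : ℕ) : ℤ) := by rw [h]
      push_cast at hh
      rw [← hh, hsum, hqi]
      ring
    have hS2 := mul_left_cancel₀ (pow_ne_zero _ (two_ne_zero' ℤ)) hZ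
    rw [hS2] at hS
    exact (Int.not_odd_iff_even.mpr ((even_two (α := ℤ)).pow_of_ne_zero (by omega))) hS

variable {k V Q : Type*} [Field k] [AddCommGroup V] [Module k V] [Group Q]
variable {ρ : Q →* Module.End k V} {N : Subgroup Q}
variable [Finite Q] [IsAlgClosed k] [FiniteDimensional k V] [Nontrivial V]

/-- The plane lemma. -/
theorem plane_of_setting (S : Setting ρ N) [N.Normal] {q : ℕ} [Fact q.Prime] (hq2 : q ≠ 2)
    (hQ : IsPGroup q Q) (h2k : ((2 : ℕ) : k) = 0) (hqk : (q : k) ≠ 0) {L : ℕ} (hL : 0 < L)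
    (σ : MulAut Q) (T : Module.End k V) (hT : T ^ (2 ^ L) = 1) {r : ℕ} (hr : (T - 1) ^ r = 0)
    (hrP : r < 2 ^ L) (hcompat : ∀ x, T * ρ x = ρ (σ x) * T) :
    (∀ x, x⁻¹ * (σ ^ 2 ^ (L - 1)) x ∈ N) ∨
      2 ≤ L ∧ (∀ x, x⁻¹ * (σ ^ 2 ^ (L - 1)) x ∈ N → x⁻¹ * σ x ∈ N) ∧
        N.relIndex (moved (σ ^ 2 ^ (L - 1)) ⊔ N) = q ^ 2 := by
  classical
  haveI : Fact (Nat.Prime 2) := ⟨Nat.prime_two⟩
  have hq : q.Prime := Fact.out
  set τy := σ ^ 2 ^ (L - 1) with hτy
  set g := T ^ 2 ^ (L - 1) with hg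
  have hpow : ∀ n x, T ^ n * ρ x = ρ ((σ ^ n) x) * T ^ n := by
    intro n
    induction n with
    | zero => simp
    | succ n ih =>
      intro x
      rw [pow_succ', mul_assoc, ih, ← mul_assoc, hcompat, mul_assoc, pow_succ', MulAut.mul_apply]
  have hg2 : g * g = 1 := by
    rw [hg, ← pow_add, ← two_mul, ← pow_succ', Nat.sub_add_cancel hL, hT]
  have hgc : ∀ x, g * ρ x * g = ρ (τy x) := fun x => by
    rw [hg, hpow, mul_assoc, ← hg, hg2, mul_one]
  have hmemN : ∀ x z : Q, ρ x = ρ z → x⁻¹ * z ∈ N := by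
    intro x z h
    refine S.nondeg _ fun w => ?_
    rw [map_mul, ← h, ← map_mul, inv_mul_cancel, map_one]
    exact Commute.one_left _
  have hσN : ∀ x ∈ N, σ x ∈ N := fun x hx => by
    obtain ⟨c, hc⟩ := S.scal x hx
    refine S.nondeg _ fun w => ?_
    let Tu : (Module.End k V)ˣ := Units.ofPowEqOne T (2 ^ L) hT (pow_pos two_pos L).ne'
    have h1 := hcompat x
    rw [hc, mul_smul_comm, mul_one] at h1
    have h2 : ρ (σ x) = c • 1 := by
      calc ρ (σ x) = ρ (σ x) * T * ((Tu⁻¹ : (Module.End k V)ˣ) : Module.End k V) := by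
            rw [mul_assoc]; exact ((congrArg (ρ (σ x) * ·) Tu.mul_inv).trans (mul_one _)).symm
        _ = c • 1 := by rw [← h1, smul_mul_assoc]; exact congrArg (c • ·) Tu.mul_inv
    rw [h2]
    exact (Commute.one_left _).smul_left c
  have hτN : ∀ x ∈ N, τy x ∈ N := by
    have : ∀ (j : ℕ), ∀ x ∈ N, (σ ^ j) x ∈ N := by
      intro j
      induction j with
      | zero => simp
      | succ j ih => intro x hx; rw [pow_succ', MulAut.mul_apply]; exact hσN _ (ih x hx)
    exact this _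
  let _ := S.quotComm
  let π := QuotientGroup.mk' N
  have hπ : ∀ x z : Q, π x = π z ↔ x⁻¹ * z ∈ N := fun x z => QuotientGroup.eq
  have hττ : ∀ x, π (τy (τy x)) = π x := fun x => by
    refine (hπ _ _).mpr (hmemN _ _ ?_)
    rw [← hgc, ← hgc, ← mul_assoc, ← mul_assoc, hg2, one_mul, mul_assoc, hg2, mul_one]
  by_cases htriv : ∀ x, x⁻¹ * τy x ∈ N
  · exact Or.inl htriv
  refine Or.inr ?_
  have hfixC : ∀ x, x⁻¹ * τy x ∈ N → ∀ w, Commute (ρ x) (ρ (w⁻¹ * τy w)) := by
    intro x hx w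
    obtain ⟨d, hd⟩ := S.scal _ hx
    have hτx : ρ (τy x) = d • ρ x := by
      rw [← mul_inv_cancel_left x (τy x), map_mul, hd, mul_smul_comm, mul_one]
    obtain ⟨c, hc⟩ := S.comm x w
    have hxw : ρ x * ρ w = c • (ρ w * ρ x) := by
      rw [← map_mul, show x * w = ⁅x, w⁆ * (w * x) by rw [commutatorElement_def]; group, map_mul, hc,
        smul_mul_assoc, one_mul, map_mul]
    have hxw' : ρ x * ρ (τy w) = c • (ρ (τy w) * ρ x) := by
      have h1 := congrArg (fun z => g * z * g) hxw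
      simp only [mul_smul_comm, smul_mul_assoc] at h1
      have e1 : g * (ρ x * ρ w) * g = (g * ρ x * g) * (g * ρ w * g) := by
        simp only [mul_assoc]
        rw [← mul_assoc g g, hg2, one_mul]
      have e2 : g * (ρ w * ρ x) * g = (g * ρ w * g) * (g * ρ x * g) := by
        simp only [mul_assoc]
        rw [← mul_assoc g g, hg2, one_mul]
      rw [e1, e2, hgc, hgc, hτx, smul_mul_assoc, mul_smul_comm, smul_comm c d] at h1
      have hd0 : d ≠ 0 := by
        rintro rfl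
        rw [zero_smul] at hd
        have : ρ ((x⁻¹ * τy x)⁻¹ * (x⁻¹ * τy x)) = 0 := by rw [map_mul, hd, mul_zero]
        rw [inv_mul_cancel, map_one] at this
        exact one_ne_zero this
      exact smul_right_injective _ hd0 h1
    show ρ x * ρ (w⁻¹ * τy w) = ρ (w⁻¹ * τy w) * ρ x
    have hw : ρ w⁻¹ * ρ x = c • (ρ x * ρ w⁻¹) := by
      have h1 := congrArg (fun z => ρ w⁻¹ * z * ρ w⁻¹) hxw
      simp only [mul_smul_comm, smul_mul_assoc] at h1
      rw [mul_assoc (ρ w⁻¹) (ρ x * ρ w), mul_assoc (ρ x) (ρ w), ← map_mul ρ w, mul_inv_cancel, map_one,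
        mul_one, ← mul_assoc (ρ w⁻¹) (ρ w), ← map_mul ρ w⁻¹ w, inv_mul_cancel, map_one, one_mul] at h1
      exact h1
    rw [map_mul, ← mul_assoc, mul_assoc (ρ w⁻¹) (ρ (τy w))]
    have hc0 : c ≠ 0 := by
      rintro rfl
      rw [zero_smul] at hw
      have : ρ (w⁻¹ * x * (w⁻¹ * x)⁻¹) = 0 := by rw [map_mul, map_mul, hw, zero_mul]
      rw [mul_inv_cancel, map_one] at this
      exact one_ne_zero this
    refine smul_right_injective _ hc0 ?_
    show c • (ρ x * ρ w⁻¹ * ρ (τy w)) = c • (ρ w⁻¹ * (ρ (τy w) * ρ x))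
    rw [← smul_mul_assoc, ← hw, mul_assoc, hxw', mul_smul_comm]
  set Q1 := moved τy ⊔ N with hQ1
  have hNQ1 : N ≤ Q1 := le_sup_right
  have hCQ1 : ∀ x, x⁻¹ * τy x ∈ N → ∀ w ∈ Q1, Commute (ρ x) (ρ w) := by
    intro x hx w hw
    let Z : Subgroup Q :=
      { carrier := {w | Commute (ρ x) (ρ w)}
        one_mem' := by show Commute _ _; rw [map_one]; exact Commute.one_right _
        mul_mem' := fun {a b} ha hb => by show Commute _ _; rw [map_mul]; exact Commute.mul_right ha hb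
        inv_mem' := fun {a} ha => by
          show ρ x * ρ a⁻¹ = ρ a⁻¹ * ρ x
          calc ρ x * ρ a⁻¹ = ρ a⁻¹ * (ρ a * ρ x) * ρ a⁻¹ := by
                rw [← mul_assoc (ρ a⁻¹), ← map_mul ρ a⁻¹ a, inv_mul_cancel, map_one, one_mul]
            _ = _ := by
                rw [← (ha : Commute (ρ x) (ρ a)).eq, mul_assoc, mul_assoc, ← map_mul, mul_inv_cancel, map_one,
                  mul_one] }
    have : Q1 ≤ Z := by
      refine sup_le ((Subgroup.closure_le _).mpr ?_) fun n hn => (S.commute_of_mem hn (ρ x)).symm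
      rintro _ ⟨w, rfl⟩
      exact hfixC x hx w
    exact this hw
  have hmoved : ∀ w, w⁻¹ * τy w ∈ Q1 := fun w => Subgroup.mem_sup_left (mem_moved τy w)
  -- `Q` is generated by the fixed points and `Q1`
  have hgen : ∀ x : Q, ∀ v : Q, (∀ c, c⁻¹ * τy c ∈ N → Commute (ρ v) (ρ c)) →
      (∀ w ∈ Q1, Commute (ρ v) (ρ w)) → Commute (ρ v) (ρ x) := by
    intro x v hvC hvQ
    obtain ⟨j, hj⟩ := hQ x
    obtain ⟨o, ho⟩ := (hq.odd_of_ne_two hq2).pow (n := j)
    have hx2 : (x * x) ^ (o + 1) = x := by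
      rw [← pow_two, ← pow_mul, show 2 * (o + 1) = q ^ j + 1 by omega, pow_succ, hj, one_mul]
    rw [← hx2, map_pow]
    refine Commute.pow_right ?_ _
    have h1 : (x * τy x)⁻¹ * τy (x * τy x) ∈ N := by
      refine (hπ _ _).mp ?_
      show π (x * τy x) = π (τy (x * τy x))
      rw [map_mul τy, map_mul π, map_mul π, hττ, mul_comm]
    have h2 : x * x = (x * τy x) * (x⁻¹ * τy x)⁻¹ * ((x⁻¹ * τy x) * ((τy x)⁻¹ * x)) := by group
    have h2' : x * x = (x * τy x) * ((τy x)⁻¹ * x) := by group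
    rw [h2', map_mul]
    refine (hvC _ h1).mul_right (hvQ _ ?_)
    have : ((x⁻¹ * τy x))⁻¹ ∈ Q1 := inv_mem (hmoved x)
    rwa [mul_inv_rev, inv_inv] at this
  -- the setting on `Q1`
  let ρ1 := ρ.comp Q1.subtype
  have S1 : Setting ρ1 (N.subgroupOf Q1) := by
    refine ⟨fun a b => S.comm a b, fun a ha => S.scal a ha, fun a ha => ?_⟩
    refine S.nondeg _ fun z => hgen z a (fun c hc => (hCQ1 c hc a a.2).symm) fun w hw => ha ⟨w, hw⟩
  have hσQ1 : ∀ x ∈ Q1, σ x ∈ Q1 := by
    intro x hx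
    have : Q1.map σ.toMonoidHom ≤ Q1 := by
      rw [hQ1, Subgroup.map_sup, EndBound.moved, MonoidHom.map_closure]
      refine sup_le ((Subgroup.closure_le _).mpr ?_) ?_
      · rintro _ ⟨_, ⟨w, rfl⟩, rfl⟩
        have : σ (w⁻¹ * τy w) = (σ w)⁻¹ * τy (σ w) := by
          rw [map_mul, map_inv, hτy, ← MulAut.mul_apply, ← MulAut.mul_apply, ← pow_succ', ← pow_succ]
        show σ (w⁻¹ * τy w) ∈ _
        rw [this]
        exact hmoved _
      · rintro _ ⟨n, hn, rfl⟩
        exact hNQ1 (hσN n hn)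
    exact this ⟨x, hx, rfl⟩
  have hσmap : Q1.map σ.toMonoidHom = Q1 := Subgroup.eq_of_le_of_card_ge
    (by rintro _ ⟨x, hx, rfl⟩; exact hσQ1 x hx) (le_of_eq (Subgroup.card_map_of_injective σ.injective).symm)
  let σ1 : MulAut Q1 := (σ.subgroupMap Q1).trans (MulEquiv.subgroupCongr hσmap)
  have hσ1 : ∀ (j : ℕ) (x : Q1), (((σ1 ^ j) x : Q1) : Q) = (σ ^ j) x := by
    intro j
    induction j with
    | zero => intro x; rfl
    | succ j ih => intro x; rw [pow_succ', MulAut.mul_apply, pow_succ', MulAut.mul_apply, ← ih]; rfl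
  obtain ⟨jQ, hjQ⟩ := IsPGroup.iff_card.mp (hQ.to_subgroup Q1)
  have hU : (((N.subgroupOf Q1).index : ℕ) : k) ≠ 0 := by
    obtain ⟨i, -, hi⟩ := (Nat.dvd_prime_pow hq).mp (hjQ ▸ (N.subgroupOf Q1).index_dvd_card)
    rw [hi, Nat.cast_pow]
    exact pow_ne_zero _ hqk
  rcases Exact.count_exact_commutant (ρ := ρ1) (N := N.subgroupOf Q1) S1 hU (q := 2) hL h2k σ1 T hT hr hrP
    (fun x => hcompat x) (fun x hx => by
      have hxC : ((x : Q))⁻¹ * τy x ∈ N := by
        have := hx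
        rw [Subgroup.mem_subgroupOf, Subgroup.coe_mul, Subgroup.coe_inv, hσ1] at this
        exact this
      exact S1.nondeg x fun w => hCQ1 x hxC w w.2) with h1 | ⟨⟨n, hPn, hidx, -⟩, hcomm⟩
  · refine absurd (fun x => ?_) htriv
    have := Subgroup.index_eq_one.mp h1
    rw [Subgroup.subgroupOf_eq_top] at this
    exact this (hmoved x)
  · obtain ⟨i, -, hi⟩ := (Nat.dvd_prime_pow hq).mp (hjQ ▸ (N.subgroupOf Q1).index_dvd_card)
    obtain ⟨m, -, hm⟩ := (Nat.dvd_prime_pow hq).mp (show n ∣ q ^ i from ⟨n, by rw [← hi, hidx]⟩)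
    subst hm
    have hL2 : 2 ≤ L := by
      rcases m with _ | m
      · refine absurd (fun x => ?_) htriv
        have := Subgroup.index_eq_one.mp (by rw [hidx]; simp : (N.subgroupOf Q1).index = 1)
        rw [Subgroup.subgroupOf_eq_top] at this
        exact this (hmoved x)
      · have h3 : 3 ≤ q := by
          have := hq.two_le
          omega
        have : q ≤ q ^ (m + 1) := Nat.le_self_pow m.succ_ne_zero q
        by_contra hL2
        have : L = 1 := by omega
        rw [this] at hPn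
        omega
    refine ⟨hL2, fun x hx => ?_, ?_⟩
    · refine hmemN _ _ ?_
      have h := hcomm (ρ x) fun w => (hCQ1 x hx w w.2).symm
      have h1 := hcompat x
      rw [← h.eq] at h1
      let Tu : (Module.End k V)ˣ := Units.ofPowEqOne T (2 ^ L) hT (pow_pos two_pos L).ne'
      exact Tu.isUnit.mul_right_cancel h1
    · rw [Subgroup.relIndex, hidx, eq_one_of_pow_add_one hq hL2 hPn.symm, pow_one, pow_two]

end Cfsg.Agent.H71.Plane
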