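import Cfsg.Agent.H71.GrossLift
import Cfsg.Agent.H71.GrossDual
import Cfsg.Agent.H71.PlaneAction

/-!
Gross's key theorem: in a solvable linear group in characteristic two with `O_2 = 1`, whose
two-elements have order dividing `2 ^ e` and degree less than `2 ^ e`, the `2 ^ (e - 1)`-th power of
a two-element lies in `O_{2',2}`, for `e ≥ 2`.
-/

set_option autoImplicit false
set_option linter.style.haveILetI false
set_option linter.unusedSectionVars false
set_option maxHeartbeats 3200000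
open Cfsg

universe u

namespace Cfsg.Agent.H71.GrossTwo

open Subgroup
open Coprime Coprime.Weights Coprime.EndBound Coprime.EndCount Coprime.FpfPrime
open scoped commutatorElement IsMulCommutative

variable {k V : Type*} [Field k] [AddCommGroup V] [Module k V]

theorem commute_proj {U : Type*} [CommGroup U] [Finite U] (τ : U →* Module.End k V) (χ : U →* kˣ)
    (g : Module.End k V) (h : ∀ u, Commute g (τ u)) : Commute g (proj τ χ) := by
  let _ := Fintype.ofFinite U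
  exact (Commute.sum_right _ _ _ fun u _ => (h u).smul_right _).smul_right _

theorem pow_coe_eq {Y : Type*} [Group Y] {e : Module.End k V} {ρ : Y →* Module.End k V} (a : stab ρ e) (w : LinearMap.range e) :
    ((FpfPrime.sub ρ e a w : LinearMap.range e) : V) = ρ (a : Y) w := rfl

variable {G : Type u} [Group G] [Finite G] [IsAlgClosed k] [FiniteDimensional k V]

/-- The configuration is impossible. -/
theorem not_data [Group.IsSolvable G] (h2k : (2 : k) = 0) {ρ : G →* Module.End k V}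
    (hinj : Function.Injective ρ) (hO : Cfsg.pCore 2 G = ⊥) {e : ℕ} (he : 2 ≤ e)
    (hdeg : ∀ P : Sylow 2 G, ∀ x ∈ (P : Subgroup G), (ρ x - 1) ^ (2 ^ e - 1) = 0)
    {S0 R : Subgroup G} {t : G} {r : ℕ} (h : Data G e S0 R t r) : False := by
  classical
  haveI : Fact (Nat.Prime 2) := ⟨Nat.prime_two⟩
  haveI : Fact r.Prime := ⟨h.prime⟩
  have h2k' : ((2 : ℕ) : k) = 0 := by exact_mod_cast h2k
  obtain ⟨P2, hP2⟩ := h.tmem
  have hte : t ^ 2 ^ e = 1 := h.tord P2 hP2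
  have hdt := hdeg P2 t hP2
  set y := t ^ 2 ^ (e - 1) with hy
  set R' := ⁅R, R⁆ with hR'
  have hR'R : R' ≤ R := commutator_le_self R
  set S1 := ⁅S0, R'⁆ with hS1
  have hR'S0 : R' ≤ normalizer (S0 : Set G) := hR'R.trans h.rs
  have hS1S0 : S1 ≤ S0 := commutator_le_left_of_normalizer hR'S0
  have hS1p : IsPGroup 2 S1 := h.two.to_le hS1S0
  have hS1eq : ⁅S1, R'⁆ = S1 := by
    obtain ⟨jS, hjS⟩ := IsPGroup.iff_card.mp h.two
    obtain ⟨jR, hjR⟩ := IsPGroup.iff_card.mp (h.odd.to_le hR'R)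
    refine Coprime.commutator_commutator_eq hR'S0 ?_ (Or.inr inferInstance)
    rw [hjS, hjR]
    exact Nat.Coprime.pow _ _ ((Nat.coprime_primes h.prime Nat.prime_two).mpr h.ne_two)
  obtain ⟨q, D, hq, hq2, hDn, hDq, hc, hpow, hnc⟩ := exists_classTwo hO hS1p h.ne_bot
  haveI : Fact q.Prime := ⟨hq⟩
  haveI := hDn
  have hqk : (q : k) ≠ 0 := by
    obtain ⟨j, hj⟩ := hq.odd_of_ne_two hq2
    rw [hj, Nat.cast_add, Nat.cast_mul, Nat.cast_ofNat, h2k, zero_mul, zero_add, Nat.cast_one]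
    exact one_ne_zero
  have hDnorm : ∀ a : G, a ∈ normalizer (D : Set G) := fun a => le_normalizer_of_normal (mem_top a)
  set Z := H71.zc D with hZ
  haveI hZn : Z.Normal :=
    normalizer_eq_top_iff.mp (eq_top_iff.mpr fun a _ => H71.mem_normalizer_zc (hDnorm a))
  have hZq : IsPGroup q Z := hDq.to_le inf_le_left
  have hyZ : zpowers y ≤ centralizer (Z : Set G) :=
    Exact.hall_higman_B_exact (s := q) (p := 2) hq2 h2k' hqk hinj (by omega) Z hZq t
      (le_normalizer_of_normal (mem_top t)) hte hdt (Nat.sub_lt (pow_pos two_pos e) one_pos)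
      (Or.inr fun a ha b hb => (mem_centralizer_iff.mp hb.2 a ha.1))
  have hRZ : R ≤ centralizer (Z : Set G) :=
    h.gen.trans (commutator_le_centralizer le_normalizer_of_normal hyZ)
  have hS1Z : S1 ≤ centralizer (Z : Set G) :=
    (commutator_mono le_rfl (hR'R.trans hRZ)).trans (commutator_le_right S0 _)
  have hstab : ∀ (ψ : H71.zc D →* kˣ) (a : G), a ∈ centralizer (Z : Set G) → a ∈ H71.stabChar D ψ := by
    intro ψ a ha
    refine ⟨hDnorm a, fun z z' hzz => ?_⟩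
    rw [show z' = z from Subtype.ext (by
      rw [hzz, ← mem_centralizer_iff.mp ha (z : G) z.2, mul_inv_cancel_right])]
  set τ : H71.zc D →* Module.End k V := ρ.comp (H71.zc D).subtype with hτ
  obtain ⟨jZ, hjZ⟩ := IsPGroup.iff_card.mp hZq
  have hZk : (Nat.card (H71.zc D) : k) ≠ 0 := by rw [← hZ, hjZ, Nat.cast_pow]; exact pow_ne_zero _ hqk
  -- choose the weight
  obtain ⟨ψ, hψ, s, hs, d, hsd⟩ : ∃ ψ : H71.zc D →* kˣ, proj τ ψ ≠ 0 ∧ ∃ (s : G) (_ : s ∈ S1) (d : D),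
      pairQ hc ψ ⟨s * d * s⁻¹, hDn.conj_mem _ d.2 s⟩ ≠ pairQ hc ψ d := by
    by_contra hcon
    push Not at hcon
    refine hnc (le_centralizer_of_commutator_le_centralizer (K := D) (A := S1) (fun a _ => hDnorm a) ?_ ?_)
    · obtain ⟨jS, hjS⟩ := IsPGroup.iff_card.mp hS1p
      obtain ⟨jD, hjD⟩ := IsPGroup.iff_card.mp hDq
      rw [hjS, hjD]
      exact Nat.Coprime.pow _ _ ((Nat.coprime_primes Nat.prime_two hq).mpr (Ne.symm hq2))
    · refine commutator_le.mpr fun a ha s hs => ?_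
      have hmem : s * a⁻¹ * s⁻¹ ∈ D := hDn.conj_mem _ (inv_mem ha) s
      set z : D := (⟨a⁻¹, inv_mem ha⟩ : D)⁻¹ * ⟨s * a⁻¹ * s⁻¹, hmem⟩ with hz
      have hzeq : (z : G) = ⁅a, s⁆ := by
        rw [hz, commutatorElement_def]
        push_cast
        group
      have hz1 : ∀ ψ : H71.zc D →* kˣ, proj τ ψ ≠ 0 → pairQ hc ψ z = 1 := fun ψ hψ => by
        rw [hz, map_mul, map_inv, hcon ψ hψ s hs ⟨a⁻¹, inv_mem ha⟩, inv_mul_cancel]
      have hzZ : (z : G) ∈ Z := by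
        refine ⟨z.2, mem_centralizer_iff.mpr fun b hb => ?_⟩
        have h1 : ρ ⁅(z : G), b⁆ = 1 := by
          by_contra hne
          obtain ⟨χ, hχ, hχne⟩ := exists_proj_ne_zero_of_act_ne_one hZk (τ := τ)
            (u := ⟨⁅(z : G), b⁆, hc z z.2 b hb⟩) hne
          exact hχne (congrArg (fun f : D →* kˣ => f ⟨b, hb⟩) (hz1 χ hχ))
        exact (commutatorElement_eq_one_iff_mul_comm.mp (hinj (h1.trans (map_one ρ).symm))).symm
      rw [hzeq] at hzZ
      exact le_centralizer_iff.mp hS1Z hzZ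
  -- the first block
  let σ : MulAut (H71.zc D) := MulAut.conjNormal (H := H71.zc D) t
  obtain ⟨c, hce, hiff, hcomm1, hdeg1, hlt1⟩ := Exact.orbit_stab_exact hZk τ σ (ρ t) (fun u => by
      show ρ t * ρ (u : G) = ρ ((MulAut.conjNormal t u : H71.zc D) : G) * ρ t
      rw [← map_mul, ← map_mul, MulAut.conjNormal_apply, inv_mul_cancel_right])
    h2k' (n := e) (by rw [← map_pow, hte, map_one]) hdt (Nat.sub_lt (pow_pos two_pos e) one_pos) ψ hψ
  set r1 := (2 ^ e - 1) / 2 ^ c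
  set T1 := t ^ 2 ^ c with hT1
  have hT1s : T1 ∈ H71.stabChar D ψ := ⟨hDnorm _, fun z z' hzz => by
    rw [show z' = (σ ^ 2 ^ c) z from Subtype.ext (by rw [hzz, ← map_pow, MulAut.conjNormal_apply]),
      (hiff _).mpr dvd_rfl]⟩
  set e1 := proj τ ψ with he1
  set Y1 := FpfPrime.stab ρ e1 with hY1
  have hsY1 : ∀ {a : G}, a ∈ H71.stabChar D ψ → a ∈ Y1 := fun {a} ha =>
    H71.commute_proj_of_mem_stabChar ψ ha
  have hDstab : D ≤ H71.stabChar D ψ := H71.le_stabChar D ψ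
  have hRstab : R ≤ H71.stabChar D ψ := fun a ha => hstab ψ a (hRZ ha)
  have hSstab : S1 ≤ H71.stabChar D ψ := fun a ha => hstab ψ a (hS1Z ha)
  have hystab : y ∈ H71.stabChar D ψ := hstab ψ y (hyZ (mem_zpowers y))
  let ρ1 := FpfPrime.sub ρ e1
  let π := QuotientGroup.mk' ρ1.ker
  let ρq : Y1 ⧸ ρ1.ker →* Module.End k (LinearMap.range e1) := QuotientGroup.lift ρ1.ker ρ1 le_rfl
  have hinjq : Function.Injective ρq := by
    refine (injective_iff_map_eq_one' ρq).mpr fun v => ⟨fun hv => ?_, fun hv => by rw [hv, map_one]⟩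
    obtain ⟨w, rfl⟩ := QuotientGroup.mk_surjective v
    exact (QuotientGroup.eq_one_iff _).mpr hv
  have hscalD : ∀ a b : D, ρ ⁅(a : G), (b : G)⁆ * e1 = (pairQ hc ψ a b : k) • e1 := fun a b =>
    act_mul_proj τ ψ ⟨_, hc a a.2 b b.2⟩
  set NG := (pairQ hc ψ).ker.map D.subtype with hNG
  have hNGD : NG ≤ D := map_subtype_le _
  have hNGn : ∀ {a : G}, a ∈ H71.stabChar D ψ → a ∈ normalizer (NG : Set G) := by
    intro a ha
    have key : ∀ a : G, a ∈ H71.stabChar D ψ → ∀ n ∈ NG, a * n * a⁻¹ ∈ NG := by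
      rintro a ha _ ⟨u, hu, rfl⟩
      refine ⟨H71.conjD D ψ ⟨a, ha⟩ u, MonoidHom.ext fun b => ?_, rfl⟩
      rw [pairQ_conjD, MonoidHom.mem_ker.mp hu]
      rfl
    refine mem_normalizer_iff.mpr fun n => ⟨key a ha n, fun hn => ?_⟩
    have := key _ (inv_mem ha) _ hn
    rwa [inv_inv, show a⁻¹ * (a * n * a⁻¹) * a = n by group] at this
  set U := (NG.subgroupOf Y1).map π with hU
  haveI hUc : IsMulCommutative U := PGroups.isMulCommutative_of_comm (by
    rintro _ ⟨a, ha, rfl⟩ _ ⟨b, hb, rfl⟩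
    obtain ⟨u, hu, hua⟩ := ha
    obtain ⟨v, hv, hvb⟩ := hb
    rw [← commutatorElement_eq_one_iff_mul_comm, ← map_commutatorElement]
    refine (QuotientGroup.eq_one_iff _).mpr ((sub_eq_one_iff _).mpr ?_)
    show ρ ⁅(a : G), (b : G)⁆ * e1 = e1
    change (u : G) = (a : G) at hua
    change (v : G) = (b : G) at hvb
    rw [← hua, ← hvb, hscalD, MonoidHom.mem_ker.mp hu, MonoidHom.one_apply, Units.val_one, one_smul])
  have hUq : IsPGroup q U := ((hDq.to_le hNGD).comap_subtype).map π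
  have hnormU : ∀ {a : G} (ha : a ∈ H71.stabChar D ψ), π ⟨a, hsY1 ha⟩ ∈ normalizer (U : Set _) := fun {a} ha =>
    le_normalizer_map π ⟨⟨a, hsY1 ha⟩, mem_normalizer_iff.mpr fun z =>
      mem_normalizer_iff.mp (hNGn ha) (z : G), rfl⟩
  set τ1 := π ⟨T1, hsY1 hT1s⟩ with hτ1
  have hτ1n : τ1 ∈ normalizer (U : Set _) := hnormU hT1s
  have hτ1o : τ1 ^ 2 ^ (e - c) = 1 := by
    rw [hτ1, ← map_pow, show (⟨T1, hsY1 hT1s⟩ : Y1) ^ 2 ^ (e - c) = 1 from Subtype.ext (by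
      show T1 ^ 2 ^ (e - c) = 1
      rw [hT1, ← pow_mul, ← pow_add, Nat.add_sub_cancel' hce.le, hte]), map_one]
  have hdegq : (ρq τ1 - 1) ^ r1 = 0 := Exact.sub_pow_eq_zero ⟨T1, hsY1 hT1s⟩ (by
    show (ρ (t ^ 2 ^ c) - 1) ^ r1 * e1 = 0
    rw [map_pow]; exact hdeg1)
  have hyU : π ⟨y, hsY1 hystab⟩ ∈ centralizer (U : Set _) := by
    have h1 := Exact.hall_higman_B_exact (s := q) (p := 2) hq2 h2k' hqk hinjq (n := e - c) (by omega) U hUq τ1
      hτ1n hτ1o hdegq hlt1 (Or.inr fun a ha b hb => congrArg Subtype.val (hUc.is_comm.comm (⟨a, ha⟩ : U) ⟨b, hb⟩))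
    have h2 : τ1 ^ 2 ^ (e - c - 1) = π ⟨y, hsY1 hystab⟩ := by
      rw [hτ1, ← map_pow]
      congr 1
      refine Subtype.ext ?_
      show T1 ^ 2 ^ (e - c - 1) = y
      rw [hT1, hy, ← pow_mul, ← pow_add, show c + (e - c - 1) = e - 1 by omega]
    exact h2 ▸ h1 (mem_zpowers _)
  -- the elements centralising `U`
  set Cu := ((centralizer (U : Set _)).comap π).map Y1.subtype with hCu
  have hCcomm : ∀ {H K : Subgroup G}, H ≤ H71.stabChar D ψ → K ≤ Cu → ⁅H, K⁆ ≤ Cu := by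
    intro H K hH hK
    refine commutator_le.mpr fun a ha b hb => ?_
    obtain ⟨b', hb', rfl⟩ := hK hb
    refine ⟨⁅(⟨a, hsY1 (hH ha)⟩ : Y1), b'⁆, ?_, rfl⟩
    show π _ ∈ centralizer (U : Set _)
    rw [map_commutatorElement]
    exact commutator_le_centralizer (A := normalizer (U : Set _)) le_rfl le_rfl
      (commutator_mem_commutator (hnormU (hH ha)) hb')
  have hyCu : zpowers y ≤ Cu := zpowers_le.mpr ⟨⟨y, hsY1 hystab⟩, hyU, rfl⟩
  have hRCu : R ≤ Cu := h.gen.trans (hCcomm hRstab hyCu)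
  have hS1Cu : S1 ≤ Cu := hS1eq.ge.trans (hCcomm hSstab (hR'R.trans hRCu))
  have hDCu : D ≤ Cu := fun a ha => by
    refine ⟨⟨a, hsY1 (hDstab ha)⟩, mem_centralizer_iff.mpr ?_, rfl⟩
    rintro _ ⟨n, hn, rfl⟩
    obtain ⟨u, hu, hun⟩ := hn
    rw [← commutatorElement_eq_one_iff_mul_comm, ← map_commutatorElement]
    refine (QuotientGroup.eq_one_iff _).mpr ((sub_eq_one_iff _).mpr ?_)
    show ρ ⁅(n : G), a⁆ * e1 = e1
    change (u : G) = (n : G) at hun
    rw [← hun, hscalD u ⟨a, ha⟩, MonoidHom.mem_ker.mp hu, MonoidHom.one_apply, Units.val_one, one_smul]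
  -- the second block
  haveI : Nontrivial (LinearMap.range e1) := by
    rw [Submodule.nontrivial_iff_ne_bot, Ne, LinearMap.range_eq_bot]
    exact hψ
  set τ2 : U →* Module.End k (LinearMap.range e1) := ρq.comp U.subtype with hτ2
  obtain ⟨jU, hjU⟩ := IsPGroup.iff_card.mp hUq
  have hUk : (Nat.card U : k) ≠ 0 := by rw [hjU, Nat.cast_pow]; exact pow_ne_zero _ hqk
  obtain ⟨χ, hχ⟩ : ∃ χ : U →* kˣ, proj τ2 χ ≠ 0 := by
    by_contra hcon
    push Not at hcon
    obtain ⟨w, hw⟩ := exists_ne (0 : LinearMap.range e1)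
    exact hw (eq_zero_of_forall_proj hUk τ2 fun χ => by rw [hcon χ]; rfl)
  let σ2 : MulAut U := Subgroup.normalizerMonoidHom U ⟨τ1, hτ1n⟩
  obtain ⟨c', hce', -, hcomm2, hdeg2, hlt2⟩ := Exact.orbit_stab_exact hUk τ2 σ2 (ρq τ1) (fun u => by
      show ρq τ1 * ρq (u : Y1 ⧸ ρ1.ker) = ρq (τ1 * u * τ1⁻¹) * ρq τ1
      rw [← map_mul, ← map_mul, inv_mul_cancel_right])
    h2k' (n := e - c)
    (by rw [← map_pow, show (⟨τ1, hτ1n⟩ : normalizer (U : Set _)) ^ 2 ^ (e - c) = 1 from Subtype.ext hτ1o,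
      map_one])
    hdegq hlt1 χ hχ
  set L := e - c - c' with hL
  set r2 := r1 / 2 ^ c'
  set e2 := proj τ2 χ with he2
  set Y2 := FpfPrime.stab ρq e2 with hY2
  have hCuY2 : ∀ {a : G}, a ∈ Cu → ∀ ha : a ∈ Y1, π ⟨a, ha⟩ ∈ Y2 := by
    rintro _ ⟨a', ha', rfl⟩ ha
    refine commute_proj τ2 χ _ fun u => ?_
    show ρq (π a') * ρq (u : Y1 ⧸ ρ1.ker) = ρq (u : Y1 ⧸ ρ1.ker) * ρq (π a')
    rw [← map_mul, ← map_mul, mem_centralizer_iff.mp ha' (u : Y1 ⧸ ρ1.ker) u.2]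
  let ι : D →* Y2 := (π.comp (Subgroup.inclusion (fun a ha => hsY1 (hDstab ha) : D ≤ Y1))).codRestrict Y2
    fun a => hCuY2 (hDCu a.2) _
  let W := LinearMap.range e2
  let ρW : D →* Module.End k W := (FpfPrime.sub ρq e2).comp ι
  have hρW : ∀ (a : D) (w : W), (((ρW a w : W) : LinearMap.range e1) : V) = ρ (a : G) ((w : LinearMap.range e1) : V) :=
    fun a w => rfl
  haveI : Nontrivial W := by
    rw [Submodule.nontrivial_iff_ne_bot, Ne, LinearMap.range_eq_bot]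
    exact hχ
  have hscalW : ∀ a b : D, ρW ⁅a, b⁆ = (pairQ hc ψ a b : k) • 1 := fun a b => LinearMap.ext fun w => by
    refine Subtype.ext (Subtype.ext ?_)
    rw [hρW]
    obtain ⟨v, hv⟩ := (w : LinearMap.range e1).2
    simp only [LinearMap.smul_apply, Module.End.one_apply, Submodule.coe_smul]
    rw [← hv]
    exact congrArg (fun f : Module.End k V => f v) (hscalD a b)
  set N := (pairQ hc ψ).ker with hN
  have St : Setting ρW N := by
    refine ⟨fun a b => ⟨_, hscalW a b⟩, fun a ha => ?_, fun a ha => MonoidHom.ext fun b => Units.ext ?_⟩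
    · have haU : π ⟨(a : G), hsY1 (hDstab a.2)⟩ ∈ U := ⟨⟨(a : G), _⟩, ⟨a, ha, rfl⟩, rfl⟩
      refine ⟨(χ ⟨_, haU⟩ : k), LinearMap.ext fun w => Subtype.ext ?_⟩
      exact (mem_range_iff hUk).mp w.2 ⟨_, haU⟩
    · have h1 : ρW ⁅a, b⁆ = 1 := by
        rw [commutatorElement_def, map_mul, map_mul, map_mul, (ha b).eq, mul_assoc (ρW b), ← map_mul ρW a,
          mul_inv_cancel, map_one, mul_one, ← map_mul, mul_inv_cancel, map_one]
      rw [hscalW] at h1
      rw [MonoidHom.one_apply, Units.val_one]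
      exact EndCount.smul_cancel ρW (1 : D) (by rw [map_one, h1, one_smul])
  have hT2stab : t ^ 2 ^ (c + c') ∈ H71.stabChar D ψ := by
    rw [pow_add, pow_mul, ← hT1]; exact pow_mem hT1s _
  set T2 : H71.stabChar D ψ := ⟨_, hT2stab⟩ with hT2
  set σW := H71.conjD D ψ T2 with hσW
  have hτ2mem : τ1 ^ 2 ^ c' ∈ Y2 := by
    show Commute (ρq (τ1 ^ 2 ^ c')) e2
    rw [map_pow]; exact hcomm2
  set T := FpfPrime.sub ρq e2 ⟨τ1 ^ 2 ^ c', hτ2mem⟩ with hTdef
  have hT : T ^ 2 ^ L = 1 := by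
    rw [hTdef, ← map_pow, show (⟨τ1 ^ 2 ^ c', hτ2mem⟩ : Y2) ^ 2 ^ L = 1 from Subtype.ext (by
      show (τ1 ^ 2 ^ c') ^ 2 ^ L = 1
      rw [← pow_mul, ← pow_add, show c' + L = e - c by omega, hτ1o]), map_one]
  have hrT : (T - 1) ^ r2 = 0 := Exact.sub_pow_eq_zero ⟨τ1 ^ 2 ^ c', hτ2mem⟩ (by
    show (ρq (τ1 ^ 2 ^ c') - 1) ^ r2 * e2 = 0
    rw [map_pow]; exact hdeg2)
  have hcompatW : ∀ a, T * ρW a = ρW (σW a) * T := fun a => by
    show FpfPrime.sub ρq e2 _ * FpfPrime.sub ρq e2 _ = FpfPrime.sub ρq e2 _ * FpfPrime.sub ρq e2 _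
    rw [← map_mul, ← map_mul]
    congr 1
    refine Subtype.ext ?_
    show τ1 ^ 2 ^ c' * π _ = π _ * τ1 ^ 2 ^ c'
    rw [hτ1, ← map_pow, ← map_mul, ← map_mul]
    congr 1
    refine Subtype.ext ?_
    show T1 ^ 2 ^ c' * (a : G) = (t ^ 2 ^ (c + c') * a * (t ^ 2 ^ (c + c'))⁻¹) * T1 ^ 2 ^ c'
    rw [hT1, ← pow_mul, ← pow_add, inv_mul_cancel_right]
  have hσy : σW ^ 2 ^ (L - 1) = H71.conjD D ψ ⟨y, hystab⟩ := by
    rw [hσW, ← map_pow]
    congr 1
    refine Subtype.ext ?_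
    show (t ^ 2 ^ (c + c')) ^ 2 ^ (L - 1) = y
    rw [hy, ← pow_mul, ← pow_add, show c + c' + (L - 1) = e - 1 by omega]
  let Θ := pairAct hc ψ
  have hs1 : ¬ Θ ⟨s, hSstab hs⟩ = 1 := fun h1 => hsd (by
    have := pairAct_pair hc ψ ⟨s, hSstab hs⟩ d
    change Θ ⟨s, hSstab hs⟩ _ = _ at this
    rw [h1, MulAut.one_apply] at this
    exact (congrArg Subtype.val this).symm)
  have hker : ∀ a b : D, (pairQ hc ψ a = pairQ hc ψ b) ↔ a⁻¹ * b ∈ N := fun a b => by
    rw [hN, MonoidHom.mem_ker, map_mul, map_inv, inv_mul_eq_one]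
  rcases Plane.plane_of_setting St hq2 hDq h2k' hqk (L := L) (by omega) σW T hT hrT hlt2 hcompatW with h1 | ⟨hL2, hfix, hrel⟩
  · set Ker := Θ.ker.map (H71.stabChar D ψ).subtype with hKer
    have hKcomm : ∀ {H K : Subgroup G}, H ≤ H71.stabChar D ψ → K ≤ Ker → ⁅H, K⁆ ≤ Ker := by
      intro H K hH hK
      refine commutator_le.mpr fun a ha b hb => ?_
      obtain ⟨b', hb', rfl⟩ := hK hb
      exact ⟨⁅(⟨a, hH ha⟩ : H71.stabChar D ψ), b'⁆,
        commutator_le_right ⊤ Θ.ker (commutator_mem_commutator (mem_top _) hb'), rfl⟩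
    have hyK : zpowers y ≤ Ker := zpowers_le.mpr ⟨⟨y, hystab⟩, MulEquiv.ext fun f => by
      obtain ⟨_, u, rfl⟩ := f
      rw [pairAct_pair, MulAut.one_apply]
      refine Subtype.ext ((hker _ _).mpr ?_).symm
      have := h1 u
      rwa [hσy] at this, rfl⟩
    have hRK : R ≤ Ker := h.gen.trans (hKcomm hRstab hyK)
    obtain ⟨s', hs', hss⟩ := hS1eq.ge.trans (hKcomm hSstab (hR'R.trans hRK)) hs
    refine hs1 ?_
    rw [← show s' = ⟨s, hSstab hs⟩ from Subtype.ext hss]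
    exact hs'
  · let A := (pairQ hc ψ).range
    let f : D →* A := (pairQ hc ψ).rangeRestrict
    have hf : ∀ a : A, ∃ u, f u = a := (pairQ hc ψ).rangeRestrict_surjective
    have hΘf : ∀ (z : H71.stabChar D ψ) u, Θ z (f u) = f (H71.conjD D ψ z u) := fun z u => pairAct_pair hc ψ z u
    have hexpA : ∀ a : A, a ^ q = 1 := pow_eq_one_range hc ψ hpow
    have hgy : Θ T2 ^ 2 ^ (L - 1) = Θ (T2 ^ 2 ^ (L - 1)) := (map_pow Θ _ _).symm
    have hgu : ∀ u, (Θ T2 ^ 2 ^ (L - 1)) (f u) = f ((σW ^ 2 ^ (L - 1)) u) := fun u => by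
      rw [hgy, hΘf, hσW, ← map_pow]
    have hT2o : T2 ^ 2 ^ L = 1 := Subtype.ext (by
      show (t ^ 2 ^ (c + c')) ^ 2 ^ L = 1
      rw [← pow_mul, ← pow_add, show c + c' + L = e by omega, hte])
    have hplane := planeElt_dual (A := A) (q := q) hq2 (L := L) (by omega) (Θ T2)
      (by rw [← map_pow, hT2o, map_one])
      (fun a ha => by
        obtain ⟨u, rfl⟩ := hf a
        rw [hgu] at ha
        rw [hΘf]
        exact (Subtype.ext ((hker _ _).mpr (hfix u ((hker _ _).mp (congrArg Subtype.val ha).symm)))).symm)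
      ((moved (σW ^ 2 ^ (L - 1)) ⊔ N).map f)
      (fun a => by
        obtain ⟨u, rfl⟩ := hf a
        rw [hgu, ← map_inv, ← map_mul]
        exact mem_map_of_mem f (mem_sup_left (mem_moved _ u)))
      (by rw [← Subgroup.relIndex_ker, MonoidHom.ker_rangeRestrict]; exact hrel)
      hexpA
    have hH : Plane.Hyp (1 : G →* Module.End (Cq q) (Du A q)) r S1 R (t ^ 2 ^ (c + c')) L := by
      have hRn : ∀ a ∈ normalizer (R : Set G), a ∈ normalizer (S0 : Set G) → a ∈ normalizer (S1 : Set G) :=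
        fun a ha ha0 => PQTower.mem_normalizer_comm ha0 (PQTower.mem_normalizer_comm ha ha)
      refine ⟨hS1p, h.odd, fun a ha => hRn a (le_normalizer ha) (h.rs ha), hRn _ (pow_mem h.tr _) (pow_mem h.ts _),
        pow_mem h.tr _, ?_, ?_⟩
      · rw [← pow_mul, ← pow_add, show c + c' + (L - 1) = e - 1 by omega]
        exact h.gen
      · refine ⟨one_pow _, fun v _ => rfl, ?_⟩
        refine le_of_eq_of_le ?_ (Nat.zero_le 2)
        rw [Submodule.finrank_eq_zero, LinearMap.range_eq_bot]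
        show (1 : Module.End (Cq q) (Du A q)) ^ _ - 1 = 0
        rw [one_pow]
        exact sub_self (1 : Module.End (Cq q) (Du A q))
    have hH' := hH.pullback hRstab hT2stab ((dualRep A q).comp Θ) hplane
    have hsmem : (⟨s, hSstab hs⟩ : H71.stabChar D ψ) ∈
        ⁅S1.subgroupOf (H71.stabChar D ψ), ⁅R.subgroupOf (H71.stabChar D ψ), R.subgroupOf (H71.stabChar D ψ)⁆⁆ := by
      rw [← mem_map_iff_mem (Subgroup.subtype_injective (H71.stabChar D ψ)), map_commutator, map_commutator,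
        map_subgroupOf_eq_of_le hSstab, map_subgroupOf_eq_of_le hRstab, ← hR', hS1eq]
      exact hs
    exact hs1 (eq_one_of_dualRep hexpA (Plane.core (two_ne_zero hq2) h.ne_two hL2 hH' _ hsmem))

/-- Gross's key theorem. -/
theorem pow_mem_pPrimePCore [Group.IsSolvable G] (h2k : (2 : k) = 0) {ρ : G →* Module.End k V}
    (hinj : Function.Injective ρ) (hO : Cfsg.pCore 2 G = ⊥) {e : ℕ} (he : 2 ≤ e)
    (hexp : ∀ P : Sylow 2 G, ∀ x ∈ (P : Subgroup G), x ^ 2 ^ e = 1)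
    (hdeg : ∀ P : Sylow 2 G, ∀ x ∈ (P : Subgroup G), (ρ x - 1) ^ (2 ^ e - 1) = 0)
    (P : Sylow 2 G) {x : G} (hx : x ∈ (P : Subgroup G)) : x ^ 2 ^ (e - 1) ∈ Cfsg.pPrimePCore 2 G := by
  by_contra hy
  obtain ⟨S0, R, t, r, h⟩ := exists_data (by omega) hexp P hx hy
  exact not_data h2k hinj hO he hdeg h

end Cfsg.Agent.H71.GrossTwo
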