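import Cfsg.Agent.Cores.UpperSeries

/-!
`p`-length under subdirect products and under extensions by cores.
-/

set_option autoImplicit false
set_option linter.style.haveILetI false
open Cfsg

namespace Cfsg.Agent.H71

open Subgroup

variable {G : Type*} [Group G] {H : Type*} [Group H] {K : Type*} [Group K] {p : ℕ}

/-- The shape of the `n`-th factor of the upper `p`-series. -/
def FactorShape (p n m : ℕ) : Prop :=
  if Even n then m.Coprime p else ∃ k, m ∣ p ^ k

theorem FactorShape.of_dvd {n m m' : ℕ} (h : FactorShape p n m) (hd : m' ∣ m) : FactorShape p n m' := by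
  unfold FactorShape at h ⊢
  split_ifs with hn
  · rw [if_pos hn] at h; exact h.coprime_dvd_left hd
  · rw [if_neg hn] at h; obtain ⟨k, hk⟩ := h; exact ⟨k, hd.trans hk⟩

theorem FactorShape.mul {n m m' : ℕ} (h : FactorShape p n m) (h' : FactorShape p n m') :
    FactorShape p n (m * m') := by
  unfold FactorShape at h h' ⊢
  split_ifs with hn
  · rw [if_pos hn] at h h'; exact Nat.Coprime.mul_left h h'
  · rw [if_neg hn] at h h'; obtain ⟨k, hk⟩ := h; obtain ⟨k', hk'⟩ := h'
    exact ⟨k + k', pow_add p k k' ▸ mul_dvd_mul hk hk'⟩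

/-- The factors of the upper `p`-series have the prescribed shape. -/
theorem factorShape_upperPSeries [Finite G] [Fact p.Prime] (n : ℕ) :
    FactorShape p n ((upperPSeries p G n).1.relIndex (upperPSeries p G (n + 1)).1) := by
  unfold FactorShape
  split_ifs with hn
  · rw [Cores.upperPSeries_succ_of_even hn, ← Cores.card_map_mk',
      map_comap_eq_self_of_surjective (QuotientGroup.mk'_surjective _)]
    exact Cores.coprime_card_pPrimeCore
  · rw [Cores.upperPSeries_succ_of_odd hn, ← Cores.card_map_mk',
      map_comap_eq_self_of_surjective (QuotientGroup.mk'_surjective _)]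
    obtain ⟨k, hk⟩ := IsPGroup.iff_card.mp (Cores.pCore_isPGroup (p := p)
      (G := G ⧸ (upperPSeries p G n).1))
    exact ⟨k, hk.dvd⟩

/-- A normal subgroup with the right index over the `n`-th term lies in the next term. -/
theorem le_upperPSeries_succ [Finite G] [Fact p.Prime] {n : ℕ} (D : Subgroup G) [hD : D.Normal]
    (h : FactorShape p n ((upperPSeries p G n).1.relIndex D)) :
    D ≤ (upperPSeries p G (n + 1)).1 := by
  haveI : (D.map (QuotientGroup.mk' (upperPSeries p G n).1)).Normal :=
    hD.map _ (QuotientGroup.mk'_surjective _)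
  unfold FactorShape at h
  rw [← Cores.card_map_mk'] at h
  by_cases hn : Even n
  · rw [if_pos hn] at h
    rw [Cores.upperPSeries_succ_of_even hn, ← Subgroup.map_le_iff_le_comap]
    exact Cores.le_pPrimeCore h
  · rw [if_neg hn] at h
    rw [Cores.upperPSeries_succ_of_odd hn, ← Subgroup.map_le_iff_le_comap]
    obtain ⟨k, hk⟩ := h
    obtain ⟨j, -, hj⟩ := (Nat.dvd_prime_pow Fact.out).mp hk
    exact Cores.le_pCore (IsPGroup.of_card hj)

theorem factorShape_comap [Finite G] [Fact p.Prime] [Finite H] {f : G →* H} (hf : Function.Surjective f)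
    (n : ℕ) : FactorShape p n
      (((upperPSeries p H n).1.comap f).relIndex ((upperPSeries p H (n + 1)).1.comap f)) := by
  rw [Subgroup.relIndex_comap, map_comap_eq_self_of_surjective hf]
  exact factorShape_upperPSeries n

/-- Subdirect products: the upper series of `G` contains the intersection of the pulled-back series. -/
theorem comap_inf_comap_le_upperPSeries [Finite G] [Fact p.Prime] {f : G →* H} (hf : Function.Surjective f)
    {g : G →* K} (hg : Function.Surjective g) (hfg : f.ker ⊓ g.ker = ⊥) (n : ℕ) :
    (upperPSeries p H n).1.comap f ⊓ (upperPSeries p K n).1.comap g ≤ (upperPSeries p G n).1 := by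
  haveI : Finite H := Finite.of_surjective f hf
  haveI : Finite K := Finite.of_surjective g hg
  induction n with
  | zero =>
    simp only [Cores.upperPSeries_zero_eq, MonoidHom.comap_bot, hfg, le_refl]
  | succ n ih =>
    set A := (upperPSeries p H n).1.comap f with hA
    set B := (upperPSeries p K n).1.comap g with hB
    set D := (upperPSeries p H (n + 1)).1.comap f ⊓ (upperPSeries p K (n + 1)).1.comap g with hD
    haveI : D.Normal := Subgroup.normal_inf_normal _ _
    haveI : A.Normal := (upperPSeries p H n).2.comap _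
    haveI : B.Normal := (upperPSeries p K n).2.comap _
    refine le_upperPSeries_succ D ?_
    have hle : A ⊓ B ≤ D :=
      inf_le_inf (comap_mono (Cores.upperPSeries_le_succ n)) (comap_mono (Cores.upperPSeries_le_succ n))
    have h1 : FactorShape p n (A.relIndex D) :=
      (factorShape_comap hf n).of_dvd (Cores.relIndex_dvd_relIndex_of_le_right A inf_le_left)
    have h2 : FactorShape p n (B.relIndex D) :=
      (factorShape_comap hg n).of_dvd (Cores.relIndex_dvd_relIndex_of_le_right B inf_le_right)
    refine FactorShape.of_dvd ?_ (Subgroup.relIndex_dvd_of_le_left D ih)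
    have h3 : (A ⊓ B).relIndex D = (A ⊓ B).relIndex (A ⊓ D) * (A ⊓ D).relIndex D :=
      (Subgroup.relIndex_mul_relIndex _ _ _ (le_inf inf_le_left hle) inf_le_right).symm
    rw [h3, Subgroup.inf_relIndex_right]
    refine FactorShape.mul ?_ h1
    have h4 : (A ⊓ B).relIndex (A ⊓ D) = B.relIndex (A ⊓ D) := by
      rw [← Subgroup.inf_relIndex_right B (A ⊓ D)]
      congr 1
      refine le_antisymm (le_inf inf_le_right (le_inf inf_le_left hle)) ?_
      exact le_inf (inf_le_right.trans inf_le_left) inf_le_left
    rw [h4]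
    exact h2.of_dvd (Cores.relIndex_dvd_relIndex_of_le_right B inf_le_right)

theorem pLengthLE_subdirect [Finite G] [Fact p.Prime] {k : ℕ} {f : G →* H} (hf : Function.Surjective f)
    {g : G →* K} (hg : Function.Surjective g) (hfg : f.ker ⊓ g.ker = ⊥)
    (hH : PLengthLE p k H) (hK : PLengthLE p k K) : PLengthLE p k G := by
  refine top_le_iff.mp (le_trans ?_ (comap_inf_comap_le_upperPSeries hf hg hfg (2 * k + 1)))
  simp only [PLengthLE] at hH hK
  rw [hH, hK, Subgroup.comap_top, Subgroup.comap_top, inf_idem]

theorem pLengthLE_of_card_eq_one [Finite G] (h : Nat.card G = 1) (k : ℕ) : PLengthLE p k G :=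
  Cores.pLengthLE_mono (Nat.zero_le k) (Cores.pLengthLE_zero_iff.2 (h ▸ Nat.coprime_one_left p))

/-- Passing to the quotient by a normal `p'`-subgroup does not lower the `p`-length. -/
theorem pLengthLE_of_quotient_coprime [Finite G] [Fact p.Prime] (N : Subgroup G) [N.Normal]
    (hN : (Nat.card N).Coprime p) {k : ℕ} (h : PLengthLE p k (G ⧸ N)) : PLengthLE p k G := by
  have key : ∀ n, (upperPSeries p (G ⧸ N) (n + 1)).1.comap (QuotientGroup.mk' N) ≤
      (upperPSeries p G (n + 1)).1 := by
    intro n
    induction n with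
    | zero => simp only [zero_add, Cores.upperPSeries_one, Cores.comap_pPrimeCore_quotient N hN, le_refl]
    | succ n ih =>
      haveI : ((upperPSeries p (G ⧸ N) (n + 1 + 1)).1.comap (QuotientGroup.mk' N)).Normal :=
        (upperPSeries p (G ⧸ N) (n + 1 + 1)).2.comap _
      refine le_upperPSeries_succ _ ?_
      exact (factorShape_comap (QuotientGroup.mk'_surjective N) (n + 1)).of_dvd
        (Subgroup.relIndex_dvd_of_le_left _ ih)
  refine top_le_iff.mp (le_trans ?_ (key (2 * k)))
  simp only [PLengthLE] at h
  rw [h, Subgroup.comap_top]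

theorem upperPSeries_two_eq_pCore [Finite G] [Fact p.Prime] (h : pPrimeCore p G = ⊥) :
    (upperPSeries p G 2).1 = pCore p G := by
  rw [Cores.upperPSeries_two]
  refine le_antisymm (Cores.le_pCore ?_) Cores.pCore_le_pPrimePCore
  have h1 : IsPGroup p (pCore p (G ⧸ pPrimeCore p G)) := Cores.pCore_isPGroup
  refine h1.comap_of_injective (QuotientGroup.mk' (pPrimeCore p G)) ?_
  rw [← MonoidHom.ker_eq_bot_iff, QuotientGroup.ker_mk', h]

/-- If `O_{p'}(G) = 1`, dividing out `O_p(G)` lowers the `p`-length by one. -/
theorem pLengthLE_succ_iff [Finite G] [Fact p.Prime] (h : pPrimeCore p G = ⊥) {k : ℕ} :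
    PLengthLE p (k + 1) G ↔ PLengthLE p k (G ⧸ pCore p G) := by
  have hadd := Cores.upperPSeries_add (p := p) (f := QuotientGroup.mk' (pCore p G))
    (QuotientGroup.mk'_surjective _) (j := 1)
    (by rw [QuotientGroup.ker_mk', upperPSeries_two_eq_pCore h]) (2 * k + 1)
  rw [PLengthLE, PLengthLE, show 2 * (k + 1) + 1 = 2 * 1 + (2 * k + 1) by ring, hadd]
  constructor
  · intro he
    rw [← map_comap_eq_self_of_surjective (QuotientGroup.mk'_surjective (pCore p G))
      (upperPSeries p (G ⧸ pCore p G) (2 * k + 1)).1, he,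
      Subgroup.map_top_of_surjective _ (QuotientGroup.mk'_surjective _)]
  · intro he
    rw [he, Subgroup.comap_top]

/-- An extension of `PLengthLE p k` by a normal `p`-subgroup has `PLengthLE p (k + 1)`. -/
theorem pLengthLE_succ_of_quotient_pCore [Finite G] [Fact p.Prime] {k : ℕ}
    (h : PLengthLE p k (G ⧸ pCore p G)) : PLengthLE p (k + 1) G := by
  let U := (upperPSeries p G 2).1
  haveI : U.Normal := (upperPSeries p G 2).2
  have hle : pCore p G ≤ U := by
    show pCore p G ≤ (upperPSeries p G 2).1
    rw [Cores.upperPSeries_two]; exact Cores.pCore_le_pPrimePCore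
  have h2 : PLengthLE p k (G ⧸ U) :=
    Cores.pLengthLE_of_surjective h (f := QuotientGroup.map _ _ (MonoidHom.id G) (by simpa using hle))
      (Cores.map_surjective_of Function.surjective_id (by simpa using hle))
  have hadd := Cores.upperPSeries_add (p := p) (f := QuotientGroup.mk' U)
    (QuotientGroup.mk'_surjective _) (j := 1) (QuotientGroup.ker_mk' U) (2 * k + 1)
  rw [PLengthLE, show 2 * (k + 1) + 1 = 2 * 1 + (2 * k + 1) by ring, hadd]
  simp only [PLengthLE] at h2
  rw [h2, Subgroup.comap_top]

/-- Subdirect products, as quotients. -/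
theorem pLengthLE_finset_inf [Finite G] [Fact p.Prime] {ι : Type*} (s : Finset ι) (N : ι → Subgroup G)
    [hN : ∀ i, (N i).Normal] {k : ℕ} (h : ∀ i ∈ s, PLengthLE p k (G ⧸ N i))
    (hbot : ∀ x : G, (∀ i ∈ s, x ∈ N i) → x = 1) : PLengthLE p k G := by
  classical
  suffices H : ∀ t : Finset ι, t ⊆ s → ∀ M : Subgroup G, ∀ _ : M.Normal,
      (∀ x, x ∈ M ↔ ∀ i ∈ t, x ∈ N i) → PLengthLE p k (G ⧸ M) by
    have h1 := H s subset_rfl ⊥ inferInstance fun x =>
      ⟨fun hx i _ => (Subgroup.mem_bot.mp hx) ▸ one_mem _, fun hx => Subgroup.mem_bot.mpr (hbot x hx)⟩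
    exact Cores.pLengthLE_of_surjective h1 (f := QuotientGroup.quotientBot.toMonoidHom)
      QuotientGroup.quotientBot.surjective
  intro t
  induction t using Finset.induction_on with
  | empty =>
    intro _ M _ hM
    obtain rfl : M = ⊤ := eq_top_iff.mpr fun x _ => (hM x).mpr (by simp)
    exact pLengthLE_of_card_eq_one (by rw [← Subgroup.index_eq_card, Subgroup.index_top]) k
  | @insert a t _ ih =>
    intro hts M hMn hM
    let M' : Subgroup G := t.inf N
    have hmem : ∀ x, x ∈ M' ↔ ∀ i ∈ t, x ∈ N i := by
      intro x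
      simp only [M', Finset.inf_eq_iInf, Subgroup.mem_iInf]
    haveI : M'.Normal := Subgroup.Normal.mk fun x hx g => (hmem _).mpr fun i hi =>
      (hN i).conj_mem x ((hmem x).mp hx i hi) g
    have h1 := ih ((Finset.subset_insert _ _).trans hts) M' inferInstance hmem
    have hM1 : M ≤ N a := fun x hx => (hM x).mp hx a (Finset.mem_insert_self a t)
    have hM2 : M ≤ M' := fun x hx =>
      (hmem x).mpr fun i hi => (hM x).mp hx i (Finset.mem_insert_of_mem hi)
    refine pLengthLE_subdirect (f := QuotientGroup.map M (N a) (MonoidHom.id G) (by simpa using hM1))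
      (Cores.map_surjective_of Function.surjective_id (by simpa using hM1))
      (g := QuotientGroup.map M M' (MonoidHom.id G) (by simpa using hM2))
      (Cores.map_surjective_of Function.surjective_id (by simpa using hM2)) ?_
      (h a (hts (Finset.mem_insert_self a t))) h1
    rw [Subgroup.eq_bot_iff_forall]
    intro y hy
    induction y using QuotientGroup.induction_on with | _ y => ?_
    have ha : y ∈ N a := (QuotientGroup.eq_one_iff y).mp hy.1
    have ht : y ∈ M' := (QuotientGroup.eq_one_iff y).mp hy.2
    refine (QuotientGroup.eq_one_iff y).mpr ((hM y).mpr fun i hi => ?_)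
    rcases Finset.mem_insert.mp hi with rfl | hi
    · exact ha
    · exact (hmem y).mp ht i hi

end Cfsg.Agent.H71
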