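import Cfsg.Agent.H71.GrossKey
import Cfsg.Agent.H71.PLength

/-!
Gross's bound: a solvable group whose Sylow 2-subgroups have exponent dividing `2 ^ e` has 2-length
at most `2 e - 1`.
-/

set_option autoImplicit false
set_option linter.style.haveILetI false
open Cfsg

universe u

namespace Cfsg.Agent.H71.GrossTwo

open Subgroup

theorem pLengthLE_succ_of_quotient_pPrimePCore {G : Type u} [Group G] [Finite G] {p : ℕ} [Fact p.Prime]
    {k : ℕ} (M : Subgroup G) [M.Normal] (hM : M = Cfsg.pPrimePCore p G) (h : Cfsg.PLengthLE p k (G ⧸ M)) :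
    Cfsg.PLengthLE p (k + 1) G := by
  have hadd := Cores.upperPSeries_add (p := p) (f := QuotientGroup.mk' M)
    (QuotientGroup.mk'_surjective _) (j := 1)
    (by rw [QuotientGroup.ker_mk', hM, Cores.upperPSeries_two]) (2 * k + 1)
  rw [Cfsg.PLengthLE, show 2 * (k + 1) + 1 = 2 * 1 + (2 * k + 1) by ring, hadd]
  simp only [Cfsg.PLengthLE] at h
  rw [h, Subgroup.comap_top]

theorem sylow_exponent_map {G H : Type*} [Group G] [Finite G] [Group H] [Fact (Nat.Prime 2)] {f : G →* H}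
    (hf : Function.Surjective f) {n : ℕ} (h : ∀ P : Sylow 2 G, ∀ x ∈ (P : Subgroup G), f x ^ n = 1)
    (P : Sylow 2 H) : ∀ x ∈ (P : Subgroup H), x ^ n = 1 := by
  obtain ⟨Q, rfl⟩ := Sylow.mapSurjective_surjective hf 2 P
  intro x hx
  rw [Sylow.coe_mapSurjective] at hx
  obtain ⟨w, hw, rfl⟩ := hx
  exact h Q w hw

/-- The step for a group with trivial odd core. -/
theorem reduced_step {G : Type u} [Group G] [Finite G] [Group.IsSolvable G] [Fact (Nat.Prime 2)]
    (hK : Cfsg.pPrimeCore 2 G = ⊥) {e : ℕ} (hexp : ∀ P : Sylow 2 G, ∀ x ∈ (P : Subgroup G), x ^ 2 ^ (e + 1) = 1)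
    (ih : ∀ (H : Type u) [Group H] [Finite H], Group.IsSolvable H → 1 ≤ e →
      (∀ P : Sylow 2 H, ∀ x ∈ (P : Subgroup H), x ^ 2 ^ e = 1) → Cfsg.PLengthLE 2 (2 * e - 1) H) :
    Cfsg.PLengthLE 2 (2 * (e + 1) - 1) G := by
  rw [show 2 * (e + 1) - 1 = 2 * e + 1 by omega, H71.pLengthLE_succ_iff hK]
  let π := QuotientGroup.mk' (Cfsg.pCore 2 G)
  have hπ : Function.Surjective π := QuotientGroup.mk'_surjective _
  haveI : Group.IsSolvable (G ⧸ Cfsg.pCore 2 G) := solvable_of_surjective hπ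
  have hinj := LayerRep.layerRep_injective (p := 2) (G := G) Cores.isPSolvable_of_isSolvable hK
  have h2k : (2 : Coprime.LinRep.Coeff 2) = 0 := by
    exact_mod_cast CharP.cast_eq_zero (Coprime.LinRep.Coeff 2) 2
  have hdeg : ∀ P : Sylow 2 (G ⧸ Cfsg.pCore 2 G), ∀ x ∈ (P : Subgroup (G ⧸ Cfsg.pCore 2 G)),
      (LayerRep.layerRep 2 G x - 1) ^ (2 ^ (e + 1) - 1) = 0 := by
    intro P x hx
    obtain ⟨Q, rfl⟩ := Sylow.mapSurjective_surjective hπ 2 P
    rw [Sylow.coe_mapSurjective] at hx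
    obtain ⟨w, hw, rfl⟩ := hx
    have h := LayerRep.sum_eq_zero (p := 2) Q (hexp Q) hw
    rw [Exact.sum_pow_eq (by exact_mod_cast h2k)] at h
    exact h
  rcases Nat.eq_zero_or_pos e with rfl | he
  · refine Cores.pLengthLE_zero_iff.mpr ?_
    obtain ⟨P⟩ : Nonempty (Sylow 2 (G ⧸ Cfsg.pCore 2 G)) := inferInstance
    have hbot : (P : Subgroup (G ⧸ Cfsg.pCore 2 G)) = ⊥ := by
      rw [Subgroup.eq_bot_iff_forall]
      intro x hx
      refine hinj ?_
      have h := hdeg P x hx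
      rw [show 2 ^ (0 + 1) - 1 = 1 by norm_num, pow_one] at h
      rw [map_one]
      exact LinearMap.ext fun v => sub_eq_zero.mp (congrArg (fun f : Module.End (Coprime.LinRep.Coeff 2) _ => f v) h)
    have h1 := P.not_dvd_index
    rw [hbot, Subgroup.index_bot] at h1
    exact ((Nat.Prime.coprime_iff_not_dvd Nat.prime_two).mpr h1).symm
  · have hexp1 := sylow_exponent_map (n := 2 ^ (e + 1)) hπ (fun P x hx => by
      rw [← map_pow, hexp P x hx, map_one])
    set M := Cfsg.pPrimePCore 2 (G ⧸ Cfsg.pCore 2 G) with hM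
    haveI : M.Normal := by rw [hM, Cfsg.pPrimePCore]; infer_instance
    let π' := QuotientGroup.mk' M
    have hπ' : Function.Surjective π' := QuotientGroup.mk'_surjective _
    have hexp2 := sylow_exponent_map (n := 2 ^ e) hπ' (fun P x hx => by
      rw [← map_pow]
      exact (QuotientGroup.eq_one_iff _).mpr (by
        have h := pow_mem_pPrimePCore h2k hinj Cores.pCore_quotient_pCore (e := e + 1) (by omega) hexp1 hdeg P hx
        rwa [Nat.add_sub_cancel] at h))
    have h := pLengthLE_succ_of_quotient_pPrimePCore M hM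
      (ih ((G ⧸ Cfsg.pCore 2 G) ⧸ M) (solvable_of_surjective hπ') he hexp2)
    rwa [show 2 * e - 1 + 1 = 2 * e by omega] at h

/-- The 2-length bound. -/
theorem pLengthLE_two : ∀ (e : ℕ) (G : Type u) [Group G] [Finite G], Group.IsSolvable G → 1 ≤ e →
    (∀ P : Sylow 2 G, ∀ x ∈ (P : Subgroup G), x ^ 2 ^ e = 1) → Cfsg.PLengthLE 2 (2 * e - 1) G := by
  intro e
  induction e with
  | zero => intro G _ _ _ he; omega
  | succ e ih =>
    intro G _ _ hG _ hexp
    haveI : Fact (Nat.Prime 2) := ⟨Nat.prime_two⟩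
    haveI := hG
    refine H71.pLengthLE_of_quotient_coprime (Cfsg.pPrimeCore 2 G) Cores.coprime_card_pPrimeCore ?_
    let π := QuotientGroup.mk' (Cfsg.pPrimeCore 2 G)
    have hπ : Function.Surjective π := QuotientGroup.mk'_surjective _
    haveI : Group.IsSolvable (G ⧸ Cfsg.pPrimeCore 2 G) := solvable_of_surjective hπ
    have hexp1 := sylow_exponent_map (n := 2 ^ (e + 1)) hπ (fun P x hx => by
      rw [← map_pow, hexp P x hx, map_one])
    have hK : Cfsg.pPrimeCore 2 (G ⧸ Cfsg.pPrimeCore 2 G) = ⊥ := Cores.pPrimeCore_quotient_pPrimeCore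
    exact reduced_step (G := G ⧸ Cfsg.pPrimeCore 2 G) hK hexp1 ih

end Cfsg.Agent.H71.GrossTwo
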