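import Cfsg.Prelude.Def_Transfer
import Cfsg.Agent.Coprime.Action
import Cfsg.Agent.PGroups.Basic
import Cfsg.Agent.PGroups.Commutator

/-!
The Hall-Higman reduction for a minimal nontrivial coprime action on a `p`-group, and small facts
about characteristic subgroups of a normalized subgroup.
-/

namespace Cfsg.Agent.H71

open Subgroup
open scoped commutatorElement

variable {G : Type*} [Group G]

/-- The normalizer of `P` normalizes the characteristic subgroups of `P`. -/
theorem le_normalizer_map_of_characteristic {P B : Subgroup G} (C : Subgroup P) [hC : C.Characteristic]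
    (hB : B ≤ normalizer (P : Set G)) : B ≤ normalizer ((C.map P.subtype : Subgroup G) : Set G) := by
  intro g hg
  let φ : MulAut P := P.normalizerMonoidHom ⟨g, hB hg⟩
  apply Coprime.mem_normalizer_of_map_conj
  conv_rhs => rw [← (Subgroup.characteristic_iff_map_eq.1 hC) φ]
  rw [Subgroup.map_map, Subgroup.map_map]
  congr 1

/-- If `[P, A] = P` then fixed points of `A` lie in every `A`-invariant subgroup containing `P'`. -/
theorem inf_centralizer_le_of_commutator_eq [Finite G] {A P : Subgroup G}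
    (hAP : A ≤ normalizer (P : Set G)) (hcop : (Nat.card A).Coprime (Nat.card P)) (hPA : ⁅P, A⁆ = P)
    (N : Subgroup P) [N.Normal] (hN : commutator P ≤ N)
    (hAN : A ≤ normalizer ((N.map P.subtype : Subgroup G) : Set G)) :
    P ⊓ centralizer (A : Set G) ≤ N.map P.subtype := by
  classical
  cases nonempty_fintype A
  have hcomm : ∀ x y : P ⧸ N, x * y = y * x := by
    intro x y
    obtain ⟨x, rfl⟩ := QuotientGroup.mk'_surjective N x
    obtain ⟨y, rfl⟩ := QuotientGroup.mk'_surjective N y
    rw [← commutatorElement_eq_one_iff_mul_comm, ← map_commutatorElement]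
    exact (QuotientGroup.eq_one_iff _).2 (hN (commutator_mem_commutator (mem_top x) (mem_top y)))
  letI : CommGroup (P ⧸ N) := { (inferInstance : Group (P ⧸ N)) with mul_comm := hcomm }
  let conjA : A → P →* P := fun a => (P.normalizerMonoidHom ⟨a, hAP a.2⟩).toMonoidHom
  let ν : P →* P ⧸ N := ∏ a : A, (QuotientGroup.mk' N).comp (conjA a)
  have hν : ∀ x : P, ν x = ∏ a : A, QuotientGroup.mk' N (conjA a x) := fun x =>
    MonoidHom.finset_prod_apply _ _ _
  have hinv : ∀ (b : A) (x : P), ν (conjA b x) = ν x := by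
    intro b x
    rw [hν, hν]
    refine Fintype.prod_equiv (Equiv.mulRight b) _ _ fun a => ?_
    show QuotientGroup.mk' N (conjA a (conjA b x)) = QuotientGroup.mk' N (conjA (a * b) x)
    congr 1
    apply Subtype.ext
    show (a : G) * ((b : G) * x * (b : G)⁻¹) * (a : G)⁻¹ = (↑(a * b) : G) * x * (↑(a * b) : G)⁻¹
    rw [Subgroup.coe_mul]; group
  have hall : ∀ x : P, ν x = 1 := by
    have hle : ⁅P, A⁆ ≤ ν.ker.map P.subtype := by
      rw [commutator_le]
      intro x hx a ha
      refine ⟨⟨x, hx⟩ * (conjA ⟨a, ha⟩ ⟨x, hx⟩)⁻¹, ?_, ?_⟩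
      · show ν _ = 1
        rw [map_mul, map_inv, hinv, mul_inv_cancel]
      · show x * (a * x * a⁻¹)⁻¹ = _
        simp only [commutatorElement_def]; group
    intro x
    obtain ⟨y, hy, hyx⟩ := hle (show (x : G) ∈ ⁅P, A⁆ by rw [hPA]; exact x.2)
    rwa [← Subtype.ext hyx]
  rintro c ⟨hc, hcA⟩
  refine ⟨⟨c, hc⟩, SetLike.mem_coe.2 ?_, rfl⟩
  have h1 : (QuotientGroup.mk' N ⟨c, hc⟩) ^ Nat.card A = 1 := by
    rw [← hall ⟨c, hc⟩, hν, Nat.card_eq_fintype_card, ← Finset.card_univ, ← Finset.prod_const]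
    refine Finset.prod_congr rfl fun a _ => congrArg _ (Subtype.ext ?_)
    show c = (a : G) * c * (a : G)⁻¹
    rw [(mem_centralizer_iff.1 hcA a a.2), mul_inv_cancel_right]
  have h2 : Nat.Coprime (Nat.card A) (Nat.card (P ⧸ N)) :=
    hcop.coprime_dvd_right (Subgroup.card_quotient_dvd_card N)
  rw [← QuotientGroup.eq_one_iff]
  have h3 := pow_gcd_eq_one.2 ⟨h1, pow_card_eq_one' (x := QuotientGroup.mk' N ⟨c, hc⟩)⟩
  rwa [h2.gcd_eq_one, pow_one] at h3

variable [Finite G] {p : ℕ} [hp : Fact p.Prime]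

/-- The Hall-Higman reduction. -/
theorem minimal_action (B A P : Subgroup G) (hP : IsPGroup p P) (hBP : B ≤ normalizer (P : Set G))
    (hAB : A ≤ B) (hAn : B ≤ normalizer (A : Set G)) (hAp : (Nat.card A).Coprime p)
    (hnt : ⁅P, A⁆ ≠ ⊥)
    (hmin : ∀ U : Subgroup G, U < P → B ≤ normalizer (U : Set G) → ⁅U, A⁆ = ⊥) :
    ⁅P, A⁆ = P ∧ P ⊓ centralizer (A : Set G) = (frattini ↥P).map P.subtype ∧
      (Cfsg.IsElementaryAbelian p P ∨ Cfsg.IsSpecial p ↥P) ∧
      (∀ U : Subgroup G, (frattini ↥P).map P.subtype ≤ U → U ≤ P → B ≤ normalizer (U : Set G) →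
        U = (frattini ↥P).map P.subtype ∨ U = P) ∧
      (p ≠ 2 → ∀ x ∈ P, x ^ p = 1) := by
  have hAP : A ≤ normalizer (P : Set G) := hAB.trans hBP
  obtain ⟨k, hk⟩ := IsPGroup.iff_card.1 hP
  have hcop : (Nat.card A).Coprime (Nat.card P) := hk ▸ hAp.pow_right k
  have hsol : Group.IsSolvable A ∨ Group.IsSolvable P := by
    haveI := hP.isNilpotent; exact Or.inr inferInstance
  have hle : ⁅P, A⁆ ≤ P := Coprime.commutator_le_left_of_normalizer hAP
  have hPA : ⁅P, A⁆ = P := by
    by_contra hne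
    apply hnt
    rw [← Coprime.commutator_commutator_eq hAP hcop hsol]
    refine hmin _ (lt_of_le_of_ne hle hne) fun b hb => ?_
    apply Coprime.mem_normalizer_of_map_conj
    rw [Subgroup.map_commutator, Coprime.map_conj_eq (hBP hb), Coprime.map_conj_eq (hAn hb)]
  have hcent : ∀ U : Subgroup G, U ≤ P → U ≠ P → B ≤ normalizer (U : Set G) →
      U ≤ P ⊓ centralizer (A : Set G) := fun U hU hne hB =>
    le_inf hU (commutator_eq_bot_iff_le_centralizer.1 (hmin U (lt_of_le_of_ne hU hne) hB))
  have hP0 : P ≠ ⊥ := fun h => hnt (by rw [h, commutator_bot_left])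
  haveI : Nontrivial P := (Subgroup.nontrivial_iff_ne_bot P).2 hP0
  set Φ := (frattini ↥P).map P.subtype with hΦ
  have hmapne : ∀ N : Subgroup P, N ≠ ⊤ → N.map P.subtype ≠ P := fun N hN h => hN <| by
    rw [← Subgroup.comap_map_eq_self_of_injective P.subtype_injective N, h, ← Subgroup.subgroupOf,
      Subgroup.subgroupOf_self]
  have hΦB : B ≤ normalizer (Φ : Set G) := le_normalizer_map_of_characteristic _ hBP
  have hΦC : Φ ≤ P ⊓ centralizer (A : Set G) := hcent Φ (map_subtype_le _)
    (hmapne _ fun h => by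
      obtain ⟨M, hM⟩ := IsCoatomic.exists_coatom (α := Subgroup P)
      exact hM.1 (top_le_iff.1 (h ▸ frattini_le_coatom hM))) hΦB
  have hCΦ : P ⊓ centralizer (A : Set G) ≤ Φ :=
    inf_centralizer_le_of_commutator_eq hAP hcop hPA (frattini P) (PGroups.commutator_le_frattini hP)
      (le_normalizer_map_of_characteristic _ hAP)
  have hC : P ⊓ centralizer (A : Set G) = Φ := le_antisymm hCΦ hΦC
  have hΦcen : ∀ x ∈ Φ, ∀ y ∈ P, x * y = y * x := by
    have h0 : ⁅⁅P, A⁆, Φ⁆ = ⊥ := by
      apply commutator_commutator_eq_bot_of_rotate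
      · rw [commutator_comm A Φ, commutator_eq_bot_iff_le_centralizer.2 (hΦC.trans inf_le_right),
          commutator_bot_left]
      · refine le_bot_iff.1 (le_trans (commutator_mono ?_ le_rfl)
          (commutator_eq_bot_iff_le_centralizer.2 (hΦC.trans inf_le_right)).le)
        exact Coprime.commutator_le_left_of_normalizer
          (le_normalizer_map_of_characteristic (frattini P) le_normalizer)
    rw [hPA] at h0
    intro x hx y hy
    exact (mem_centralizer_iff.1 (commutator_eq_bot_iff_le_centralizer.1 h0 hy) x hx)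
  have hexp_ab : IsMulCommutative P → Cfsg.IsElementaryAbelian p P := by
    intro hab
    refine ⟨hab, fun x hx => ?_⟩
    have h1 := inf_centralizer_le_of_commutator_eq hAP hcop hPA ⊥
      (le_of_eq ((_root_.commutator_def P).trans (commutator_eq_bot_iff_le_centralizer.2 fun a _ =>
        mem_centralizer_iff.2 fun b _ => hab.is_comm.comm b a)))
      (fun a _ => by rw [Subgroup.map_bot]; exact mem_normalizer_iff.2 fun n => by simp)
    rw [Subgroup.map_bot, hC] at h1
    have h2 : x ^ p ∈ Φ := ⟨⟨x, hx⟩ ^ p, PGroups.pow_mem_frattini hP _, rfl⟩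
    exact (mem_bot.1 (h1 h2))
  have hspec : ¬ IsMulCommutative P → Cfsg.IsSpecial p ↥P := by
    intro hna
    have hZ : center P = frattini P := by
      have h1 : (center P).map P.subtype ≤ Φ := by
        refine (hcent _ (map_subtype_le _) (hmapne _ fun h => hna ?_)
          (le_normalizer_map_of_characteristic _ hBP)).trans hCΦ
        exact ⟨⟨fun a b => (mem_center_iff.1 (h ▸ mem_top b) a)⟩⟩
      refine le_antisymm ((map_le_map_iff_of_injective P.subtype_injective).1 h1) fun x hx => ?_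
      rw [mem_center_iff]
      exact fun g => Subtype.ext (hΦcen x ⟨x, hx, rfl⟩ g g.2).symm
    refine ⟨hP, hZ.symm, ?_⟩
    rw [hZ]
    refine le_antisymm (PGroups.commutator_le_frattini hP) ?_
    have h := inf_centralizer_le_of_commutator_eq hAP hcop hPA (commutator P) le_rfl
      (le_normalizer_map_of_characteristic _ hAP)
    exact (map_le_map_iff_of_injective P.subtype_injective).1 (hΦC.trans h)
  refine ⟨hPA, hC, ?_, fun U hΦU hUP hBU => ?_, fun hp2 x hx => ?_⟩
  · by_cases hab : IsMulCommutative P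
    exacts [Or.inl (hexp_ab hab), Or.inr (hspec hab)]
  · by_cases h : U = P
    · exact Or.inr h
    · exact Or.inl (le_antisymm ((hcent U hUP h hBU).trans hCΦ) hΦU)
  by_cases hab : IsMulCommutative P
  · exact (hexp_ab hab).2 x hx
  have hsp := hspec hab
  have hcen : ∀ y z : P, ⁅y, z⁆ ∈ center P := fun y z => by
    rw [← hsp.2.2]; exact commutator_mem_commutator (mem_top y) (mem_top z)
  have hcp : ∀ y z : P, ⁅y, z⁆ ^ p = 1 := fun y z => by
    rw [← PGroups.commutatorElement_pow_left_of_mem_center (hcen y z), commutatorElement_eq_one_iff_mul_comm]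
    have : y ^ p ∈ center P := hsp.2.1 ▸ PGroups.pow_mem_frattini hP y
    exact (mem_center_iff.1 this z).symm
  have hmul : ∀ y z : P, (y * z) ^ p = y ^ p * z ^ p := fun y z => by
    obtain ⟨c, hc⟩ := PGroups.dvd_choose_two hp.out hp2
    rw [PGroups.mul_pow_of_commutator_mem_center (hcen z y), hc, pow_mul, hcp, one_pow, mul_one]
  let θ : P →* P := { toFun := fun y => y ^ p, map_one' := one_pow p, map_mul' := hmul }
  have hker : ⁅P, A⁆ ≤ θ.ker.map P.subtype := by
    rw [commutator_le]
    intro y hy a ha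
    have hz : a * y⁻¹ * a⁻¹ ∈ P := (mem_normalizer_iff.1 (hAP ha) _).1 (inv_mem hy)
    refine ⟨⟨y, hy⟩ * ⟨_, hz⟩, ?_, by simp only [commutatorElement_def, map_mul, Subgroup.coe_subtype]; group⟩
    show (_ : P) ^ p = 1
    rw [hmul]
    apply Subtype.ext
    show y ^ p * (a * y⁻¹ * a⁻¹) ^ p = 1
    have hf : y ^ p ∈ P ⊓ centralizer (A : Set G) :=
      hΦC ⟨⟨y, hy⟩ ^ p, PGroups.pow_mem_frattini hP _, rfl⟩
    rw [conj_pow, inv_pow, (Commute.inv_right (mem_centralizer_iff.1 hf.2 a ha :)).eq, mul_inv_cancel_right,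
      mul_inv_cancel]
  obtain ⟨y, hy, rfl⟩ := hker (hPA.symm ▸ hx)
  exact congrArg Subtype.val (show y ^ p = 1 from hy)

end Cfsg.Agent.H71
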