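import Cfsg.Agent.H71.HallHigmanStep
import Cfsg.Agent.H71.ExceptionalCommute
import Cfsg.Agent.H71.MinimalAction
import Cfsg.Agent.PGroups.Critical

/-!
The faithful representation of `G ⧸ O_p(G)` from the Frattini quotient of `O_p(G)`, and reductions to
invariant 2-groups of class two.
-/

set_option autoImplicit false
set_option linter.style.haveILetI false
set_option linter.unusedSectionVars false
set_option maxHeartbeats 1000000
open Cfsg

namespace Cfsg.Agent.H71.LayerRep

open Subgroup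
open scoped IsMulCommutative commutatorElement
open Cfsg.Agent.Coprime

universe u

variable {p : ℕ} [Fact p.Prime]

/-- A `p`-element centralising every invariant Sylow subgroup of `O_p'` is trivial when `O_p = 1`. -/
theorem eq_one_of_centralizes_invariant {Y : Type u} [Group Y] [Finite Y] (hs : Cfsg.IsPSolvable p Y)
    (hO : Cfsg.pCore p Y = ⊥) {A : Subgroup Y} (hA : IsPGroup p A) {c : Y} (hc : c ∈ A)
    (h : ∀ q : ℕ, Fact q.Prime → q ≠ p → ∀ Q : Subgroup Y, IsPGroup q Q → A ≤ normalizer (Q : Set Y) →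
      c ∈ centralizer (Q : Set Y)) : c = 1 := by
  have hp : p.Prime := Fact.out
  set F := Cfsg.pPrimeCore p Y with hF
  haveI : Group.IsNilpotent A := hA.isNilpotent
  have hAsol : Group.IsSolvable A := inferInstance
  have hAF : A ≤ normalizer (F : Set Y) := by
    rw [Subgroup.normalizer_eq_top_iff.mpr inferInstance]; exact le_top
  have hcop : (Nat.card A).Coprime (Nat.card F) := by
    obtain ⟨j, hj⟩ := IsPGroup.iff_card.mp hA
    rw [hj]
    exact Nat.Coprime.pow_left j (Cores.coprime_card_pPrimeCore (p := p)).symm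
  have hFc : F ≤ centralizer ({c} : Set Y) := Coprime.le_of_exists_sylow_le fun q hq => by
    haveI : Fact q.Prime := ⟨hq⟩
    obtain ⟨Q₀, hQ₀⟩ := Coprime.exists_invariant_sylow hAF hcop (Or.inl hAsol) q
    refine ⟨Q₀, fun w hw => ?_⟩
    by_cases hqp : q = p
    · subst hqp
      have h1 : (Q₀ : Subgroup F).map F.subtype = ⊥ := by
        obtain ⟨j, hj⟩ := IsPGroup.iff_card.mp (Q₀.isPGroup'.map F.subtype)
        refine Subgroup.eq_bot_of_card_eq _ ?_
        have h2 := (Cores.coprime_card_pPrimeCore (p := q) (G := Y)).coprime_dvd_left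
          (Subgroup.card_dvd_of_le (map_subtype_le (Q₀ : Subgroup F)))
        rcases j with _ | j
        · rw [hj, pow_zero]
        · rw [hj] at h2
          exact absurd (Nat.eq_one_of_dvd_coprimes h2 (dvd_pow_self q j.succ_ne_zero) dvd_rfl) hq.ne_one
      rw [h1, mem_bot] at hw
      rw [hw]; exact one_mem _
    · exact mem_centralizer_singleton_iff.mpr
        (mem_centralizer_iff.mp (h q ⟨hq⟩ hqp _ (Q₀.isPGroup'.map F.subtype) hQ₀) w hw)
  have h1 := H71.eq_bot_of_centralizes hs hO (A := zpowers c) (hA.to_le (zpowers_le.mpr hc))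
    (zpowers_le.mpr (mem_centralizer_iff.mpr fun f hf => mem_centralizer_singleton_iff.mp (hFc hf)))
  exact zpowers_eq_bot.mp h1

/-- It is enough to centralise every invariant 2-subgroup of class two. -/
theorem mem_centralizer_of_classTwo {Y : Type u} [Group Y] [Finite Y] (hp2 : p ≠ 2) {A : Subgroup Y}
    (hA : IsPGroup p A) {c : Y} (hc : c ∈ A)
    (h : ∀ D : Subgroup Y, H71.ClassTwo D → IsPGroup 2 D → A ≤ normalizer (D : Set Y) →
      c ∈ centralizer (D : Set Y)) (Q : Subgroup Y) (hQ : IsPGroup 2 Q) (hAQ : A ≤ normalizer (Q : Set Y)) :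
    c ∈ centralizer (Q : Set Y) := by
  haveI : Fact (Nat.Prime 2) := ⟨Nat.prime_two⟩
  obtain ⟨H, hH, hfr, -, hCH⟩ := PGroups.exists_critical hQ
  haveI := hH
  have hHp := hQ.to_subgroup H
  set D := H.map Q.subtype with hD
  have hzc : ∀ w : H, w ∈ frattini H → ((w : Q) : Y) ∈ H71.zc D := by
    intro w hw
    refine ⟨mem_map_of_mem _ w.2, mem_centralizer_iff.mpr ?_⟩
    rintro _ ⟨v, hv, rfl⟩
    exact congrArg Subtype.val (mem_centralizer_iff.mp (hfr (mem_map_of_mem H.subtype hw)) v hv)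
  have hct : H71.ClassTwo D := by
    refine ⟨?_, ?_⟩
    · rintro _ ⟨a, ha, rfl⟩ _ ⟨b, hb, rfl⟩
      exact hzc ⁅(⟨a, ha⟩ : H), ⟨b, hb⟩⁆ (PGroups.commutator_le_frattini hHp
        (Subgroup.commutator_mem_commutator (mem_top _) (mem_top _)))
    · rintro _ ⟨a, ha, rfl⟩
      have h2 := hzc _ (PGroups.pow_mem_frattini hHp (⟨a, ha⟩ : H))
      rw [SubmonoidClass.coe_pow, SubmonoidClass.coe_pow, pow_two] at h2
      exact h2
  have hD2 : IsPGroup 2 D := hHp.map Q.subtype
  have hcD := h D hct hD2 (H71.le_normalizer_map_of_characteristic H hAQ)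
  let a : MulAut Q := Subgroup.normalizerMonoidHom Q ⟨c, hAQ hc⟩
  have ha : Nat.Coprime (orderOf a) 2 := by
    obtain ⟨j, hj⟩ := hA ⟨c, hc⟩
    have hcj : (⟨c, hAQ hc⟩ : normalizer (Q : Set Y)) ^ p ^ j = 1 :=
      Subtype.ext (congrArg Subtype.val hj : c ^ p ^ j = 1)
    exact Nat.Coprime.coprime_dvd_left (orderOf_dvd_of_pow_eq_one (by rw [← map_pow, hcj, map_one]))
      (((Nat.coprime_primes (Fact.out : p.Prime) Nat.prime_two).mpr hp2).pow_left j)
  have h1 := PGroups.mulAut_eq_one_of_fixed hQ H hCH a ha fun x hx => Subtype.ext (by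
    show c * (x : Y) * c⁻¹ = x
    rw [← mem_centralizer_iff.mp hcD (x : Y) (mem_map_of_mem Q.subtype hx), mul_inv_cancel_right])
  refine mem_centralizer_iff.mpr fun w hw => ?_
  have h2 : c * w * c⁻¹ = w := congrArg Subtype.val (MulEquiv.congr_fun h1 ⟨w, hw⟩)
  exact (mul_inv_eq_iff_eq_mul.mp h2).symm

variable {G : Type u} [Group G] [Finite G]

/-- The representation of `G ⧸ O_p(G)` on the dual of the Frattini quotient of `O_p(G)`. -/
noncomputable def layerRep (p : ℕ) [Fact p.Prime] (G : Type u) [Group G] [Finite G] :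
    G ⧸ Cfsg.pCore p G →* Module.End (LinRep.Coeff p) (LinRep.Sp (H71.layer p G) p) :=
  QuotientGroup.lift (Cfsg.pCore p G) ((LinRep.rep (H71.layer p G) p).comp (QuotientGroup.mk' (H71.phi p G)))
    fun w hw => (LinRep.rep_eq_one_iff (H71.layer p G) p H71.pow_eq_one_of_mem_layer _).mpr
      (Subgroup.le_centralizer _ (mem_map_of_mem _ hw))

theorem layerRep_injective (hs : Cfsg.IsPSolvable p G) (hK : Cfsg.pPrimeCore p G = ⊥) :
    Function.Injective (layerRep p G) := by
  refine (injective_iff_map_eq_one' (layerRep p G)).mpr fun v => ⟨fun hv => ?_, fun hv => by rw [hv, map_one]⟩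
  obtain ⟨w, rfl⟩ := QuotientGroup.mk_surjective v
  have h1 : w ∈ (H71.layer p G).comap (QuotientGroup.mk' (H71.phi p G)) :=
    H71.centralizer_layer_le hs hK ((LinRep.rep_eq_one_iff (H71.layer p G) p H71.pow_eq_one_of_mem_layer _).mp hv)
  rw [H71.comap_layer] at h1
  exact (QuotientGroup.eq_one_iff _).mpr h1

theorem layerRep_pow_apply (x : G) (i : ℕ) (f : LinRep.Sp (H71.layer p G) p) (u : H71.layer p G) :
    (layerRep p G ((x : G) : G ⧸ Cfsg.pCore p G) ^ i) f (Additive.ofMul u) =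
      f (Additive.ofMul ((MulAut.conjNormal (((x⁻¹ : G) : G ⧸ H71.phi p G) ^ i) : MulAut (H71.layer p G)) u)) := by
  rw [← map_pow, ← QuotientGroup.mk_pow]
  show LinRep.rep (H71.layer p G) p ((x ^ i : G) : G ⧸ H71.phi p G) f _ = _
  rw [LinRep.rep_apply, QuotientGroup.mk_pow, QuotientGroup.mk_inv, inv_pow]

theorem norm_eq {m : ℕ} (S : Sylow p G) (hexp : ∀ y ∈ (S : Subgroup G), y ^ p ^ m = 1) {x : G}
    (hx : x ∈ (S : Subgroup G)) (u : H71.layer p G) :
    ∏ i ∈ Finset.range (p ^ m), (MulAut.conjNormal ((x : G ⧸ H71.phi p G) ^ i) : MulAut (H71.layer p G)) u = 1 := by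
  obtain ⟨w, hw, hwu⟩ := u.2
  have h1 := H71.mul_pow_eq_prod_conj (H71.layer p G) (x : G ⧸ H71.phi p G) u (p ^ m)
  rw [← QuotientGroup.mk_pow, hexp x hx, QuotientGroup.mk_one, mul_one, ← hwu, QuotientGroup.mk'_apply,
    ← QuotientGroup.mk_mul, ← QuotientGroup.mk_pow,
    hexp _ ((S : Subgroup G).mul_mem (Cores.pCore_le_sylow S hw) hx), QuotientGroup.mk_one] at h1
  exact Subtype.ext h1.symm

theorem sum_eq_zero {m : ℕ} (S : Sylow p G) (hexp : ∀ y ∈ (S : Subgroup G), y ^ p ^ m = 1) {x : G}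
    (hx : x ∈ (S : Subgroup G)) :
    ∑ i ∈ Finset.range (p ^ m), layerRep p G (x : G ⧸ Cfsg.pCore p G) ^ i = 0 := by
  refine LinearMap.ext fun f => AddMonoidHom.ext fun v => ?_
  induction v using Additive.rec with
  | _ u =>
    simp only [LinearMap.sum_apply, AddMonoidHom.finsetSum_apply, LinearMap.zero_apply, AddMonoidHom.zero_apply]
    rw [Finset.sum_congr rfl fun i _ => layerRep_pow_apply x i f u, ← map_sum, ← ofMul_prod,
      norm_eq S hexp (inv_mem hx), ofMul_one, map_zero]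

theorem coeff_two_ne_zero (hp2 : p ≠ 2) : (2 : LinRep.Coeff p) ≠ 0 := fun h =>
  hp2 ((Nat.prime_dvd_prime_iff_eq (Fact.out : p.Prime) Nat.prime_two).mp
    ((CharP.cast_eq_zero_iff (LinRep.Coeff p) p 2).mp (by exact_mod_cast h)))

theorem coeff_prime_ne_zero {q : ℕ} (hq : q.Prime) (hqp : q ≠ p) : (q : LinRep.Coeff p) ≠ 0 := fun h =>
  hqp ((Nat.prime_dvd_prime_iff_eq (Fact.out : p.Prime) hq).mp
    ((CharP.cast_eq_zero_iff (LinRep.Coeff p) p q).mp h)).symm


end Cfsg.Agent.H71.LayerRep
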