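import Cfsg.Agent.H71.HallHigmanExact
import Cfsg.Agent.H71.LayerRep
import Cfsg.Agent.Cores.Fitting
import Cfsg.Agent.PGroups.Critical
import Cfsg.Agent.H78.SylowCount

/-!
Gross's bound on the 2-length: lifting a non-central involutory power from `G / O_{2',2}(G)`, and
the class two subgroup of odd order it acts on.
-/

set_option autoImplicit false
set_option linter.style.haveILetI false
set_option linter.unusedSectionVars false
set_option maxHeartbeats 1600000
open Cfsg

universe u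

namespace Cfsg.Agent.H71.GrossTwo

open Subgroup
open Coprime
open scoped commutatorElement

variable {G : Type u} [Group G]

theorem commutator_le_centralizer {A B U : Subgroup G} (hA : A ≤ normalizer (U : Set G))
    (hB : B ≤ centralizer (U : Set G)) : ⁅A, B⁆ ≤ centralizer (U : Set G) := by
  refine commutator_le.mpr fun a ha b hb => ?_
  rw [commutatorElement_def]
  refine mul_mem (mem_centralizer_iff.mpr fun v hv => ?_) (inv_mem (hB hb))
  have h1 := mem_centralizer_iff.mp (hB hb) (a⁻¹ * v * a) (Coprime.conj_mem' (hA ha) hv)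
  calc v * (a * b * a⁻¹) = a * (a⁻¹ * v * a * b) * a⁻¹ := by group
    _ = a * (b * (a⁻¹ * v * a)) * a⁻¹ := by rw [h1]
    _ = a * b * a⁻¹ * v := by group

theorem map_eq_of_sylow {r : ℕ} [Fact r.Prime] {H : Type*} [Group H] [Finite G] {N : Subgroup G}
    {R0 : Subgroup H} (hR0 : IsPGroup r R0) (f : G →* H) (hmap : N.map f = R0) (R1 : Sylow r N) :
    ((R1 : Subgroup N).map N.subtype).map f = R0 := by
  subst hmap
  let g : N →* N.map f := f.subgroupMap N
  have hg : Function.Surjective g := f.subgroupMap_surjective N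
  have htop : ((R1.mapSurjective hg : Sylow r (N.map f)) : Subgroup (N.map f)) = ⊤ :=
    ((R1.mapSurjective hg).is_maximal' (Q := ⊤) (hR0.of_equiv topEquiv.symm) le_top).symm
  rw [Sylow.coe_mapSurjective] at htop
  have := congrArg (fun K : Subgroup (N.map f) => K.map (N.map f).subtype) htop
  simp only [Subgroup.map_map] at this
  rw [← MonoidHom.range_eq_map, range_subtype] at this
  rw [Subgroup.map_map]
  exact this

variable [Finite G]

/-- Some odd prime power group of `B` is normalised by a two-power element moving it non-abelianly. -/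
theorem exists_moved {B : Type u} [Group B] [Finite B] [Group.IsSolvable B] (hO : Cfsg.pCore 2 B = ⊥)
    {k V : Type*} [Field k] [IsAlgClosed k] [AddCommGroup V] [Module k V] [FiniteDimensional k V]
    (h2k : (2 : k) = 0) {ρ : B →* Module.End k V} (hinj : Function.Injective ρ) {e : ℕ} (he : 0 < e) {x : B}
    (hx : x ^ 2 ^ e = 1) (hdeg : (ρ x - 1) ^ (2 ^ e - 1) = 0) (hy : x ^ 2 ^ (e - 1) ≠ 1) :
    ∃ (r : ℕ) (R0 : Subgroup B), r.Prime ∧ r ≠ 2 ∧ IsPGroup r R0 ∧ x ∈ normalizer (R0 : Set B) ∧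
      ⁅⁅R0, zpowers (x ^ 2 ^ (e - 1))⁆, ⁅R0, zpowers (x ^ 2 ^ (e - 1))⁆⁆ ≠ ⊥ := by
  by_contra hcon
  push Not at hcon
  haveI : Fact (Nat.Prime 2) := ⟨Nat.prime_two⟩
  refine hy (LayerRep.eq_one_of_centralizes_invariant (p := 2) Cores.isPSolvable_of_isSolvable hO
    (A := zpowers x) ?_ (pow_mem (mem_zpowers x) _) fun q hq hq2 Q hQ hxQ => ?_)
  · refine IsPGroup.of_card (n := ?_) ?_
    exact Classical.choose ((Nat.dvd_prime_pow Nat.prime_two).mp (orderOf_dvd_of_pow_eq_one hx))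
    rw [Nat.card_zpowers]
    exact (Classical.choose_spec ((Nat.dvd_prime_pow Nat.prime_two).mp (orderOf_dvd_of_pow_eq_one hx))).2
  · set y := x ^ 2 ^ (e - 1) with hydef
    set R2 := ⁅Q, zpowers y⁆ with hR2
    have hxn : x ∈ normalizer (Q : Set B) := hxQ (mem_zpowers x)
    have hyn : zpowers y ≤ normalizer (Q : Set B) := zpowers_le.mpr (pow_mem hxn _)
    have hR2Q : R2 ≤ Q := commutator_le_left_of_normalizer hyn
    have hxy : x ∈ normalizer ((zpowers y : Subgroup B) : Set B) := by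
      refine centralizer_le_normalizer _ (mem_centralizer_iff.mpr fun a ha => ?_)
      obtain ⟨i, rfl⟩ := mem_zpowers_iff.mp ha
      exact (((Commute.refl x).pow_left _).zpow_left i).eq
    have hab : ∀ a ∈ R2, ∀ b ∈ R2, Commute a b := fun a ha b hb => by
      rw [← commutatorElement_eq_one_iff_commute, ← Subgroup.mem_bot, ← hcon q Q hq.out hq2 hQ hxn]
      exact commutator_mem_commutator ha hb
    have hqk : (q : k) ≠ 0 := by
      obtain ⟨j, hj⟩ := hq.out.odd_of_ne_two hq2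
      rw [hj, Nat.cast_add, Nat.cast_mul, Nat.cast_ofNat, h2k, zero_mul, zero_add, Nat.cast_one]
      exact one_ne_zero
    have h1 := Exact.hall_higman_B_exact (s := q) (p := 2) hq2 (by exact_mod_cast h2k) hqk hinj he R2
      (hQ.to_le hR2Q) x (PQTower.mem_normalizer_comm hxn hxy) hx hdeg
      (Nat.sub_lt (pow_pos two_pos e) one_pos) (Or.inr hab)
    have hyp : y ^ 2 = 1 := by rw [hydef, ← pow_mul, ← pow_succ, Nat.sub_add_cancel he, hx]
    obtain ⟨jQ, hjQ⟩ := IsPGroup.iff_card.mp hQ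
    have hcop : (Nat.card (zpowers y)).Coprime (Nat.card Q) := by
      rw [Nat.card_zpowers, hjQ]
      exact Nat.Coprime.coprime_dvd_left (orderOf_dvd_of_pow_eq_one hyp)
        (((Nat.coprime_primes Nat.prime_two hq.out).mpr (Ne.symm hq2)).pow_right jQ)
    exact (le_centralizer_of_commutator_le_centralizer hyn hcop (le_centralizer_iff.mp h1)) (mem_zpowers y)

/-- The lifted configuration. -/
structure Data (G : Type u) [Group G] (e : ℕ) (S0 R : Subgroup G) (t : G) (r : ℕ) : Prop where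
  prime : r.Prime
  ne_two : r ≠ 2
  two : IsPGroup 2 S0
  odd : IsPGroup r R
  rs : R ≤ normalizer (S0 : Set G)
  ts : t ∈ normalizer (S0 : Set G)
  tr : t ∈ normalizer (R : Set G)
  gen : R ≤ ⁅R, zpowers (t ^ 2 ^ (e - 1))⁆
  tord : ∀ P : Sylow 2 G, t ∈ (P : Subgroup G) → t ^ 2 ^ e = 1
  tmem : ∃ P : Sylow 2 G, t ∈ (P : Subgroup G)
  ne_bot : ⁅S0, ⁅R, R⁆⁆ ≠ ⊥

theorem exists_data [Group.IsSolvable G] {e : ℕ} (he : 1 ≤ e)
    (hexp : ∀ P : Sylow 2 G, ∀ x ∈ (P : Subgroup G), x ^ 2 ^ e = 1) (P : Sylow 2 G) {x : G}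
    (hx : x ∈ (P : Subgroup G)) (hy : x ^ 2 ^ (e - 1) ∉ Cfsg.pPrimePCore 2 G) :
    ∃ (S0 R : Subgroup G) (t : G) (r : ℕ), Data G e S0 R t r := by
  haveI : Fact (Nat.Prime 2) := ⟨Nat.prime_two⟩
  let π := QuotientGroup.mk' (Cfsg.pPrimeCore 2 G)
  let π' := QuotientGroup.mk' (Cfsg.pCore 2 (G ⧸ Cfsg.pPrimeCore 2 G))
  let φ := π'.comp π
  have hπ : Function.Surjective π := QuotientGroup.mk'_surjective _
  haveI : Group.IsSolvable (G ⧸ Cfsg.pPrimeCore 2 G) := solvable_of_surjective hπ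
  haveI : Group.IsSolvable ((G ⧸ Cfsg.pPrimeCore 2 G) ⧸ Cfsg.pCore 2 (G ⧸ Cfsg.pPrimeCore 2 G)) :=
    solvable_of_surjective (QuotientGroup.mk'_surjective _)
  have hK : Cfsg.pPrimeCore 2 (G ⧸ Cfsg.pPrimeCore 2 G) = ⊥ := Cores.pPrimeCore_quotient_pPrimeCore
  have hker : φ.ker = Cfsg.pPrimePCore 2 G := by
    rw [show φ.ker = π'.ker.comap π from (MonoidHom.comap_ker _ _).symm, QuotientGroup.ker_mk']
    rfl
  set M := Cfsg.pPrimePCore 2 G with hM
  haveI : M.Normal := hker ▸ φ.normal_ker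
  have hxe := hexp P x hx
  have hsum := LayerRep.sum_eq_zero (p := 2) (P.mapSurjective hπ) (fun v hv => by
    rw [Sylow.coe_mapSurjective] at hv
    obtain ⟨w, hw, rfl⟩ := hv
    rw [← map_pow, hexp P w hw, map_one]) (x := π x) (mem_map_of_mem π hx)
  have h2k : (2 : LinRep.Coeff 2) = 0 := by exact_mod_cast CharP.cast_eq_zero (LinRep.Coeff 2) 2
  rw [Exact.sum_pow_eq (by exact_mod_cast h2k)] at hsum
  have hyb : φ x ^ 2 ^ (e - 1) ≠ 1 := fun h => hy (by
    rw [← hker, MonoidHom.mem_ker, map_pow]; exact h)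
  obtain ⟨r, R0, hr, hr2, hR0, hxR0, hne⟩ := exists_moved Cores.pCore_quotient_pCore h2k
    (LayerRep.layerRep_injective Cores.isPSolvable_of_isSolvable hK) (e := e) (by omega) (x := φ x)
    (by rw [← map_pow, hxe, map_one]) hsum hyb
  haveI : Fact r.Prime := ⟨hr⟩
  set S0 := (P : Subgroup G) ⊓ M with hS0
  have hS0p : IsPGroup 2 S0 := P.isPGroup'.to_le inf_le_left
  obtain ⟨Q, hQ⟩ := H78.exists_sylow_inf_normal M P
  have hfr : normalizer (S0 : Set G) ⊔ M = ⊤ := by
    rw [← Sylow.normalizer_sup_eq_top Q, hQ]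
  set N := normalizer (S0 : Set G) ⊓ R0.comap φ with hN
  have hNmap : N.map φ = R0 := by
    refine le_antisymm (map_le_iff_le_comap.mpr inf_le_right) fun v hv => ?_
    obtain ⟨g, rfl⟩ : ∃ g, φ g = v := ((QuotientGroup.mk'_surjective _).comp hπ) v
    obtain ⟨a, ha, m, hm, rfl⟩ := mem_sup_of_normal_right.mp (hfr ▸ mem_top g : g ∈ normalizer (S0 : Set G) ⊔ M)
    have hφm : φ m = 1 := by rw [← MonoidHom.mem_ker, hker]; exact hm
    refine ⟨a, ⟨ha, ?_⟩, by rw [map_mul, hφm, mul_one]⟩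
    show φ a ∈ R0
    rwa [map_mul, hφm, mul_one] at hv
  let R1s : Sylow r N := default
  set R1 := (R1s : Subgroup N).map N.subtype with hR1
  have hR1p : IsPGroup r R1 := R1s.isPGroup'.map _
  have hR1N : R1 ≤ N := map_subtype_le _
  have hR1map : R1.map φ = R0 := map_eq_of_sylow hR0 φ hNmap R1s
  have hxS0 : x ∈ normalizer (S0 : Set G) := mem_normalizer_iff.mpr fun z =>
    and_congr (mem_normalizer_iff.mp (le_normalizer hx) z)
      (mem_normalizer_iff.mp (le_normalizer_of_normal (mem_top x)) z)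
  have hxN : x ∈ normalizer (N : Set G) := mem_normalizer_iff.mpr fun z => and_congr
    (mem_normalizer_iff.mp (le_normalizer hxS0) z) (by
      show φ z ∈ R0 ↔ φ (x * z * x⁻¹) ∈ R0
      rw [map_mul, map_mul, map_inv]
      exact mem_normalizer_iff.mp hxR0 _)
  -- move `x` by an element of `N ∩ M` to normalise `R1`
  let σ : MulAut N := Subgroup.normalizerMonoidHom N ⟨x, hxN⟩
  obtain ⟨m, hm⟩ := MulAction.exists_smul_eq N R1s (σ • R1s)
  have hmR : ((m : G)⁻¹ * x) ∈ normalizer (R1 : Set G) := by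
    have h1 : R1.map (MulAut.conj x).toMonoidHom = R1.map (MulAut.conj (m : G)).toMonoidHom := by
      have h2 : ((R1s : Subgroup N).map (MulAut.conj m).toMonoidHom).map N.subtype =
          ((R1s : Subgroup N).map σ.toMonoidHom).map N.subtype :=
        congrArg (fun K : Sylow r N => (K : Subgroup N).map N.subtype) hm
      rw [Subgroup.map_map, Subgroup.map_map] at h2
      rw [hR1, Subgroup.map_map, Subgroup.map_map]
      exact h2.symm
    refine Coprime.mem_normalizer_of_map_conj ?_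
    rw [map_mul, map_inv]
    have h3 := congrArg (fun K => K.map (MulAut.conj (m : G))⁻¹.toMonoidHom) h1
    simp only [Subgroup.map_map] at h3
    refine h3.trans ?_
    conv_rhs => rw [← Subgroup.map_id R1]
    congr 1
    exact MonoidHom.ext fun g => MulEquiv.symm_apply_apply (MulAut.conj (m : G)) g
  obtain ⟨r1, hr1, hr1m⟩ : ∃ r1 ∈ R1, φ r1 = φ (m : G) := by
    have hh : φ (m : G) ∈ R1.map φ := hR1map.ge m.2.2
    exact hh
  set x' := r1 * ((m : G)⁻¹ * x) with hx'
  have hx'R : x' ∈ normalizer (R1 : Set G) := mul_mem (le_normalizer hr1) hmR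
  have hx'S : x' ∈ normalizer (S0 : Set G) := mul_mem (hR1N hr1).1 (mul_mem (inv_mem m.2.1) hxS0)
  have hx'φ : φ x' = φ x := by rw [hx', map_mul, hr1m, map_mul, map_inv, mul_inv_cancel_left]
  -- the two-part
  obtain ⟨i, b, hb, hob⟩ := Nat.exists_eq_two_pow_mul_odd (orderOf_pos x').ne'
  have hcb : Nat.Coprime b (2 ^ e) := (Nat.coprime_two_right.mpr hb).pow_right e
  obtain ⟨a, ha0, ha1⟩ := Nat.chineseRemainder hcb 0 1
  set t := x' ^ a with ht
  have htφ : φ t = φ x := by
    rw [ht, map_pow, hx'φ, ← map_pow]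
    congr 1
    conv_rhs => rw [← pow_one x]
    exact pow_eq_pow_iff_modEq.mpr (Nat.ModEq.of_dvd (orderOf_dvd_of_pow_eq_one hxe) ha1)
  have ht2 : t ^ 2 ^ i = 1 := by
    rw [ht, ← pow_mul]
    refine orderOf_dvd_iff_pow_eq_one.mp ?_
    rw [hob, mul_comm]
    exact mul_dvd_mul_right (Nat.modEq_zero_iff_dvd.mp ha0) _
  obtain ⟨P2, hP2⟩ := IsPGroup.exists_le_sylow (p := 2) (P := zpowers t) (by
    obtain ⟨j, -, hj⟩ := (Nat.dvd_prime_pow Nat.prime_two).mp (orderOf_dvd_of_pow_eq_one ht2)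
    exact IsPGroup.of_card (n := j) (by rw [Nat.card_zpowers, hj]))
  have hte : t ^ 2 ^ e = 1 := hexp P2 t (hP2 (mem_zpowers t))
  set y := t ^ 2 ^ (e - 1) with hydef
  set R := ⁅R1, zpowers y⁆ with hR
  have htR1 : t ∈ normalizer (R1 : Set G) := pow_mem hx'R a
  have hyR1 : zpowers y ≤ normalizer (R1 : Set G) := zpowers_le.mpr (pow_mem htR1 _)
  have hRR1 : R ≤ R1 := commutator_le_left_of_normalizer hyR1
  haveI : Group.IsNilpotent R1 := hR1p.isNilpotent
  have hty : t ∈ normalizer ((zpowers y : Subgroup G) : Set G) := by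
    refine centralizer_le_normalizer _ (mem_centralizer_iff.mpr fun c hc => ?_)
    obtain ⟨j, rfl⟩ := mem_zpowers_iff.mp hc
    exact (((Commute.refl t).pow_left _).zpow_left j).eq
  have hRφ : R.map φ = ⁅R0, zpowers (φ x ^ 2 ^ (e - 1))⁆ := by
    rw [hR, map_commutator, hR1map, MonoidHom.map_zpowers, hydef, map_pow, htφ]
  refine ⟨S0, R, t, r, hr, hr2, hS0p, hR1p.to_le hRR1, hRR1.trans (hR1N.trans inf_le_left), pow_mem hx'S a,
    PQTower.mem_normalizer_comm htR1 hty, ?_, fun _ _ => hte, ⟨P2, hP2 (mem_zpowers t)⟩, fun hbot => ?_⟩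
  · obtain ⟨jR, hjR⟩ := IsPGroup.iff_card.mp hR1p
    refine le_of_eq (Coprime.commutator_commutator_eq hyR1 ?_ (Or.inr inferInstance)).symm
    rw [Nat.card_zpowers, hjR]
    exact Nat.Coprime.coprime_dvd_left
      (orderOf_dvd_of_pow_eq_one (x := y) (n := 2)
        (by rw [hydef, ← pow_mul, ← pow_succ, Nat.sub_add_cancel he, hte]))
      (((Nat.coprime_primes Nat.prime_two hr).mpr (Ne.symm hr2)).pow_right jR)
  · refine hne ?_
    rw [← hRφ, ← map_commutator, Subgroup.map_eq_bot_iff, hker]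
    have hS0map : S0.map π = Cfsg.pCore 2 (G ⧸ Cfsg.pPrimeCore 2 G) := by
      rw [hS0, ← hQ]
      exact map_eq_of_sylow Cores.pCore_isPGroup π
        (map_comap_eq_self_of_surjective hπ _) Q
    have h1 := congrArg (fun K => K.map π) hbot
    simp only [map_commutator, Subgroup.map_bot, hS0map, commutator_eq_bot_iff_le_centralizer] at h1
    refine map_le_iff_le_comap.mp ?_
    show (⁅R, R⁆).map π ≤ Cfsg.pCore 2 (G ⧸ Cfsg.pPrimeCore 2 G)
    rw [map_commutator]
    exact (Subgroup.le_centralizer_iff.mp h1).trans (Cores.centralizer_pCore_le Cores.isPSolvable_of_isSolvable hK)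

/-- A normal class two subgroup of odd order not centralised by a nontrivial two-group. -/
theorem exists_classTwo [Group.IsSolvable G] (hO : Cfsg.pCore 2 G = ⊥) {S1 : Subgroup G}
    (hS1 : IsPGroup 2 S1) (hne : S1 ≠ ⊥) :
    ∃ (q : ℕ) (D : Subgroup G), q.Prime ∧ q ≠ 2 ∧ D.Normal ∧ IsPGroup q D ∧
      (∀ a ∈ D, ∀ b ∈ D, ⁅a, b⁆ ∈ H71.zc D) ∧ (∀ a ∈ D, a ^ q ∈ H71.zc D) ∧
      ¬ S1 ≤ centralizer (D : Set G) := by
  haveI : Fact (Nat.Prime 2) := ⟨Nat.prime_two⟩
  by_contra hcon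
  push Not at hcon
  have hcent : ∀ q : ℕ, q.Prime → Cfsg.pCore q G ≤ centralizer (S1 : Set G) := by
    intro q hq
    rcases eq_or_ne q 2 with rfl | hq2
    · rw [hO]; exact bot_le
    haveI : Fact q.Prime := ⟨hq⟩
    set Q := Cfsg.pCore q G with hQ
    have hQp : IsPGroup q Q := Cores.pCore_isPGroup
    obtain ⟨H, hHc, hHfr, hHcomm, hHC⟩ := PGroups.exists_critical hQp
    haveI := hHc
    haveI : (Cfsg.pCore q G).Normal := inferInstance
    haveI hDn : (H.map Q.subtype).Normal := normalizer_eq_top_iff.mp (eq_top_iff.mpr fun g _ =>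
      H71.le_normalizer_map_of_characteristic (B := ⊤) H le_normalizer_of_normal (mem_top g))
    have hzcH : ∀ w : Q, w ∈ H ⊓ centralizer (H : Set Q) → (w : G) ∈ H71.zc (H.map Q.subtype) := by
      intro w hw
      refine ⟨mem_map_of_mem _ hw.1, mem_centralizer_iff.mpr ?_⟩
      rintro _ ⟨v, hv, rfl⟩
      exact congrArg Subtype.val (mem_centralizer_iff.mp hw.2 v hv)
    have hc := hcon q (H.map Q.subtype) hq hq2 hDn ((hQp.to_subgroup H).map _)
      (by
        rintro _ ⟨a, ha, rfl⟩ _ ⟨b, hb, rfl⟩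
        exact hzcH ⁅a, b⁆ (hHcomm (commutator_mem_commutator ha (mem_top b))))
      (by
        rintro _ ⟨a, ha, rfl⟩
        exact hzcH (a ^ q) ⟨pow_mem ha q,
          hHfr ⟨(⟨a, ha⟩ : H) ^ q, PGroups.pow_mem_frattini (hQp.to_subgroup H) _, rfl⟩⟩)
    intro w hw
    refine mem_centralizer_iff.mpr fun s hs => ?_
    have hsQ : s ∈ normalizer (Q : Set G) := le_normalizer_of_normal (mem_top s)
    have hb : Nat.Coprime (orderOf (Subgroup.normalizerMonoidHom Q ⟨s, hsQ⟩)) q := by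
      obtain ⟨j, hj⟩ := hS1 ⟨s, hs⟩
      refine Nat.Coprime.coprime_dvd_left ((orderOf_map_dvd _ _).trans
        (by rw [Subgroup.orderOf_mk])) ?_
      exact Nat.Coprime.coprime_dvd_left (orderOf_dvd_of_pow_eq_one (congrArg Subtype.val hj))
        (((Nat.coprime_primes Nat.prime_two hq).mpr (Ne.symm hq2)).pow_left j)
    have h1 := PGroups.mulAut_eq_one_of_fixed hQp H hHC _ hb fun v hv => Subtype.ext (by
      show s * (v : G) * s⁻¹ = v
      rw [← mem_centralizer_iff.mp (hc hs) (v : G) (mem_map_of_mem Q.subtype hv), mul_inv_cancel_right])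
    have h2 : s * w * s⁻¹ = w := congrArg Subtype.val (MulEquiv.congr_fun h1 ⟨w, hw⟩)
    exact mul_inv_eq_iff_eq_mul.mp h2
  have hF : Cfsg.fittingSubgroup G ≤ centralizer (S1 : Set G) ⊓ Cfsg.pPrimeCore 2 G := by
    rw [Cores.iSup_pCore_eq_fittingSubgroup]
    refine iSup_le fun q => le_inf (hcent q q.2) ?_
    rcases eq_or_ne (q : ℕ) 2 with h | h
    · rw [h, hO]; exact bot_le
    · haveI : Fact (q : ℕ).Prime := ⟨q.2⟩
      obtain ⟨j, hj⟩ := IsPGroup.iff_card.mp (Cores.pCore_isPGroup (p := (q : ℕ)) (G := G))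
      refine Cores.le_pPrimeCore ?_
      rw [hj]
      exact ((Nat.coprime_primes q.2 Nat.prime_two).mpr h).pow_left j
  have h1 : S1 ≤ Cfsg.pPrimeCore 2 G :=
    (le_centralizer_iff.mp (hF.trans inf_le_left)).trans
      (Cores.centralizer_fittingSubgroup_le.trans (hF.trans inf_le_right))
  obtain ⟨j, hj⟩ := IsPGroup.iff_card.mp hS1
  refine hne (Subgroup.card_eq_one.mp (Nat.eq_one_of_dvd_coprimes ?_ (card_dvd_of_le h1) dvd_rfl))
  rw [hj]
  exact Cores.coprime_card_pPrimeCore.pow_right j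

end Cfsg.Agent.H71.GrossTwo
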