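import Mathlib
import Cfsg.Agent.PGroups.Basic
import Cfsg.Agent.Coprime.Centralize
import Cfsg.Agent.Cores.Constrained

/-!
The abelian case of Hall–Higman Theorem B: if `x` has order `p ^ n` modulo the kernel and moves an
abelian `p'`-group acting faithfully, the sum `1 + x + ⋯ + x ^ (p ^ n - 1)` is nonzero.
-/

set_option autoImplicit false
set_option linter.style.haveILetI false

namespace Cfsg.Agent.H71

open Subgroup

section Core

/-- A `p`-subgroup centralising `O_{p'}` of a `p`-solvable group with trivial `O_p` is trivial. -/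
theorem eq_bot_of_centralizes {G : Type*} [Group G] [Finite G] {p : ℕ} [Fact p.Prime]
    (hs : Cfsg.IsPSolvable p G) (hO : Cfsg.pCore p G = ⊥) {A : Subgroup G} (hA : IsPGroup p A)
    (h : A ≤ centralizer (Cfsg.pPrimeCore p G : Set G)) : A = ⊥ := by
  have hp := (Fact.out : p.Prime)
  set C := centralizer (Cfsg.pPrimeCore p G : Set G) with hC
  haveI : C.Normal := inferInstance
  have hpC : Cfsg.pCore p C = ⊥ := by
    have h1 := Cores.map_pCore_le_of_normal (p := p) C
    rw [hO, le_bot_iff, Subgroup.map_eq_bot_iff_of_injective _ C.subtype_injective] at h1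
    exact h1
  set Z := Cfsg.pPrimeCore p C with hZ
  have hZc : ∀ z ∈ Z, ∀ g : C, g * z = z * g := fun z hz g =>
    Subtype.ext (Subgroup.mem_centralizer_iff.mp g.2 z
      (Cores.map_pPrimeCore_le_of_normal C (Subgroup.mem_map_of_mem C.subtype hz))).symm
  have hQ : Subsingleton (C ⧸ Z) := by
    by_contra hne
    haveI : Nontrivial (C ⧸ Z) := not_subsingleton_iff_nontrivial.mp hne
    apply Cores.pCore_ne_bot_of_pPrimeCore_eq_bot
      (Cores.isPSolvable_quotient (Cores.isPSolvable_subgroup hs C) Z) Cores.pPrimeCore_quotient_pPrimeCore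
    set D := Cfsg.pPrimePCore p C with hD
    obtain ⟨S⟩ : Nonempty (Sylow p D) := inferInstance
    have hmap := Cores.map_sylow_pPrimePCore S
    haveI hSn : (S : Subgroup D).Normal := Subgroup.Normal.mk fun s hs g => by
      have hg : QuotientGroup.mk' Z (g : C) ∈ ((S : Subgroup D).map D.subtype).map (QuotientGroup.mk' Z) :=
        hmap.symm ▸ g.2
      obtain ⟨_, ⟨t, ht, rfl⟩, htg⟩ := hg
      obtain ⟨z, hz, hz'⟩ := (QuotientGroup.mk'_eq_mk' Z).mp htg
      have e : g * s * g⁻¹ = t * s * t⁻¹ := Subtype.ext (by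
        show (g : C) * (s : C) * (g : C)⁻¹ = (t : C) * (s : C) * (t : C)⁻¹
        rw [← hz']
        show (t : C) * z * (s : C) * ((t : C) * z)⁻¹ = _
        rw [mul_assoc (t : C) z, ← hZc z hz (s : C)]
        group)
      rw [e]
      exact (S : Subgroup D).mul_mem ((S : Subgroup D).mul_mem ht hs) ((S : Subgroup D).inv_mem ht)
    have h2 : (S : Subgroup D).map D.subtype ≤ Cfsg.pCore p C :=
      (Subgroup.map_mono (Cores.le_pCore S.isPGroup')).trans (Cores.map_pCore_le_of_normal D)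
    rw [hpC, le_bot_iff] at h2
    rw [h2, Subgroup.map_bot] at hmap
    exact hmap.symm
  have hco : (Nat.card C).Coprime p := by
    have hZtop : Z = ⊤ := eq_top_iff.mpr fun c _ => (QuotientGroup.eq_one_iff c).mp (Subsingleton.elim _ _)
    have h0 := Cores.coprime_card_pPrimeCore (p := p) (G := C)
    rw [← hZ, hZtop, Subgroup.card_top] at h0
    exact h0
  obtain ⟨k, hk⟩ := IsPGroup.iff_card.mp hA
  refine Subgroup.eq_bot_of_card_eq A (Nat.eq_one_of_dvd_coprimes (hco.coprime_dvd_left (Subgroup.card_dvd_of_le h))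
    dvd_rfl ?_)
  rcases Nat.eq_zero_or_pos k with rfl | hkpos
  · rw [hk, pow_zero]; exact one_dvd _
  · exfalso
    have hpd : p ∣ Nat.card A := hk ▸ dvd_pow_self p hkpos.ne'
    exact hp.one_lt.ne' (Nat.eq_one_of_dvd_coprimes hco (hpd.trans (Subgroup.card_dvd_of_le h)) dvd_rfl)

end Core

section Ring

variable {R : Type*} [Ring R] [Finite R] {p : ℕ} [hp : Fact p.Prime]
variable {Q : Type*} [Group Q] [Finite Q]

omit [Finite R] in
/-- Independence of the powers of `x` over a commutative semisimple algebra that it permutes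
without small orbits. -/
theorem orbit_sum_ne_zero (hchar : (p : R) = 0) (ρ : Q →* R) (hcomm : ∀ a b : Q, ρ a * ρ b = ρ b * ρ a)
    (hcop : (Nat.card Q).Coprime p) (x : R) (α : Q ≃* Q) (hx : ∀ q, x * ρ q = ρ (α q) * x) {n : ℕ}
    (hper : ∀ q, ρ ((α ^ p ^ n) q) = ρ q) (hmove : ∃ q, ρ ((α ^ p ^ (n - 1)) q) ≠ ρ q) :
    ∑ i : Fin (p ^ n), x ^ (i : ℕ) ≠ 0 := by
  classical
  intro hsum
  let E : Subring R := Subring.closure (Set.range ρ)
  letI : CommRing E :=
    { (inferInstance : Ring E) with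
      mul_comm := fun a b => (Subring.isMulCommutative_closure (s := Set.range ρ) (fun a ⟨u, hu⟩ b ⟨v, hv⟩ => by
        rw [← hu, ← hv]; exact hcomm u v)).is_comm.comm a b }
  let e : Q → E := fun q => ⟨ρ q, Subring.subset_closure ⟨q, rfl⟩⟩
  have hpE : (p : E) = 0 := Subtype.ext (by simpa using hchar)
  have hne : Nontrivial R := by
    obtain ⟨q, hq⟩ := hmove
    exact ⟨_, _, hq⟩
  haveI : CharP E p := (CharP.charP_iff_prime_eq_zero hp.out).mpr hpE
  -- `E` is reduced
  set m := Nat.totient (Nat.card Q) with hm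
  have hm0 : m ≠ 0 := (Nat.totient_pos.mpr Nat.card_pos).ne'
  have hgenpow : ∀ q : Q, q ^ p ^ m = q := by
    intro q
    have h1 : p ^ m ≡ 1 [MOD Nat.card Q] := Nat.ModEq.pow_totient hcop.symm
    calc q ^ p ^ m = q ^ (p ^ m % Nat.card Q) := pow_eq_pow_mod _ (pow_card_eq_one')
      _ = q ^ (1 % Nat.card Q) := by rw [h1]
      _ = q ^ 1 := (pow_eq_pow_mod 1 (pow_card_eq_one')).symm
      _ = q := pow_one q
  have hfix : ∀ a : E, a ^ p ^ m = a := by
    intro a
    obtain ⟨a, ha⟩ := a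
    induction ha using Subring.closure_induction with
    | mem y hy =>
      obtain ⟨q, rfl⟩ := hy
      exact Subtype.ext (by rw [SubmonoidClass.coe_pow, ← map_pow, hgenpow])
    | zero => exact Subtype.ext (by simp [zero_pow (pow_ne_zero m hp.out.ne_zero)])
    | one => exact Subtype.ext (by simp)
    | add u v hu hv hu' hv' =>
      have h := add_pow_char_pow (R := E) (p := p) (n := m) ⟨u, hu⟩ ⟨v, hv⟩
      rw [hu', hv'] at h
      exact h
    | neg u hu hu' =>
      have h := congrArg (fun t : E => -t) hu'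
      calc (-⟨u, hu⟩ : E) ^ p ^ m = (-1 : E) ^ p ^ m * (⟨u, hu⟩ : E) ^ p ^ m := neg_pow _ _
        _ = -⟨u, hu⟩ := by
          rw [neg_one_pow_char_pow, hu', neg_one_mul]
    | mul u v hu hv hu' hv' =>
      show (⟨u, hu⟩ * ⟨v, hv⟩ : E) ^ p ^ m = ⟨u, hu⟩ * ⟨v, hv⟩
      rw [mul_pow, hu', hv']
  haveI : IsReduced E := ⟨fun a ⟨k, hk⟩ => by
    have h1 : ∀ t : ℕ, a ^ (p ^ m) ^ t = a := by
      intro t
      induction t with
      | zero => simp
      | succ t ih => rw [pow_succ, pow_mul, ih, hfix]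
    rw [← h1 k]
    exact pow_eq_zero_of_le (Nat.lt_pow_self (Nat.one_lt_pow hm0 hp.out.one_lt)).le hk⟩
  -- a prime not containing the motion
  obtain ⟨q₀, hq₀⟩ := hmove
  set σ := α ^ p ^ (n - 1) with hσ
  obtain ⟨P, hP, hPd⟩ : ∃ P : Ideal E, P.IsPrime ∧ e (σ q₀) - e q₀ ∉ P := by
    by_contra h
    push Not at h
    have hmem : e (σ q₀) - e q₀ ∈ nilradical E := by
      rw [nilradical_eq_sInf, Submodule.mem_sInf]
      exact fun P hP => h P hP
    exact hq₀ (congrArg Subtype.val (sub_eq_zero.mp (mem_nilradical.mp hmem).eq_zero))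
  -- only trivial shifts fix the character
  have hshift : ∀ j : Fin (p ^ n), (j : ℕ) ≠ 0 → ∃ b : Q, e b - e ((α ^ (j : ℕ)) b) ∉ P := by
    intro j hj
    by_contra h
    push Not at h
    have hmul : ∀ t : ℕ, ∀ q, e q - e ((α ^ (t * (j : ℕ))) q) ∈ P := by
      intro t
      induction t with
      | zero => intro q; simp
      | succ t ih =>
        intro q
        rw [show (t + 1) * (j : ℕ) = (j : ℕ) + t * j by ring, pow_add, MulAut.mul_apply]
        have := P.add_mem (ih q) (h ((α ^ (t * (j : ℕ))) q))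
        rwa [sub_add_sub_cancel] at this
    have hperm : ∀ s : ℕ, ∀ q, ρ ((α ^ (p ^ n * s)) q) = ρ q := by
      intro s
      induction s with
      | zero => intro q; simp
      | succ s ih => intro q; rw [Nat.mul_succ, pow_add, MulAut.mul_apply, ih, hper]
    have hn0 : n ≠ 0 := by
      rintro rfl
      have h2 : (j : ℕ) < 1 := by simpa using j.2
      omega
    obtain ⟨t, s, hts⟩ : ∃ t s : ℕ, t * (j : ℕ) = p ^ (n - 1) + p ^ n * s := by
      obtain ⟨a, ha1, ha2⟩ := (Nat.dvd_prime_pow hp.out).mp (Nat.gcd_dvd_right (j : ℕ) (p ^ n))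
      have han : a ≤ n - 1 := by
        by_contra hlt
        have : p ^ n ∣ (j : ℕ) := by
          have h := Nat.gcd_dvd_left (j : ℕ) (p ^ n)
          rw [ha2, show a = n by omega] at h
          exact h
        exact absurd (Nat.le_of_dvd (Nat.pos_of_ne_zero hj) this) (not_le.mpr j.2)
      have hpos : 1 < p ^ n := Nat.one_lt_pow hn0 hp.out.one_lt
      have hdiv : (j : ℕ).gcd (p ^ n) ∣ p ^ (n - 1) := ha2 ▸ pow_dvd_pow p han
      obtain ⟨c, hc⟩ := hdiv
      obtain ⟨t₀, ht₀⟩ : ∃ t₀ : ℕ, ∃ s₀ : ℕ, t₀ * (j : ℕ) = (j : ℕ).gcd (p ^ n) + p ^ n * s₀ := by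
        rcases Nat.lt_or_ge ((j : ℕ).gcd (p ^ n)) (p ^ n) with hlt | hge
        · obtain ⟨t₀, -, ht₀⟩ := Nat.exists_mul_mod_eq_gcd hlt
          exact ⟨t₀, (j : ℕ) * t₀ / p ^ n, by rw [mul_comm t₀, ← ht₀, Nat.mod_add_div]⟩
        · exfalso
          rw [ha2] at hge
          have : p ^ a < p ^ n := Nat.pow_lt_pow_right hp.out.one_lt (by omega)
          omega
      obtain ⟨s₀, hs₀⟩ := ht₀
      exact ⟨c * t₀, c * s₀, by rw [mul_assoc, hs₀, hc]; ring⟩
    apply hPd
    have h1 := hmul t q₀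
    have h2 : e ((α ^ (t * (j : ℕ))) q₀) = e (σ q₀) := by
      apply Subtype.ext
      show ρ _ = ρ _
      rw [hts, add_comm, pow_add, MulAut.mul_apply, hperm]
    rw [h2] at h1
    rw [← neg_sub]
    exact P.neg_mem h1
  choose b hb using hshift
  -- kill all terms but the first
  have key : ∀ T : Finset (Fin (p ^ n)), (∀ j ∈ T, (j : ℕ) ≠ 0) →
      ∃ a : Fin (p ^ n) → E, (∑ i, (a i : R) * x ^ (i : ℕ) = 0) ∧ (∀ j ∈ T, a j = 0) ∧
        a ⟨0, pow_pos hp.out.pos n⟩ ∉ P := by
    intro T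
    induction T using Finset.induction_on with
    | empty => exact fun _ => ⟨fun _ => 1, by simpa using hsum, by simp, fun h => hP.ne_top ((Ideal.eq_top_iff_one P).mpr h)⟩
    | @insert j T _ ih =>
      intro hT
      obtain ⟨a, ha, haT, ha0⟩ := ih fun k hk => hT k (Finset.mem_insert_of_mem hk)
      set c := b j (hT j (Finset.mem_insert_self j T))
      refine ⟨fun i => a i * (e ((α ^ (i : ℕ)) c) - e ((α ^ (j : ℕ)) c)), ?_, ?_, ?_⟩
      · have hxi : ∀ (i : ℕ) q, x ^ i * ρ q = ρ ((α ^ i) q) * x ^ i := by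
          intro i
          induction i with
          | zero => intro q; simp
          | succ i ih =>
            intro q
            rw [pow_succ, mul_assoc, hx, ← mul_assoc, ih, pow_succ α, MulAut.mul_apply, mul_assoc]
        have h1 : ∑ i, (a i : R) * (ρ ((α ^ (i : ℕ)) c)) * x ^ (i : ℕ) = 0 := by
          have := congrArg (· * ρ c) ha
          simp only [Finset.sum_mul, zero_mul] at this
          rw [← this]
          exact Finset.sum_congr rfl fun i _ => by rw [mul_assoc, ← hxi, ← mul_assoc]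
        have h2 : ∑ i, (a i : R) * (ρ ((α ^ (j : ℕ)) c)) * x ^ (i : ℕ) = 0 := by
          have := congrArg (ρ ((α ^ (j : ℕ)) c) * ·) ha
          simp only [Finset.mul_sum, mul_zero] at this
          rw [← this]
          refine Finset.sum_congr rfl fun i _ => ?_
          rw [← mul_assoc]
          congr 1
          exact congrArg Subtype.val (mul_comm (a i) (e ((α ^ (j : ℕ)) c)))
        rw [← sub_self (0 : R)]
        nth_rw 1 [← h1]
        rw [← h2, ← Finset.sum_sub_distrib]
        refine Finset.sum_congr rfl fun i _ => ?_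
        simp only [Subring.coe_mul, AddSubgroupClass.coe_sub, mul_sub, sub_mul, e]
      · intro k hk
        rcases Finset.mem_insert.mp hk with rfl | hk
        · simp
        · simp [haT k hk]
      · simp only [pow_zero, MulAut.one_apply]
        exact fun h => (hP.mem_or_mem h).elim ha0 (hb j _)
  obtain ⟨a, ha, haz, ha0⟩ := key (Finset.univ.erase ⟨0, pow_pos hp.out.pos n⟩) fun j hj h0 =>
    (Finset.mem_erase.mp hj).1 (Fin.ext h0)
  rw [Finset.sum_eq_single ⟨0, pow_pos hp.out.pos n⟩ (fun i _ hi => by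
    rw [haz i (Finset.mem_erase.mpr ⟨hi, Finset.mem_univ _⟩), ZeroMemClass.coe_zero, zero_mul])
    (fun h => absurd (Finset.mem_univ _) h)] at ha
  simp only [pow_zero, mul_one] at ha
  exact ha0 (by rw [show a ⟨0, pow_pos hp.out.pos n⟩ = 0 from Subtype.ext ha]; exact P.zero_mem)

end Ring

section Group

variable {G : Type*} [Group G] [Finite G] {p : ℕ} [hp : Fact p.Prime]

open scoped IsMulCommutative in
/-- An element of a `p`-group normalising an abelian `p'`-subgroup of `G ⧸ P₀` and moving it by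
`x ^ p ^ (n - 1)` produces an element whose `p ^ n`-th power is not trivial. -/
theorem exists_pow_ne_one (P₀ : Subgroup G) [P₀.Normal] (hP₀ : IsPGroup p P₀)
    (hfaith : ∀ g : G, (∀ w ∈ P₀, g * w * g⁻¹ * w⁻¹ ∈ (frattini P₀).map P₀.subtype) → g ∈ P₀)
    (Q : Subgroup (G ⧸ P₀)) (hQc : ∀ a ∈ Q, ∀ b ∈ Q, a * b = b * a) (hQ : (Nat.card Q).Coprime p)
    (x : G) (hxQ : (x : G ⧸ P₀) ∈ Subgroup.normalizer (Q : Set (G ⧸ P₀))) {n : ℕ} (hxn : x ^ p ^ n ∈ P₀)
    (hmove : ∃ q ∈ Q, (x : G ⧸ P₀) ^ p ^ (n - 1) * q ≠ q * (x : G ⧸ P₀) ^ p ^ (n - 1)) :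
    ∃ y ∈ P₀, (y * x) ^ p ^ n ≠ 1 := by
  classical
  haveI hWc : IsMulCommutative (P₀ ⧸ frattini P₀) :=
    Subgroup.Normal.quotient_commutative_iff_commutator_le.mpr (PGroups.commutator_le_frattini hP₀)
  letI : CommGroup (P₀ ⧸ frattini P₀) := { (inferInstance : Group (P₀ ⧸ frattini P₀)) with mul_comm := hWc.is_comm.comm }
  let W := Additive (P₀ ⧸ frattini P₀)
  -- the action
  have hmap : ∀ g : G, (frattini P₀).map (MulAut.conjNormal g : MulAut P₀).toMonoidHom = frattini P₀ :=
    fun g => Subgroup.characteristic_iff_map_eq.mp inferInstance _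
  let Ψ₀ : G →* AddMonoid.End W :=
    { toFun := fun g => MonoidHom.toAdditive
        (QuotientGroup.map (frattini P₀) (frattini P₀) (MulAut.conjNormal g : MulAut P₀).toMonoidHom
          (Subgroup.map_le_iff_le_comap.mp (hmap g).le))
      map_one' := by
        refine AddMonoidHom.ext fun w => ?_
        obtain ⟨w, rfl⟩ := Additive.ofMul.surjective w
        induction w using QuotientGroup.induction_on with | _ u =>
        show Additive.ofMul (QuotientGroup.mk ((MulAut.conjNormal (1 : G) : MulAut P₀) u)) = Additive.ofMul (QuotientGroup.mk u)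
        rw [map_one]; rfl
      map_mul' := fun g h => by
        refine AddMonoidHom.ext fun w => ?_
        obtain ⟨w, rfl⟩ := Additive.ofMul.surjective w
        induction w using QuotientGroup.induction_on with | _ u =>
        show Additive.ofMul (QuotientGroup.mk ((MulAut.conjNormal (g * h) : MulAut P₀) u)) =
          Additive.ofMul (QuotientGroup.mk ((MulAut.conjNormal g : MulAut P₀) ((MulAut.conjNormal h : MulAut P₀) u)))
        rw [map_mul]; rfl }
  have hΨ : ∀ (g : G) (u : P₀), Ψ₀ g (Additive.ofMul (QuotientGroup.mk u)) =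
      Additive.ofMul (QuotientGroup.mk ((MulAut.conjNormal g : MulAut P₀) u)) := fun g u => rfl
  have hker : P₀ ≤ Ψ₀.ker := by
    intro g hg
    rw [MonoidHom.mem_ker]
    refine AddMonoidHom.ext fun w => ?_
    obtain ⟨w, rfl⟩ := Additive.ofMul.surjective w
    induction w using QuotientGroup.induction_on with | _ u =>
    refine (hΨ g u).trans ?_
    show Additive.ofMul _ = Additive.ofMul _
    congr 1
    have h1 : (MulAut.conjNormal g : MulAut P₀) u = (⟨g, hg⟩ : P₀) * u * (⟨g, hg⟩ : P₀)⁻¹ := Subtype.ext (by simp)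
    rw [h1, QuotientGroup.mk_mul, QuotientGroup.mk_mul, QuotientGroup.mk_inv, hWc.is_comm.comm _ (QuotientGroup.mk u),
      mul_inv_cancel_right]
  let Ψ : G ⧸ P₀ →* AddMonoid.End W := QuotientGroup.lift P₀ Ψ₀ hker
  have hinj : ∀ q : G ⧸ P₀, Ψ q = 1 → q = 1 := by
    intro q
    induction q using QuotientGroup.induction_on with | _ g =>
    intro hg
    refine (QuotientGroup.eq_one_iff g).mpr (hfaith g fun w hw => ?_)
    have h1 := congrArg (fun f : AddMonoid.End W => f (Additive.ofMul (QuotientGroup.mk (⟨w, hw⟩ : P₀)))) hg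
    have h2 : (QuotientGroup.mk ((MulAut.conjNormal g : MulAut P₀) ⟨w, hw⟩) : P₀ ⧸ frattini P₀) =
        QuotientGroup.mk (⟨w, hw⟩ : P₀) := h1
    have h3 : (MulAut.conjNormal g : MulAut P₀) ⟨w, hw⟩ * (⟨w, hw⟩ : P₀)⁻¹ ∈ frattini P₀ := by
      rw [← QuotientGroup.eq_one_iff, QuotientGroup.mk_mul, QuotientGroup.mk_inv, h2, mul_inv_cancel]
    exact ⟨_, h3, by simp⟩
  have hcharR : (p : AddMonoid.End W) = 0 := by
    refine AddMonoidHom.ext fun w => ?_
    obtain ⟨w, rfl⟩ := Additive.ofMul.surjective w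
    induction w using QuotientGroup.induction_on with | _ u =>
    refine (AddMonoid.End.natCast_apply (M := W) p _).trans ?_
    show Additive.ofMul ((QuotientGroup.mk u : P₀ ⧸ frattini P₀) ^ p) = Additive.ofMul 1
    rw [← QuotientGroup.mk_pow, (QuotientGroup.eq_one_iff _).mpr (PGroups.pow_mem_frattini hP₀ u)]
  let xx : G ⧸ P₀ := (x : G ⧸ P₀)
  let α : Q ≃* Q :=
    { toFun := fun q => ⟨xx * q * xx⁻¹, (Subgroup.mem_normalizer_iff.mp hxQ _).mp q.2⟩
      invFun := fun q => ⟨xx⁻¹ * q * xx⁻¹⁻¹, (Subgroup.mem_normalizer_iff.mp (inv_mem hxQ) _).mp q.2⟩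
      left_inv := fun q => Subtype.ext (by show xx⁻¹ * (xx * q * xx⁻¹) * xx⁻¹⁻¹ = q; group)
      right_inv := fun q => Subtype.ext (by show xx * (xx⁻¹ * q * xx⁻¹⁻¹) * xx⁻¹ = q; group)
      map_mul' := fun q r => Subtype.ext (by show xx * (q * r : Q) * xx⁻¹ = xx * q * xx⁻¹ * (xx * r * xx⁻¹); simp) }
  have hαi : ∀ (i : ℕ) (q : Q), (((α ^ i) q : Q) : G ⧸ P₀) = xx ^ i * q * (xx ^ i)⁻¹ := by
    intro i
    induction i with
    | zero => intro q; simp
    | succ i ih =>
      intro q
      rw [pow_succ' α, MulAut.mul_apply]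
      show xx * _ * xx⁻¹ = _
      rw [ih, pow_succ']; group
  haveI : Finite (AddMonoid.End W) := Finite.of_injective (fun f : AddMonoid.End W => (f : W → W)) DFunLike.coe_injective
  have hxxn : xx ^ p ^ n = 1 := by
    show (x : G ⧸ P₀) ^ p ^ n = 1
    rw [← QuotientGroup.mk_pow]; exact (QuotientGroup.eq_one_iff _).mpr hxn
  have hne := orbit_sum_ne_zero (p := p) hcharR (Ψ.comp Q.subtype)
    (fun a b => by simp only [MonoidHom.comp_apply, ← map_mul, Subgroup.coe_subtype, hQc a a.2 b b.2])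
    hQ (Ψ xx) α
    (fun q => by
      show Ψ xx * Ψ (q : G ⧸ P₀) = Ψ (xx * q * xx⁻¹) * Ψ xx
      rw [← map_mul, ← map_mul, inv_mul_cancel_right])
    (n := n)
    (fun q => by
      show Ψ (((α ^ p ^ n) q : Q) : G ⧸ P₀) = Ψ (q : G ⧸ P₀)
      rw [hαi, hxxn, one_mul, inv_one, mul_one])
    (by
      obtain ⟨q, hq, hne⟩ := hmove
      refine ⟨⟨q, hq⟩, fun h => hne ?_⟩
      have h' : Ψ (xx ^ p ^ (n - 1) * q * (xx ^ p ^ (n - 1))⁻¹) = Ψ q := by
        rw [← hαi _ ⟨q, hq⟩]; exact h
      refine mul_inv_eq_iff_eq_mul.mp (mul_inv_eq_one.mp (hinj _ ?_))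
      rw [map_mul, h', ← map_mul, mul_inv_cancel, map_one])
  obtain ⟨w, hw⟩ : ∃ w : W, (∑ i : Fin (p ^ n), Ψ xx ^ (i : ℕ)) w ≠ 0 := by
    by_contra h
    push Not at h
    exact hne (AddMonoidHom.ext h)
  obtain ⟨w, rfl⟩ := Additive.ofMul.surjective w
  induction w using QuotientGroup.induction_on with | _ u =>
  by_contra hall
  push Not at hall
  apply hw
  have hx1 : x ^ p ^ n = 1 := by simpa using hall 1 P₀.one_mem
  let h : ℕ → P₀ := fun N => ((List.range N).map fun i => (MulAut.conjNormal (x ^ i) : MulAut P₀) u).prod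
  have hprod : ∀ N : ℕ, ((h N : P₀) : G) * x ^ N = ((u : G) * x) ^ N := by
    intro N
    induction N with
    | zero => simp [h]
    | succ N ih =>
      have e : h (N + 1) = h N * (MulAut.conjNormal (x ^ N) : MulAut P₀) u := by
        simp [h, List.range_succ]
      rw [e, pow_succ ((u : G) * x), ← ih, Subgroup.coe_mul, MulAut.conjNormal_apply, pow_succ]
      group
  have hsumh : ∀ N : ℕ, (∑ i ∈ Finset.range N, Ψ xx ^ i) (Additive.ofMul (QuotientGroup.mk u)) =
      Additive.ofMul (QuotientGroup.mk (h N) : P₀ ⧸ frattini P₀) := by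
    intro N
    induction N with
    | zero => simp [h]
    | succ N ih =>
      have e : h (N + 1) = h N * (MulAut.conjNormal (x ^ N) : MulAut P₀) u := by
        simp [h, List.range_succ]
      rw [Finset.sum_range_succ]
      show (∑ i ∈ Finset.range N, Ψ xx ^ i) (Additive.ofMul (QuotientGroup.mk u)) +
        (Ψ xx ^ N) (Additive.ofMul (QuotientGroup.mk u)) = _
      rw [ih, e, QuotientGroup.mk_mul]
      refine congrArg₂ (· + ·) rfl ?_
      rw [← map_pow, show xx ^ N = ((x ^ N : G) : G ⧸ P₀) from (QuotientGroup.mk_pow P₀ x N).symm]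
      exact hΨ _ u
  rw [Fin.sum_univ_eq_sum_range (fun i => Ψ xx ^ i), hsumh]
  have h1 : h (p ^ n) = 1 := Subtype.ext (by
    have := hprod (p ^ n)
    rw [hx1, mul_one, hall _ u.2] at this
    exact this)
  rw [h1]; rfl

end Group

end Cfsg.Agent.H71
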