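import Cfsg.Agent.Coprime.ShultGrossKey
import Cfsg.Agent.Coprime.LinRep

/-!
Hall–Higman Theorem B for odd `p`, in any characteristic: if the sum of the powers `x ^ i`, `i < p ^ n`,
vanishes on a module, then `x ^ p ^ (n - 1)` centralises the image of every normalised `s`-group,
unless `s = 2`, the group is not commutative and `p` is a Fermat prime.
-/

set_option autoImplicit false

namespace Cfsg.Agent.H71

open Subgroup
open Coprime Coprime.Weights Coprime.EndBound Coprime.EndCount Coprime.FpfPrime Coprime.ShultGross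
open scoped commutatorElement

/-- A prime with a power of the form `2 ^ m + 1` is a Fermat prime. -/
theorem fermat_of_pow_eq {p a m : ℕ} (hp : p.Prime) (ha : 0 < a) (hm : 0 < m) (h : p ^ a = 2 ^ m + 1) :
    ∃ k, 0 < k ∧ p = 2 ^ k + 1 := by
  have hodd : Odd p := hp.odd_of_ne_two (by
    rintro rfl
    have h1 : 2 ∣ 2 ^ a := dvd_pow_self 2 ha.ne'
    have h2 : 2 ∣ 2 ^ m := dvd_pow_self 2 hm.ne'
    omega)
  induction a using Nat.strong_induction_on generalizing m with
  | _ a ih =>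
    rcases Nat.even_or_odd a with ⟨b, rfl⟩ | hao
    · obtain ⟨o, ho⟩ : ∃ o, p ^ b = o + 1 := ⟨_, (Nat.succ_pred_eq_of_pos (pow_pos hp.pos b)).symm⟩
      have hmul : o * (o + 2) = 2 ^ m := by
        have : p ^ (b + b) = (o + 1) * (o + 1) := by rw [pow_add, ho]
        nlinarith
      obtain ⟨j, -, hj⟩ := (Nat.dvd_prime_pow Nat.prime_two).mp (hmul ▸ Dvd.intro (o + 2) rfl)
      rcases Nat.eq_zero_or_pos j with rfl | hj0
      · have h2 : p ^ b = 2 := by rw [ho, hj]; rfl
        exact absurd ((hodd.pow (n := b))) (by rw [h2]; decide)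
      · exact ih b (by omega) (by omega) hj0 (by rw [ho, hj])
    · obtain ⟨j, -, hj⟩ := (Nat.dvd_prime_pow Nat.prime_two).mp
        (show p - 1 ∣ 2 ^ m by
          have h1 : p - 1 ∣ p ^ a - 1 ^ a := Nat.sub_dvd_pow_sub_pow p 1 a
          rwa [one_pow, h, Nat.add_sub_cancel] at h1)
      refine ⟨j, ?_, by have := hp.two_le; omega⟩
      rcases Nat.eq_zero_or_pos j with rfl | hj0
      · obtain ⟨r, rfl⟩ := hodd
        simp at hj
      · exact hj0

variable {k V : Type*} [Field k] [AddCommGroup V] [Module k V]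
variable {Y : Type*} [Group Y] [Finite Y] {ρ : Y →* Module.End k V}
variable [IsAlgClosed k] [FiniteDimensional k V]

set_option maxHeartbeats 1600000 in
/-- Hall–Higman Theorem B, faithful form. -/
theorem hall_higman_B {s p n : ℕ} [Fact s.Prime] [Fact p.Prime] (hsp : s ≠ p)
    (hp2 : p ≠ 2) (hsk : (s : k) ≠ 0) (hinj : Function.Injective ρ) (hn : 0 < n)
    (R : Subgroup Y) (hR : IsPGroup s R) (x : Y) (hx : x ∈ normalizer (R : Set Y))
    (hxp : x ^ p ^ n = 1) (hnot : ¬ (s = 2 ∧ ∃ m, 0 < m ∧ p = 2 ^ m + 1) ∨ ∀ a ∈ R, ∀ b ∈ R, Commute a b)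
    (hsum : ∑ i ∈ Finset.range (p ^ n), ρ x ^ i = 0) :
    zpowers (x ^ p ^ (n - 1)) ≤ centralizer (R : Set Y) := by
  classical
  have hp : p.Prime := Fact.out
  have hs : s.Prime := Fact.out
  set y := x ^ p ^ (n - 1) with hy
  suffices main : ∀ N, ∀ R : Subgroup Y, Nat.card R = N → IsPGroup s R → x ∈ normalizer (R : Set Y) →
      (¬ (s = 2 ∧ ∃ m, 0 < m ∧ p = 2 ^ m + 1) ∨ ∀ a ∈ R, ∀ b ∈ R, Commute a b) →
      zpowers y ≤ centralizer (R : Set Y) from main _ R rfl hR hx hnot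
  intro N
  induction N using Nat.strong_induction_on with
  | _ N ih =>
  intro R hN hR hx hnot
  have hyR : y ∈ normalizer (R : Set Y) := pow_mem hx _
  have hyn : zpowers y ≤ normalizer (R : Set Y) := zpowers_le.mpr hyR
  have hyp : y ^ p = 1 := by rw [hy, ← pow_mul, ← pow_succ, Nat.sub_add_cancel hn, hxp]
  obtain ⟨jR, hjR⟩ := IsPGroup.iff_card.mp hR
  have hcop : (Nat.card (zpowers y)).Coprime (Nat.card R) := by
    rw [Nat.card_zpowers, hjR]
    exact Nat.Coprime.coprime_dvd_left (orderOf_dvd_of_pow_eq_one hyp)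
      (((Nat.coprime_primes hp hs).mpr (Ne.symm hsp)).pow_right jR)
  rcases eq_or_ne R ⊥ with rfl | hRbot
  · intro a _
    exact mem_centralizer_iff.mpr fun v hv => by
      rw [SetLike.mem_coe, Subgroup.mem_bot] at hv; rw [hv, one_mul, mul_one]
  have hlt : ∀ {H : Subgroup Y}, H ≤ R → H ≠ R → Nat.card H < N := by
    intro H hH hne
    refine hN ▸ lt_of_le_of_ne (Nat.le_of_dvd Nat.card_pos (card_dvd_of_le hH)) fun h => ?_
    exact hne (eq_of_le_of_card_ge hH h.ge)
  have hRy : ⁅R, zpowers y⁆ ≤ R := commutator_le_left_of_normalizer hyn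
  have hxy : x ∈ normalizer ((zpowers y : Subgroup Y) : Set Y) := by
    refine centralizer_le_normalizer _ (mem_centralizer_iff.mpr fun a ha => ?_)
    obtain ⟨i, rfl⟩ := mem_zpowers_iff.mp ha
    exact (((Commute.refl x).pow_left _).zpow_left i).eq
  by_cases hRe : ⁅R, zpowers y⁆ = R
  swap
  · have h := ih _ (hlt hRy hRe) _ rfl (hR.to_le hRy) (PQTower.mem_normalizer_comm hx hxy)
      (hnot.imp_right fun hc a ha b hb => hc a (hRy ha) b (hRy hb))
    exact le_centralizer_of_commutator_le_centralizer hyn hcop (le_centralizer_iff.mp h)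
  set Φ := (frattini R).map R.subtype with hΦ
  have hΦR : Φ ≤ R := map_subtype_le _
  have hΦne : Φ ≠ R := by
    intro h
    have : Nontrivial R := R.nontrivial_iff_ne_bot.mpr hRbot
    have h2 : frattini R = ⊤ :=
      map_injective R.subtype_injective (by rw [← MonoidHom.range_eq_map, R.range_subtype]; exact h)
    exact bot_ne_top (frattini_nongenerating (K := (⊥ : Subgroup R)) (by rw [bot_sup_eq, h2]))
  have hΦy : zpowers y ≤ centralizer (Φ : Set Y) :=
    ih _ (hlt hΦR hΦne) _ rfl (hR.to_le hΦR) (PQTower.mem_normalizer_frattini hx)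
      (hnot.imp_right fun hc a ha b hb => hc a (hΦR ha) b (hΦR hb))
  have hΦn : R ≤ normalizer (Φ : Set Y) := fun v hv => PQTower.mem_normalizer_frattini (le_normalizer hv)
  have h1 : ⁅⁅zpowers y, R⁆, Φ⁆ = ⊥ := by
    refine commutator_commutator_eq_bot_of_rotate ?_ ?_
    · rw [eq_bot_iff, ← (commutator_eq_bot_iff_le_centralizer.mpr (le_centralizer_iff.mp hΦy))]
      exact commutator_mono (le_normalizer_iff_commutator_le_right.mp hΦn) le_rfl
    · rw [commutator_eq_bot_iff_le_centralizer.mpr (le_centralizer_iff.mp hΦy), commutator_bot_left]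
  rw [commutator_comm (zpowers y) R, hRe, commutator_eq_bot_iff_le_centralizer] at h1
  set σ := Subgroup.normalizerMonoidHom R ⟨x, hx⟩ with hσdef
  have hσj : ∀ (j : ℕ) (z : R), (((σ ^ j) z : R) : Y) = x ^ j * z * (x ^ j)⁻¹ := fun j z => by
    show (((Subgroup.normalizerMonoidHom R ⟨x, hx⟩) ^ j) z : Y) = _
    rw [← map_pow]
    rfl
  have hσp : σ ^ p ^ n = 1 := by
    show Subgroup.normalizerMonoidHom R ⟨x, hx⟩ ^ p ^ n = 1
    rw [← map_pow, show (⟨x, hx⟩ : normalizer (R : Set Y)) ^ p ^ n = 1 from Subtype.ext hxp, map_one]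
  by_cases hab : ∀ a ∈ R, ∀ b ∈ R, Commute a b
  · -- the abelian case
    rw [zpowers_le, mem_centralizer_iff]
    intro v hv
    let _ : CommGroup R :=
      { (inferInstance : Group R) with mul_comm := fun a b => Subtype.ext (hab a a.2 b b.2) }
    have hRk : (Nat.card R : k) ≠ 0 := by rw [hjR, Nat.cast_pow]; exact pow_ne_zero _ hsk
    have := finite_chars (k := k) (U := R) hRk
    let _ := Fintype.ofFinite (R →* kˣ)
    let τ := ρ.comp R.subtype
    refine hinj ?_
    rw [map_mul, map_mul, ← mul_one (ρ v * ρ y), ← mul_one (ρ y * ρ v), ← sum_proj hRk τ,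
      Finset.mul_sum, Finset.mul_sum]
    refine Finset.sum_congr rfl fun χ _ => ?_
    by_cases hz : proj τ χ = 0
    · rw [hz, mul_zero, mul_zero]
    obtain ⟨c, hc, hiff, hcomm, -⟩ := orbit_stab hRk τ σ (ρ x) (fun u => by
      show ρ x * ρ u = ρ (x * u * x⁻¹) * ρ x
      rw [← map_mul, ← map_mul, inv_mul_cancel_right]) hσp hsum χ hz
    have hye : Commute (ρ y) (proj τ χ) := by
      obtain ⟨d, hd⟩ := Nat.pow_dvd_pow p (Nat.le_sub_one_of_lt hc)
      rw [hy, map_pow, hd, pow_mul]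
      exact hcomm.pow_left d
    have hfχ := (hiff (p ^ (n - 1))).mpr (Nat.pow_dvd_pow p (Nat.le_sub_one_of_lt hc)) ⟨v, hv⟩
    have e1 := act_mul_proj τ χ ⟨v, hv⟩
    have e2 := act_mul_proj τ χ ((σ ^ p ^ (n - 1)) ⟨v, hv⟩)
    rw [hfχ, ← e1] at e2
    change ρ (((σ ^ p ^ (n - 1)) ⟨v, hv⟩ : R) : Y) * proj τ χ = ρ v * proj τ χ at e2
    rw [hσj, ← hy] at e2
    calc ρ v * ρ y * proj τ χ = ρ v * proj τ χ * ρ y := by rw [mul_assoc, hye.eq, mul_assoc]
      _ = ρ (y * v * y⁻¹) * proj τ χ * ρ y := by rw [e2]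
      _ = ρ (y * v * y⁻¹) * ρ y * proj τ χ := by simp only [mul_assoc, hye.eq]
      _ = ρ y * ρ v * proj τ χ := by rw [← map_mul, ← map_mul, inv_mul_cancel_right]
  exfalso
  replace hnot := hnot.resolve_right hab
  push Not at hab
  obtain ⟨a0, ha0, b0, hb0, hne0⟩ := hab
  set U := (⁅R, R⁆ : Subgroup Y) with hU
  have hUΦ : U ≤ Φ := by
    rw [hU, hΦ, ← map_subtype_commutator]
    exact map_mono (PGroups.commutator_le_frattini hR)
  have hUR : U ≤ R := hUΦ.trans hΦR
  have hUcen : ∀ u ∈ U, ∀ g ∈ R, Commute u g := fun u hu g hg =>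
    mem_centralizer_iff.mp (h1 hg) u (hUΦ hu)
  let _ : CommGroup U :=
    { (inferInstance : Group U) with mul_comm := fun a b => Subtype.ext (hUcen a a.2 b (hUR b.2)) }
  have hUk : (Nat.card U : k) ≠ 0 := by
    obtain ⟨j, hj⟩ := IsPGroup.iff_card.mp (hR.to_le hUR)
    rw [hj, Nat.cast_pow]
    exact pow_ne_zero _ hsk
  let τ : U →* Module.End k V := ρ.comp U.subtype
  let c0 : U := ⟨⁅a0, b0⁆, commutator_mem_commutator ha0 hb0⟩
  obtain ⟨χ, hχ, hχ0⟩ := exists_proj_ne_zero_of_act_ne_one hUk (τ := τ) (u := c0)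
    (fun h => hne0 (commutatorElement_eq_one_iff_commute.mp (hinj (h.trans (map_one ρ).symm))))
  have hxU : x ∈ normalizer (U : Set Y) := PQTower.mem_normalizer_comm hx hx
  let σU := Subgroup.normalizerMonoidHom U ⟨x, hxU⟩
  have hσUj : ∀ (j : ℕ) (z : U), (((σU ^ j) z : U) : Y) = x ^ j * z * (x ^ j)⁻¹ := fun j z => by
    show (((Subgroup.normalizerMonoidHom U ⟨x, hxU⟩) ^ j) z : Y) = _
    rw [← map_pow]
    rfl
  have hσUp : σU ^ p ^ n = 1 := by
    show Subgroup.normalizerMonoidHom U ⟨x, hxU⟩ ^ p ^ n = 1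
    rw [← map_pow, show (⟨x, hxU⟩ : normalizer (U : Set Y)) ^ p ^ n = 1 from Subtype.ext hxp, map_one]
  obtain ⟨i, hin, hiff, hTi, hsum1⟩ := orbit_stab hUk τ σU (ρ x) (fun u => by
    show ρ x * ρ u = ρ (x * u * x⁻¹) * ρ x
    rw [← map_mul, ← map_mul, inv_mul_cancel_right]) hσUp hsum χ hχ
  set e := proj τ χ with he
  set z := x ^ p ^ i with hzdef
  have hzst : z ∈ stab ρ e := by
    show Commute (ρ (x ^ p ^ i)) e
    rw [map_pow]
    exact hTi
  have hRst : ∀ g ∈ R, g ∈ stab ρ e := fun g hg =>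
    mul_proj_of_conj (τ := τ) (σ := MulEquiv.refl U) (g := ρ g) (fun u => by
      show ρ g * ρ u = ρ u * ρ g
      rw [← map_mul, ← map_mul, (hUcen u u.2 g hg).eq]) χ
  let R1 : Subgroup (stab ρ e) := R.subgroupOf (stab ρ e)
  let ι : R →* R1 :=
    { toFun := fun g => ⟨⟨g, hRst g g.2⟩, g.2⟩
      map_one' := rfl
      map_mul' := fun _ _ => rfl }
  have hι : Function.Surjective ι := fun g => ⟨⟨((g : stab ρ e) : Y), g.2⟩, rfl⟩
  let ρW : R →* Module.End k (LinearMap.range e) := ((sub ρ e).comp R1.subtype).comp ι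
  have : Nontrivial (LinearMap.range e) :=
    Submodule.nontrivial_iff_ne_bot.mpr (fun h => hχ (LinearMap.range_eq_bot.mp h))
  let cu : R → R → U := fun a b => ⟨⁅(a : Y), b⁆, commutator_mem_commutator a.2 b.2⟩
  have hscal : ∀ a b : R, ρW ⁅a, b⁆ = ((χ (cu a b) : kˣ) : k) • 1 := fun a b =>
    (sub_eq_iff _ ((χ (cu a b) : k) • 1) ((χ (cu a b) : k) • 1) (fun v => rfl)).mpr (by
      rw [smul_mul_assoc, one_mul]
      exact act_mul_proj τ χ (cu a b))
  set Nχ := cen (V := LinearMap.range e) ρW with hNχdef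
  have hNχ : ∀ a, a ∈ Nχ → ∀ b, χ (cu a b) = 1 := by
    intro a ha b
    have h5 : ρW.toHomUnits ⁅a, b⁆ = 1 := by
      rw [map_commutatorElement, commutatorElement_eq_one_iff_commute]
      exact Units.ext (ha b).eq
    have h2 := congrArg Units.val h5
    rw [MonoidHom.coe_toHomUnits, hscal, Units.val_one] at h2
    obtain ⟨v, hv⟩ := exists_ne (0 : LinearMap.range e)
    have h4 := congrArg (fun f => f v) h2
    simp only [LinearMap.smul_apply, Module.End.one_apply] at h4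
    have hv' : (v : V) ≠ 0 := fun h => hv (Subtype.ext h)
    refine Units.ext (smul_left_injective _ hv' ?_)
    show _ • (v : V) = (1 : k) • (v : V)
    rw [one_smul]
    exact congrArg Subtype.val h4
  have hNtop : Nχ ≠ ⊤ := fun h => hχ0 (hNχ ⟨a0, ha0⟩ (h ▸ mem_top _) ⟨b0, hb0⟩)
  let z1 : stab ρ e := ⟨z, hzst⟩
  have hz1R : z1 ∈ normalizer (R1 : Set (stab ρ e)) := by
    refine mem_normalizer_iff.mpr fun g => ?_
    show (g : Y) ∈ R ↔ z * g * z⁻¹ ∈ R
    exact mem_normalizer_iff.mp (pow_mem hx _) g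
  have hz1p : z1 ^ p ^ (n - i) = 1 := Subtype.ext (by
    show z ^ p ^ (n - i) = 1
    rw [hzdef, ← pow_mul, ← pow_add, Nat.add_sub_cancel' hin.le, hxp])
  have hsum1' : ∑ j ∈ Finset.range (p ^ (n - i)), sub ρ e z1 ^ j = 0 := by
    have hTv : ∀ (j : ℕ) (w : LinearMap.range e),
        (((sub ρ e z1 ^ j) w : LinearMap.range e) : V) = ((ρ x ^ p ^ i) ^ j) w := fun j w => by
      rw [← map_pow, ← map_pow, ← map_pow]
      show ρ ((z1 ^ j : stab ρ e) : Y) w = _
      rw [SubmonoidClass.coe_pow]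
    refine LinearMap.ext fun ⟨_, v, rfl⟩ => Subtype.ext ?_
    simp only [LinearMap.sum_apply, Submodule.coe_sum, hTv, LinearMap.zero_apply, Submodule.coe_zero]
    have := congrArg (fun f : Module.End k V => f v) hsum1
    simpa only [Module.End.mul_apply, LinearMap.sum_apply, LinearMap.zero_apply] using this
  have hyzY : z ^ p ^ (n - i - 1) = y := by
    rw [hzdef, hy, ← pow_mul, ← pow_add, show i + (n - i - 1) = n - 1 by omega]
  have hyst : y ∈ stab ρ e := hyzY ▸ pow_mem hzst _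
  have hyz : z1 ^ p ^ (n - i - 1) = ⟨y, hyst⟩ := Subtype.ext hyzY
  have hgen1 : R1 ≤ ⁅R1, zpowers (z1 ^ p ^ (n - i - 1))⁆ := by
    rw [← map_le_map_iff_of_injective (stab ρ e).subtype_injective, map_commutator, MonoidHom.map_zpowers,
      hyz, Subgroup.map_subgroupOf_eq_of_le (fun g hg => hRst g hg)]
    exact hRe.ge
  have hcen1 : cen (V := LinearMap.range e) ρW =
      (cen (V := LinearMap.range e) ((sub ρ e).comp R1.subtype)).comap ι := by
    ext g
    constructor
    · intro hg w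
      obtain ⟨w, rfl⟩ := hι w
      exact hg w
    · intro hg w
      exact hg (ι w)
  obtain ⟨hs2, a, m, ha, hal, hm, ham, hidx⟩ := dichotomy' (V := LinearMap.range e) (ρ := sub ρ e)
    (l := n - i) hsp hp2 hsk R1
    (hR.comap_of_injective (stab ρ e).subtype (stab ρ e).subtype_injective) z1 hz1R (Nat.sub_pos_of_lt hin)
    hz1p hsum1' (fun a b => by
      obtain ⟨a, rfl⟩ := hι a
      obtain ⟨b, rfl⟩ := hι b
      rw [← map_commutatorElement]
      exact ⟨_, hscal a b⟩) hgen1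
    (fun h => hNtop (by rw [hNχdef, hcen1, h, comap_top]))
  obtain ⟨k', hk', hpk'⟩ := fermat_of_pow_eq hp ha hm ham
  exact hnot ⟨hs2, k', hk', hpk'⟩

section Group

variable {G : Type*} [Group G] [Finite G]

open scoped IsMulCommutative

theorem mul_pow_eq_prod_conj (N : Subgroup G) [N.Normal] [IsMulCommutative N] (x : G) (u : N) (m : ℕ) :
    ((u : G) * x) ^ m = ((∏ i ∈ Finset.range m, (MulAut.conjNormal (x ^ i) : MulAut N) u : N) : G) * x ^ m := by
  induction m with
  | zero => simp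
  | succ m ih =>
    rw [pow_succ, ih, Finset.prod_range_succ, Subgroup.coe_mul, MulAut.conjNormal_apply, pow_succ]
    group

/-- Hall–Higman Theorem B for a self-centralising elementary abelian normal subgroup. -/
theorem exists_norm_ne_one {s p n : ℕ} [Fact s.Prime] [Fact p.Prime] (hsp : s ≠ p) (hp2 : p ≠ 2) (hn : 0 < n)
    (N : Subgroup G) [N.Normal] [IsMulCommutative N] (hexp : ∀ v ∈ N, v ^ p = 1)
    (hC : centralizer (N : Set G) ≤ N) (R : Subgroup (G ⧸ N)) (hR : IsPGroup s R) (x : G)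
    (hx : (x : G ⧸ N) ∈ normalizer (R : Set (G ⧸ N))) (hxp : x ^ p ^ n ∈ N)
    (hnot : ¬ (s = 2 ∧ ∃ m, 0 < m ∧ p = 2 ^ m + 1) ∨ ∀ a ∈ R, ∀ b ∈ R, Commute a b)
    (hmove : ∃ r ∈ R, (x : G ⧸ N) ^ p ^ (n - 1) * r ≠ r * (x : G ⧸ N) ^ p ^ (n - 1)) :
    ∃ u : N, ∏ i ∈ Finset.range (p ^ n), (MulAut.conjNormal (x ^ i) : MulAut N) u ≠ 1 := by
  classical
  by_contra hall
  push Not at hall
  have hker : N ≤ (LinRep.rep N p).ker := fun v hv => MonoidHom.mem_ker.mpr
    ((LinRep.rep_eq_one_iff N p hexp v).mpr (Subgroup.le_centralizer N hv))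
  let ρ : G ⧸ N →* Module.End (LinRep.Coeff p) (LinRep.Sp N p) := QuotientGroup.lift N (LinRep.rep N p) hker
  have hinj : Function.Injective ρ := by
    refine (injective_iff_map_eq_one' ρ).mpr fun v => ⟨fun hv => ?_, fun hv => by rw [hv, map_one]⟩
    obtain ⟨w, rfl⟩ := QuotientGroup.mk_surjective v
    exact (QuotientGroup.eq_one_iff _).mpr (hC ((LinRep.rep_eq_one_iff N p hexp w).mp hv))
  have hsk : ((s : ℕ) : LinRep.Coeff p) ≠ 0 := fun h => hsp ((Nat.prime_dvd_prime_iff_eq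
    (Fact.out : p.Prime) (Fact.out : s.Prime)).mp ((CharP.cast_eq_zero_iff _ p s).mp h)).symm
  -- pass to the inverse of `x`
  have hsum : ∑ i ∈ Finset.range (p ^ n), ρ (x⁻¹ : G ⧸ N) ^ i = 0 := by
    refine LinearMap.ext fun f => AddMonoidHom.ext fun v => ?_
    induction v using Additive.rec with
    | _ u =>
      simp only [LinearMap.sum_apply, AddMonoidHom.finsetSum_apply, LinearMap.zero_apply, AddMonoidHom.zero_apply]
      have hterm : ∀ i, (ρ (x⁻¹ : G ⧸ N) ^ i) f (Additive.ofMul u) =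
          f (Additive.ofMul ((MulAut.conjNormal (x ^ i) : MulAut N) u)) := fun i => by
        rw [← map_pow, ← QuotientGroup.mk_inv, ← QuotientGroup.mk_pow]
        show LinRep.rep N p _ f _ = _
        rw [LinRep.rep_apply, inv_pow, inv_inv]
      rw [Finset.sum_congr rfl fun i _ => hterm i, ← map_sum, ← ofMul_prod, hall u, ofMul_one, map_zero]
  have hx1 : (x⁻¹ : G ⧸ N) ^ p ^ n = 1 := by
    rw [inv_pow, inv_eq_one, ← QuotientGroup.mk_pow]
    exact (QuotientGroup.eq_one_iff _).mpr hxp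
  obtain ⟨r, hr, hne⟩ := hmove
  have h := mem_centralizer_iff.mp
    (hall_higman_B hsp hp2 hsk hinj hn R hR _ (inv_mem hx) hx1 hnot hsum (mem_zpowers _)) r hr
  rw [inv_pow] at h
  exact hne (mul_inv_eq_iff_eq_mul.mp (show (x : G ⧸ N) ^ p ^ (n - 1) * r * ((x : G ⧸ N) ^ p ^ (n - 1))⁻¹ = r by
    rw [mul_assoc, h, mul_inv_cancel_left]))

/-- Hall–Higman Theorem B: an element moving a `p'`-group by its last power has a product with an
element of the normal subgroup of larger order, outside the exceptional case. -/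
theorem exists_pow_ne_one_B {s p n : ℕ} [Fact s.Prime] [Fact p.Prime] (hsp : s ≠ p) (hp2 : p ≠ 2) (hn : 0 < n)
    (N : Subgroup G) [N.Normal] [IsMulCommutative N] (hexp : ∀ v ∈ N, v ^ p = 1)
    (hC : centralizer (N : Set G) ≤ N) (R : Subgroup (G ⧸ N)) (hR : IsPGroup s R) (x : G)
    (hx : (x : G ⧸ N) ∈ normalizer (R : Set (G ⧸ N))) (hxp : x ^ p ^ n ∈ N)
    (hnot : ¬ (s = 2 ∧ ∃ m, 0 < m ∧ p = 2 ^ m + 1) ∨ ∀ a ∈ R, ∀ b ∈ R, Commute a b)
    (hmove : ∃ r ∈ R, (x : G ⧸ N) ^ p ^ (n - 1) * r ≠ r * (x : G ⧸ N) ^ p ^ (n - 1)) :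
    ∃ y ∈ N, (y * x) ^ p ^ n ≠ 1 := by
  obtain ⟨u, hu⟩ := exists_norm_ne_one hsp hp2 hn N hexp hC R hR x hx hxp hnot hmove
  by_contra hall
  push Not at hall
  apply hu
  have h1 := hall 1 N.one_mem
  rw [one_mul] at h1
  have h2 := mul_pow_eq_prod_conj N x u (p ^ n)
  rw [hall _ u.2, h1, mul_one] at h2
  exact Subtype.ext h2.symm

end Group

end Cfsg.Agent.H71
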