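import Cfsg.Agent.H71.HallHigmanB
import Cfsg.Agent.H71.HallHigmanAbelian
import Cfsg.Agent.Coprime.Action
import Cfsg.Agent.Coprime.Generation
import Cfsg.Agent.PGroups.MaxAbelian

/-!
Hall–Higman Theorem B applied to `O_p(G) / Φ(O_p(G))` in a `p`-solvable group with `O_p'(G) = 1`.
-/

set_option autoImplicit false
set_option linter.style.haveILetI false
set_option linter.unusedSectionVars false
set_option maxHeartbeats 1000000
open Cfsg
open scoped commutatorElement

namespace Cfsg.Agent.H71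

open Subgroup

variable (p : ℕ) (G : Type*) [Group G]

/-- The Frattini subgroup of `O_p(G)`, in `G`. -/
def phi : Subgroup G := (frattini (Cfsg.pCore p G)).map (Cfsg.pCore p G).subtype

instance phi_normal : (phi p G).Normal := Subgroup.Normal.mk fun w hw g => by
  obtain ⟨u, hu, rfl⟩ := hw
  have hm : (frattini (Cfsg.pCore p G)).map (MulAut.conjNormal g : MulAut (Cfsg.pCore p G)).toMonoidHom =
      frattini (Cfsg.pCore p G) := Subgroup.characteristic_iff_map_eq.mp inferInstance _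
  exact ⟨(MulAut.conjNormal g : MulAut (Cfsg.pCore p G)) u, hm.le ⟨u, hu, rfl⟩, by simp⟩

/-- `O_p(G) / Φ(O_p(G))`, in `G / Φ(O_p(G))`. -/
def layer : Subgroup (G ⧸ phi p G) := (Cfsg.pCore p G).map (QuotientGroup.mk' (phi p G))

instance layer_normal : (layer p G).Normal :=
  Subgroup.Normal.map inferInstance _ (QuotientGroup.mk'_surjective _)

variable {p G}

theorem phi_le : phi p G ≤ Cfsg.pCore p G := map_subtype_le _

theorem comap_layer : (layer p G).comap (QuotientGroup.mk' (phi p G)) = Cfsg.pCore p G := by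
  rw [layer, Subgroup.comap_map_eq, QuotientGroup.ker_mk', sup_eq_left.mpr phi_le]

variable [Finite G] [hp : Fact p.Prime]

instance layer_comm : IsMulCommutative (layer p G) := PGroups.isMulCommutative_of_comm (by
  rintro _ ⟨a, ha, rfl⟩ _ ⟨b, hb, rfl⟩
  rw [← map_mul, ← map_mul, QuotientGroup.mk'_apply, QuotientGroup.mk'_apply, QuotientGroup.eq]
  refine ⟨⁅(⟨b, hb⟩ : Cfsg.pCore p G)⁻¹, (⟨a, ha⟩ : Cfsg.pCore p G)⁻¹⁆,
    PGroups.commutator_le_frattini Cores.pCore_isPGroup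
      (Subgroup.commutator_mem_commutator (mem_top _) (mem_top _)), ?_⟩
  simp [commutatorElement_def, mul_assoc])

theorem pow_eq_one_of_mem_layer : ∀ v ∈ layer p G, v ^ p = 1 := by
  rintro _ ⟨a, ha, rfl⟩
  rw [← map_pow, QuotientGroup.mk'_apply, QuotientGroup.eq_one_iff]
  exact ⟨_, PGroups.pow_mem_frattini Cores.pCore_isPGroup (⟨a, ha⟩ : Cfsg.pCore p G), rfl⟩

theorem centralizer_layer_le (hs : Cfsg.IsPSolvable p G) (hK : Cfsg.pPrimeCore p G = ⊥) :
    centralizer (layer p G : Set (G ⧸ phi p G)) ≤ layer p G := by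
  have hp := (Fact.out : p.Prime)
  set P₀ := Cfsg.pCore p G with hP₀
  have hP₀p : IsPGroup p P₀ := Cores.pCore_isPGroup
  have hfaith : ∀ g : G, (∀ w ∈ P₀, g * w * g⁻¹ * w⁻¹ ∈ (frattini P₀).map P₀.subtype) → g ∈ P₀ := by
    have hNmem : ∀ g w : G, w ∈ (frattini P₀).map P₀.subtype → g * w * g⁻¹ ∈ (frattini P₀).map P₀.subtype := by
      rintro g _ ⟨u, hu, rfl⟩
      have hm : (frattini P₀).map (MulAut.conjNormal g : MulAut P₀).toMonoidHom = frattini P₀ :=
        Subgroup.characteristic_iff_map_eq.mp inferInstance _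
      exact ⟨(MulAut.conjNormal g : MulAut P₀) u, hm.le ⟨u, hu, rfl⟩, by simp⟩
    let C : Subgroup G :=
      { carrier := {g | ∀ w ∈ P₀, g * w * g⁻¹ * w⁻¹ ∈ (frattini P₀).map P₀.subtype}
        one_mem' := fun w _ => by simp
        mul_mem' := fun {g h} hg hh w hw => by
          rw [show g * h * w * (g * h)⁻¹ * w⁻¹ = g * (h * w * h⁻¹ * w⁻¹) * g⁻¹ * (g * w * g⁻¹ * w⁻¹) by group]
          exact Subgroup.mul_mem _ (hNmem g _ (hh w hw)) (hg w hw)
        inv_mem' := fun {g} hg w hw => by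
          rw [show g⁻¹ * w * g⁻¹⁻¹ * w⁻¹ = g⁻¹ * (g * w * g⁻¹ * w⁻¹)⁻¹ * g⁻¹⁻¹ by group]
          exact hNmem _ _ (Subgroup.inv_mem _ (hg w hw)) }
    haveI : C.Normal := Subgroup.Normal.mk fun g hg h w hw => by
      have hw' : h⁻¹ * w * h ∈ P₀ := (inferInstance : P₀.Normal).conj_mem' w hw h
      rw [show h * g * h⁻¹ * w * (h * g * h⁻¹)⁻¹ * w⁻¹ = h * (g * (h⁻¹ * w * h) * g⁻¹ * (h⁻¹ * w * h)⁻¹) * h⁻¹ by group]
      exact hNmem h _ (hg _ hw')
    have hCp : IsPGroup p C := by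
      rw [IsPGroup.iff_orderOf]
      intro g
      obtain ⟨k, m, hm, hkm⟩ := Nat.exists_eq_pow_mul_and_not_dvd (orderOf_pos g).ne' p hp.ne_one
      refine ⟨k, ?_⟩
      suffices hg : (g : G) ^ p ^ k = 1 by
        refine Nat.dvd_antisymm (orderOf_dvd_of_pow_eq_one (Subtype.ext hg)) ?_
        rw [hkm]; exact Dvd.intro _ rfl
      set y := (g : G) ^ p ^ k with hy
      have hyC : y ∈ C := C.pow_mem g.2 _
      have hyo : orderOf y ∣ m := by
        apply orderOf_dvd_of_pow_eq_one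
        rw [hy, ← pow_mul, ← hkm, ← Subgroup.coe_pow, pow_orderOf_eq_one, Subgroup.coe_one]
      have hcop : (Nat.card (zpowers y)).Coprime (Nat.card (frattini P₀)) := by
        obtain ⟨j, hj⟩ := IsPGroup.iff_card.mp (hP₀p.to_subgroup (frattini P₀))
        rw [hj, Nat.card_zpowers]
        exact Nat.Coprime.pow_right j (((hp.coprime_iff_not_dvd.mpr hm).symm).coprime_dvd_left hyo)
      have hyc := Coprime.le_centralizer_of_frattini (A := zpowers y) (K := P₀)
        (by rw [Subgroup.normalizer_eq_top_iff.mpr inferInstance]; exact le_top) hcop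
        (fun a ha w hw => (zpowers_le.mpr hyC ha) w hw) (mem_zpowers y)
      obtain ⟨j, hj⟩ := IsPGroup.iff_orderOf.mp hP₀p ⟨y, Cores.centralizer_pCore_le hs hK hyc⟩
      rw [← Subgroup.orderOf_coe] at hj
      rw [← orderOf_eq_one_iff]
      exact Nat.eq_one_of_dvd_coprimes (((hp.coprime_iff_not_dvd.mpr hm).symm).pow_right j) hyo hj.dvd
    exact fun g hg => Cores.le_pCore hCp hg
  intro y hy
  obtain ⟨g, rfl⟩ := QuotientGroup.mk'_surjective _ y
  refine ⟨g, hfaith g fun w hw => (QuotientGroup.eq_one_iff (N := phi p G) _).mp ?_, rfl⟩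
  have h := Subgroup.mem_centralizer_iff.mp hy _ (Subgroup.mem_map_of_mem _ hw)
  show QuotientGroup.mk' (phi p G) (g * w * g⁻¹ * w⁻¹) = 1
  rw [map_mul, map_mul, map_mul, map_inv, map_inv, ← h, mul_inv_cancel_right, mul_inv_cancel]

open scoped IsMulCommutative in
/-- Hall–Higman Theorem B on the Frattini quotient of `O_p(G)`. -/
theorem exists_layer_norm_ne_one (hp2 : p ≠ 2) (hs : Cfsg.IsPSolvable p G) (hK : Cfsg.pPrimeCore p G = ⊥)
    (hexc : (¬ ∃ k : ℕ, p = 2 ^ k + 1) ∨ ∀ S : Sylow 2 G, IsMulCommutative (S : Subgroup G))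
    (S : Sylow p G) (x : G) (hx : x ∈ (S : Subgroup G)) (n : ℕ)
    (hxn : x ^ p ^ (n + 1) ∈ Cfsg.pCore p G) (hz' : x ^ p ^ n ∉ Cfsg.pCore p G) :
    ∃ u : layer p G, ∏ i ∈ Finset.range (p ^ (n + 1)),
      (MulAut.conjNormal ((x : G ⧸ phi p G) ^ i) : MulAut (layer p G)) u ≠ 1 := by
  classical
  set P₀ := Cfsg.pCore p G with hP₀
  set xb : G ⧸ P₀ := QuotientGroup.mk' P₀ x with hxb'
  have hne : xb ^ p ^ n ≠ 1 := fun h => hz' ((QuotientGroup.eq_one_iff _).mp h)
  set F := Cfsg.pPrimeCore p (G ⧸ P₀) with hF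
  set z := xb ^ p ^ n with hz
  have hxp : IsPGroup p (zpowers xb) := (S.isPGroup'.map _).to_le (zpowers_le.mpr ⟨x, hx, rfl⟩)
  have hzn : ¬ F ≤ centralizer ({z} : Set (G ⧸ P₀)) := fun h => hne (by
    have h1 := H71.eq_bot_of_centralizes (Cores.isPSolvable_quotient hs P₀) Cores.pCore_quotient_pCore
      (A := zpowers z) (hxp.to_le (zpowers_le.mpr (pow_mem (mem_zpowers _) _))) (zpowers_le.mpr
        (Subgroup.mem_centralizer_iff.mpr fun f hf => (Subgroup.mem_centralizer_singleton_iff.mp (h hf))))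
    exact Subgroup.zpowers_eq_bot.mp h1)
  have hAF : zpowers xb ≤ Subgroup.normalizer (F : Set (G ⧸ P₀)) := by
    rw [Subgroup.normalizer_eq_top_iff.mpr inferInstance]; exact le_top
  have hcopF : (Nat.card (zpowers xb)).Coprime (Nat.card F) := by
    obtain ⟨j, hj⟩ := IsPGroup.iff_card.mp hxp
    rw [hj]
    exact Nat.Coprime.pow_left j (Cores.coprime_card_pPrimeCore (p := p)).symm
  obtain ⟨q, hq, Q₀, hQn, hQz⟩ : ∃ q : ℕ, q.Prime ∧ ∃ Q₀ : Sylow q F,
      zpowers xb ≤ Subgroup.normalizer (((Q₀ : Subgroup F).map F.subtype : Subgroup (G ⧸ P₀)) : Set (G ⧸ P₀)) ∧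
      ¬ (Q₀ : Subgroup F).map F.subtype ≤ centralizer ({z} : Set (G ⧸ P₀)) := by
    by_contra h
    push Not at h
    refine hzn (Coprime.le_of_exists_sylow_le fun q hq => ?_)
    haveI : Fact q.Prime := ⟨hq⟩
    obtain ⟨Q₀, hQ₀⟩ := Coprime.exists_invariant_sylow hAF hcopF
      (Or.inl (Group.isSolvable_of_comm fun a b => IsCyclic.isMulCommutative.is_comm.comm a b)) q
    exact ⟨Q₀, h q hq Q₀ hQ₀⟩
  haveI : Fact q.Prime := ⟨hq⟩
  set Q := (Q₀ : Subgroup F).map F.subtype with hQdef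
  have hQcop : (Nat.card Q).Coprime p :=
    (Cores.coprime_card_pPrimeCore (p := p) (G := G ⧸ P₀)).coprime_dvd_left
      (Subgroup.card_dvd_of_le (map_subtype_le _))
  have hqp : q ≠ p := by
    rintro rfl
    apply hQz
    obtain ⟨j, hj⟩ := IsPGroup.iff_card.mp (Q₀.isPGroup'.map F.subtype)
    rw [← hQdef] at hj
    have h1 : Nat.card Q = 1 := by
      rcases j with _ | j
      · rw [hj, pow_zero]
      · rw [hj] at hQcop
        exact absurd (Nat.eq_one_of_dvd_coprimes hQcop (dvd_pow_self q j.succ_ne_zero) dvd_rfl) hq.ne_one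
    rw [Subgroup.eq_bot_of_card_eq Q h1]
    exact bot_le
  let φ : G ⧸ P₀ →* (G ⧸ phi p G) ⧸ layer p G :=
    QuotientGroup.map P₀ (layer p G) (QuotientGroup.mk' (phi p G)) (comap_layer (p := p) (G := G)).ge
  have hφ : Function.Injective φ := by
    refine (injective_iff_map_eq_one φ).mpr fun v hv => ?_
    obtain ⟨w, rfl⟩ := QuotientGroup.mk_surjective v
    have h1 : w ∈ (layer p G).comap (QuotientGroup.mk' (phi p G)) :=
      (QuotientGroup.eq_one_iff (N := layer p G) (QuotientGroup.mk' (phi p G) w)).mp hv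
    rw [comap_layer] at h1
    exact (QuotientGroup.eq_one_iff _).mpr h1
  haveI : Fact q.Prime := ⟨hq⟩
  refine exists_norm_ne_one (s := q) hqp hp2 (Nat.succ_pos n) (layer p G) pow_eq_one_of_mem_layer
    (centralizer_layer_le hs hK) (Q.map φ) ((Q₀.isPGroup'.map F.subtype).map φ) (x : G ⧸ phi p G)
    (Subgroup.le_normalizer_map φ ⟨xb, hQn (mem_zpowers _), rfl⟩) ?_ ?_ ?_
  · rw [← QuotientGroup.mk_pow]
    exact mem_map_of_mem (QuotientGroup.mk' (phi p G)) hxn
  · rcases hexc with hf | hab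
    · exact Or.inl fun ⟨_, m, _, hm⟩ => hf ⟨m, hm⟩
    · by_cases hq2 : q = 2
      · subst hq2
        refine Or.inr ?_
        rintro _ ⟨a, ha, rfl⟩ _ ⟨b, hb, rfl⟩
        refine Commute.map ?_ φ
        obtain ⟨R, hR⟩ := (Q₀.isPGroup'.map F.subtype).exists_le_sylow
        obtain ⟨R', rfl⟩ := Sylow.mapSurjective_surjective (QuotientGroup.mk'_surjective P₀) 2 R
        obtain ⟨a', ha', rfl⟩ := hR ha
        obtain ⟨b', hb', rfl⟩ := hR hb
        exact Commute.map (PGroups.comm_of_isMulCommutative (hab R') ha' hb') _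
      · exact Or.inl fun h => hq2 h.1
  · obtain ⟨w, hw, hwz⟩ := SetLike.not_le_iff_exists.mp hQz
    refine ⟨φ w, mem_map_of_mem _ hw, fun h => hwz (Subgroup.mem_centralizer_singleton_iff.mpr ?_)⟩
    apply hφ
    rw [map_mul, map_mul, map_pow]
    exact h.symm

end Cfsg.Agent.H71
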