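import Mathlib.GroupTheory.SpecificGroups.Alternating
import Mathlib.GroupTheory.OrderOfElement
import Mathlib.Tactic.NormNum

/-!
Counts of elements by order in the alternating groups of degree 4, 5, 6.
-/

set_option autoImplicit false

namespace Cfsg.Agent.H71.Nse

universe u

/-- Boolean test for `orderOf g = m`. -/
def hasOrder {G : Type u} [Group G] [DecidableEq G] (g : G) (m : ℕ) : Bool :=
  decide (g ^ m = 1 ∧ ∀ k < m, 0 < k → g ^ k ≠ 1)

theorem hasOrder_iff {G : Type u} [Group G] [DecidableEq G] {g : G} {m : ℕ} (hm : 0 < m) :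
    hasOrder g m = true ↔ orderOf g = m := by
  rw [hasOrder, decide_eq_true_iff, orderOf_eq_iff hm]

theorem card_orderOf_eq {G : Type u} [Group G] [DecidableEq G] [Fintype G] {m : ℕ} (hm : 0 < m) :
    Nat.card {g : G // orderOf g = m} = (Finset.univ.filter fun g : G => hasOrder g m = true).card := by
  rw [← Fintype.card_subtype, ← Nat.card_eq_fintype_card]
  exact Nat.card_congr (Equiv.subtypeEquivRight fun g => (hasOrder_iff hm).symm)

/-- The set of counts, from a complete list of orders. -/
theorem image_eq {G : Type u} [Group G] [Finite G] (M : Finset ℕ) (v : ℕ → ℕ)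
    (h1 : ∀ g : G, orderOf g ∈ M) (h2 : ∀ m ∈ M, Nat.card {g : G // orderOf g = m} = v m ∧ v m ≠ 0) :
    ((fun m : ℕ => Nat.card {g : G // orderOf g = m}) '' Set.range (orderOf : G → ℕ)) = v '' (M : Set ℕ) := by
  ext x
  constructor
  · rintro ⟨_, ⟨g, rfl⟩, rfl⟩
    exact ⟨orderOf g, h1 g, (h2 _ (h1 g)).1.symm⟩
  · rintro ⟨m, hm, rfl⟩
    obtain ⟨e, h0⟩ := h2 m hm
    have : Nonempty {g : G // orderOf g = m} := by
      by_contra hne
      rw [not_nonempty_iff] at hne
      rw [Nat.card_of_isEmpty] at e
      exact h0 e.symm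
    obtain ⟨g, hg⟩ := this
    exact ⟨m, ⟨g, hg⟩, e⟩

set_option maxRecDepth 20000
set_option maxHeartbeats 2000000

theorem alt4_image :
    ((fun m : ℕ => Nat.card {g : ↥(alternatingGroup (Fin 4)) // orderOf g = m}) ''
      Set.range (orderOf : ↥(alternatingGroup (Fin 4)) → ℕ)) = {1, 3, 8} := by
  rw [image_eq {1, 2, 3} (fun m => if m = 1 then 1 else if m = 2 then 3 else 8)]
  · simp [Set.image_insert_eq]
  · have h : ∀ g : ↥(alternatingGroup (Fin 4)),
        hasOrder g 1 = true ∨ hasOrder g 2 = true ∨ hasOrder g 3 = true := by decide +kernel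
    intro g
    simp only [Finset.mem_insert, Finset.mem_singleton]
    rcases h g with h | h | h <;> simp [(hasOrder_iff (by norm_num)).1 h]
  · intro m hm
    simp only [Finset.mem_insert, Finset.mem_singleton] at hm
    rcases hm with rfl | rfl | rfl <;> refine ⟨?_, by norm_num⟩ <;>
      rw [card_orderOf_eq (by norm_num)] <;> decide +kernel

theorem alt5_image :
    ((fun m : ℕ => Nat.card {g : ↥(alternatingGroup (Fin 5)) // orderOf g = m}) ''
      Set.range (orderOf : ↥(alternatingGroup (Fin 5)) → ℕ)) = {1, 15, 20, 24} := by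
  rw [image_eq {1, 2, 3, 5}
    (fun m => if m = 1 then 1 else if m = 2 then 15 else if m = 3 then 20 else 24)]
  · simp [Set.image_insert_eq]
  · have h : ∀ g : ↥(alternatingGroup (Fin 5)),
        hasOrder g 1 = true ∨ hasOrder g 2 = true ∨ hasOrder g 3 = true ∨ hasOrder g 5 = true := by
      decide +kernel
    intro g
    simp only [Finset.mem_insert, Finset.mem_singleton]
    rcases h g with h | h | h | h <;> simp [(hasOrder_iff (by norm_num)).1 h]
  · intro m hm
    simp only [Finset.mem_insert, Finset.mem_singleton] at hm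
    rcases hm with rfl | rfl | rfl | rfl <;> refine ⟨?_, by norm_num⟩ <;>
      rw [card_orderOf_eq (by norm_num)] <;> decide +kernel

theorem alt6_image :
    ((fun m : ℕ => Nat.card {g : ↥(alternatingGroup (Fin 6)) // orderOf g = m}) ''
      Set.range (orderOf : ↥(alternatingGroup (Fin 6)) → ℕ)) = {1, 45, 80, 90, 144} := by
  rw [image_eq {1, 2, 3, 4, 5}
    (fun m => if m = 1 then 1 else if m = 2 then 45 else if m = 3 then 80 else if m = 4 then 90 else 144)]
  · simp [Set.image_insert_eq]
  · have h : ∀ g : ↥(alternatingGroup (Fin 6)),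
        hasOrder g 1 = true ∨ hasOrder g 2 = true ∨ hasOrder g 3 = true ∨ hasOrder g 4 = true ∨
          hasOrder g 5 = true := by
      decide +kernel
    intro g
    simp only [Finset.mem_insert, Finset.mem_singleton]
    rcases h g with h | h | h | h | h <;> simp [(hasOrder_iff (by norm_num)).1 h]
  · intro m hm
    simp only [Finset.mem_insert, Finset.mem_singleton] at hm
    rcases hm with rfl | rfl | rfl | rfl | rfl <;> refine ⟨?_, by norm_num⟩ <;>
      rw [card_orderOf_eq (by norm_num)] <;> decide +kernel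

end Cfsg.Agent.H71.Nse
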