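import Cfsg.Agent.H84.FrobeniusCount
import Cfsg.Agent.H87.CyclicCount
import Mathlib.GroupTheory.Sylow
import Mathlib.GroupTheory.OrderOfElement
import Mathlib.NumberTheory.Divisors

/-!
Numbers of elements of given orders: general facts.
-/

set_option autoImplicit false
set_option linter.style.haveILetI false

namespace Cfsg.Agent.H71.Nse

universe u

variable {G : Type u} [Group G]

/-- The number of elements of order `m`. -/
noncomputable def ocount (G : Type u) [Group G] (m : ℕ) : ℕ := Nat.card {g : G // orderOf g = m}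

variable [Finite G]

theorem ocount_ne_zero_iff {m : ℕ} : ocount G m ≠ 0 ↔ ∃ g : G, orderOf g = m := by
  rw [ocount, Nat.card_ne_zero, nonempty_subtype]
  exact and_iff_left inferInstance

theorem ocount_pos_of {g : G} : ocount G (orderOf g) ≠ 0 := ocount_ne_zero_iff.2 ⟨g, rfl⟩

theorem ocount_one {G : Type u} [Group G] : ocount G 1 = 1 := by
  rw [ocount, Nat.card_eq_one_iff_unique]
  exact ⟨⟨fun a b => Subtype.ext ((orderOf_eq_one_iff.1 a.2).trans (orderOf_eq_one_iff.1 b.2).symm)⟩,
    ⟨⟨1, orderOf_one⟩⟩⟩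

theorem ocount_of_dvd {m d : ℕ} (h : ocount G m ≠ 0) (hd : d ∣ m) : ocount G d ≠ 0 := by
  obtain ⟨g, rfl⟩ := ocount_ne_zero_iff.1 h
  exact ocount_ne_zero_iff.2 ⟨g ^ (orderOf g / d),
    orderOf_pow_orderOf_div (orderOf_pos g).ne' hd⟩

theorem dvd_card_of_ocount {m : ℕ} (h : ocount G m ≠ 0) : m ∣ Nat.card G := by
  obtain ⟨g, rfl⟩ := ocount_ne_zero_iff.1 h
  exact orderOf_dvd_natCard g

theorem ocount_eq_zero_of_not_dvd {m : ℕ} (h : ¬ m ∣ Nat.card G) : ocount G m = 0 :=
  by_contra fun h0 => h (dvd_card_of_ocount h0)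

theorem pos_of_ocount {m : ℕ} (h : ocount G m ≠ 0) : 0 < m := by
  obtain ⟨g, rfl⟩ := ocount_ne_zero_iff.1 h
  exact orderOf_pos g

theorem totient_dvd_ocount (m : ℕ) : m.totient ∣ ocount G m := by
  refine H87.CyclicCount.dvd_card (fun g : G => orderOf g = m) ?_ _ fun x hx => by rw [hx]
  intro x y hx hyx
  rw [← Nat.card_zpowers, hyx, Nat.card_zpowers, hx]

/-- The elements killed by `n` are counted by the orders dividing `n`. -/
theorem card_pow_eq_one_eq_sum {n : ℕ} (hn : n ≠ 0) :
    Nat.card {g : G // g ^ n = 1} = ∑ d ∈ n.divisors, ocount G d := by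
  classical
  cases nonempty_fintype G
  simp only [ocount, Nat.card_eq_fintype_card, Fintype.card_subtype]
  exact (sum_card_orderOf_eq_card_pow_eq_one hn).symm

theorem dvd_sum_of_dvd_card {n : ℕ} (h : n ∣ Nat.card G) : n ∣ ∑ d ∈ n.divisors, ocount G d := by
  rw [← card_pow_eq_one_eq_sum (ne_zero_of_dvd_ne_zero Nat.card_pos.ne' h)]
  exact H84.dvd_card_pow_eq_one h

theorem dvd_sum_of_ocount {n : ℕ} (h : ocount G n ≠ 0) : n ∣ ∑ d ∈ n.divisors, ocount G d :=
  dvd_sum_of_dvd_card (dvd_card_of_ocount h)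

theorem card_eq_sum (M : Finset ℕ) (hM : ∀ m, ocount G m ≠ 0 → m ∈ M) :
    Nat.card G = ∑ m ∈ M, ocount G m := by
  classical
  cases nonempty_fintype G
  simp only [ocount, Nat.card_eq_fintype_card, Fintype.card_subtype]
  rw [← Finset.card_univ]
  exact Finset.card_eq_sum_card_fiberwise fun g _ => hM _ ocount_pos_of

/-- A prime bound: if each prime occurs to bounded power in element orders then the orders divide. -/
theorem dvd_of_ocount {L : ℕ} (hL : L ≠ 0)
    (h : ∀ p : ℕ, p.Prime → ocount G (p ^ (L.factorization p + 1)) = 0) {m : ℕ}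
    (hm : ocount G m ≠ 0) : m ∣ L := by
  rw [← Nat.factorization_le_iff_dvd (pos_of_ocount hm).ne' hL]
  intro p
  by_contra hlt
  by_cases hp : p.Prime
  · refine ocount_of_dvd hm ?_ (h p hp)
    exact (pow_dvd_pow p (Nat.lt_of_not_le hlt)).trans (Nat.ordProj_dvd m p)
  · simp [Nat.factorization_eq_zero_of_not_prime _ hp] at hlt

/-- Powers of `p` beyond the exponent do not occur. -/
theorem ocount_pow_eq_zero {p e j : ℕ} (h : ocount G (p ^ (e + 1)) = 0) (hj : e < j) :
    ocount G (p ^ j) = 0 :=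
  by_contra fun h0 => ocount_of_dvd h0 (pow_dvd_pow p hj) h

/-- A power `p ^ b` dividing the group order divides the number of elements of order `p ^ j`, `j ≤ e`,
if `p ^ (e + 1)` is not an element order. -/
theorem pow_dvd_sum {p e b : ℕ} (hp : p.Prime) (h : ocount G (p ^ (e + 1)) = 0) (he : e ≤ b)
    (hb : p ^ b ∣ Nat.card G) : p ^ b ∣ ∑ j ∈ Finset.range (e + 1), ocount G (p ^ j) := by
  have h1 := dvd_sum_of_dvd_card hb
  rw [Nat.sum_divisors_prime_pow hp] at h1
  convert h1 using 1
  refine Finset.sum_subset (Finset.range_mono (by omega)) fun j _ hj => ?_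
  exact ocount_pow_eq_zero h (by simp at hj; omega)

/-- If a Sylow `p`-subgroup has order `p`, then `(p - 1)` times their number counts the elements of
order `p`. -/
theorem card_sylow_mul {p : ℕ} [hp : Fact p.Prime] (P : Sylow p G) (hP : Nat.card P = p) :
    Nat.card (Sylow p G) * (p - 1) = ocount G p := by
  have hY : Nat.card (Sylow p G) = Nat.card {Y : Subgroup G // ∃ x, orderOf x = p ∧ Subgroup.zpowers x = Y} := by
    have hall : ∀ Q : Sylow p G, Nat.card (Q : Subgroup G) = p := fun Q =>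
      (Nat.card_congr (Sylow.equiv Q P).toEquiv).trans hP
    refine Nat.card_congr (Equiv.ofBijective (fun Q => ⟨(Q : Subgroup G), ?_⟩) ⟨?_, ?_⟩)
    · obtain ⟨x, hx⟩ := exists_prime_orderOf_dvd_card' (G := (Q : Subgroup G)) p (hall Q).symm.dvd
      refine ⟨x.1, by rw [Subgroup.orderOf_coe, hx], ?_⟩
      exact Subgroup.eq_of_le_of_card_ge (Subgroup.zpowers_le.2 x.2)
        (by rw [Nat.card_zpowers, Subgroup.orderOf_coe, hx, hall])
    · intro Q R h
      exact Sylow.ext (congrArg Subtype.val h)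
    · rintro ⟨Y, x, hx, rfl⟩
      obtain ⟨Q, hQ⟩ := (IsPGroup.of_card (p := p) (n := 1) (G := Subgroup.zpowers x)
        (by rw [Nat.card_zpowers, hx, pow_one])).exists_le_sylow
      exact ⟨Q, Subtype.ext (Subgroup.eq_of_le_of_card_ge hQ
        (by rw [Nat.card_zpowers, hx, hall])).symm⟩
  rw [hY, ← Nat.totient_prime hp.out]
  refine (H87.CyclicCount.card_eq_mul (fun g : G => orderOf g = p) ?_ p fun x hx => hx).symm
  intro x y hx hyx
  rw [← Nat.card_zpowers, hyx, Nat.card_zpowers, hx]

/-- A cyclic Sylow subgroup: every element of order `p` has `p ^ e` roots of order `p ^ (e + 1)`. -/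
theorem cyclic_bound {p e : ℕ} [hp : Fact p.Prime] (h : ocount G (p ^ (e + 1)) ≠ 0)
    (hmax : ¬ p ^ (e + 2) ∣ Nat.card G) : p ^ e * ocount G p ≤ ocount G (p ^ (e + 1)) := by
  classical
  obtain ⟨x, hx⟩ := ocount_ne_zero_iff.1 h
  obtain ⟨Q, hQ⟩ := (IsPGroup.of_card (p := p) (n := e + 1) (G := Subgroup.zpowers x)
    (by rw [Nat.card_zpowers, hx])).exists_le_sylow
  have hQx : Subgroup.zpowers x = (Q : Subgroup G) := by
    obtain ⟨k, hk⟩ := Q.2.exists_card_eq
    refine Subgroup.eq_of_le_of_card_ge hQ ?_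
    rw [Nat.card_zpowers, hx, hk]
    refine Nat.pow_le_pow_right hp.out.pos ?_
    by_contra hlt
    exact hmax ((pow_dvd_pow p (by omega)).trans (hk ▸ Subgroup.card_subgroup_dvd_card _))
  let S := {g : G // orderOf g = p ^ (e + 1)}
  let T := {g : G // orderOf g = p}
  let f : S → T := fun g => ⟨g.1 ^ p ^ e, by
    rw [orderOf_pow' _ (pow_ne_zero e hp.out.ne_zero), g.2, Nat.gcd_eq_right (pow_dvd_pow p (by omega)),
      pow_succ, Nat.mul_div_cancel_left _ (pow_pos hp.out.pos e)]⟩
  have hfib : ∀ y : T, p ^ e ≤ Nat.card {g : S // f g = y} := by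
    rintro ⟨y, hy⟩
    obtain ⟨R, hR⟩ := (IsPGroup.of_card (p := p) (n := 1) (G := Subgroup.zpowers y)
      (by rw [Nat.card_zpowers, hy, pow_one])).exists_le_sylow
    let φ := Sylow.equiv Q R
    have hgen : ∀ r : (R : Subgroup G), r ∈ Subgroup.zpowers (φ ⟨x, hQ (Subgroup.mem_zpowers x)⟩) := by
      intro r
      obtain ⟨i, hi⟩ := (hQx.symm ▸ (φ.symm r).2 : (φ.symm r : G) ∈ Subgroup.zpowers x)
      refine ⟨i, ?_⟩
      dsimp only
      rw [← map_zpow]
      apply φ.symm.injective
      rw [MulEquiv.symm_apply_apply]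
      exact Subtype.ext (by simpa using hi)
    set w := φ ⟨x, hQ (Subgroup.mem_zpowers x)⟩ with hw
    have how : orderOf (w : G) = p ^ (e + 1) := by
      rw [Subgroup.orderOf_coe, hw, MulEquiv.orderOf_eq, ← Subgroup.orderOf_coe, hx]
    obtain ⟨i, hi⟩ := hgen ⟨y, hR (Subgroup.mem_zpowers y)⟩
    have hiy : (w : G) ^ i = y := by simpa using congrArg Subtype.val hi
    have hpe : ((p : ℤ) ^ e) ∣ i := by
      have h1 : ((w : G) ^ i) ^ (p : ℤ) = 1 := by
        rw [hiy, zpow_natCast, ← hy, pow_orderOf_eq_one]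
      rw [← zpow_mul, ← orderOf_dvd_iff_zpow_eq_one, how, Nat.cast_pow, pow_succ] at h1
      exact Int.dvd_of_mul_dvd_mul_right (by exact_mod_cast hp.out.ne_zero) h1
    obtain ⟨c, rfl⟩ := hpe
    let root : Fin (p ^ e) → G := fun j => (w : G) ^ (c + (p : ℤ) * (j : ℕ))
    have hroot : ∀ j, root j ^ p ^ e = y := by
      intro j
      have h0 : ((w : G) ^ ((p ^ (e + 1) : ℕ) : ℤ)) = 1 := by rw [zpow_natCast, ← how, pow_orderOf_eq_one]
      rw [← hiy, ← zpow_natCast (root j), ← zpow_mul, add_mul, zpow_add]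
      rw [show c * ((p ^ e : ℕ) : ℤ) = (p : ℤ) ^ e * c by push_cast; ring,
        show (p : ℤ) * (j : ℕ) * ((p ^ e : ℕ) : ℤ) = ((p ^ (e + 1) : ℕ) : ℤ) * (j : ℕ) by push_cast; ring,
        zpow_mul _ (((p ^ (e + 1) : ℕ) : ℤ)), h0, one_zpow, mul_one]
    have hord : ∀ j, orderOf (root j) = p ^ (e + 1) := fun j => by
      have hd : orderOf (root j) ∣ p ^ (e + 1) := by
        rw [orderOf_dvd_iff_pow_eq_one, pow_succ, pow_mul, hroot, ← hy, pow_orderOf_eq_one]
      obtain ⟨k, hk, hk'⟩ := (Nat.dvd_prime_pow hp.out).1 hd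
      rcases eq_or_lt_of_le hk with rfl | hlt
      · exact hk'
      · have : root j ^ p ^ e = 1 := orderOf_dvd_iff_pow_eq_one.1 (hk' ▸ pow_dvd_pow p (by omega))
        rw [hroot j] at this
        rw [this, orderOf_one] at hy
        exact absurd hy hp.out.one_lt.ne
    let g : Fin (p ^ e) → {g : S // f g = ⟨y, hy⟩} := fun j => ⟨⟨root j, hord j⟩, Subtype.ext (hroot j)⟩
    have hinj : Function.Injective g := by
      intro j k hjk
      have h1 : root j = root k := congrArg (fun z => z.1.1) hjk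
      have h2 := zpow_eq_zpow_iff_modEq.1 h1
      rw [how, Int.modEq_iff_dvd] at h2
      push_cast at h2
      rw [pow_succ', show c + (p : ℤ) * (k : ℕ) - (c + (p : ℤ) * (j : ℕ)) = (p : ℤ) * ((k : ℕ) - (j : ℕ) : ℤ) by ring] at h2
      have h3 := (mul_dvd_mul_iff_left (by exact_mod_cast hp.out.ne_zero)).1 h2
      have h4 : ((k : ℕ) : ℤ) - (j : ℕ) = 0 := by
        refine Int.eq_zero_of_abs_lt_dvd h3 ?_
        have h5 : ((p ^ e : ℕ) : ℤ) = (p : ℤ) ^ e := by push_cast; rfl
        rw [← h5, abs_lt]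
        have := j.2; have := k.2
        constructor <;> omega
      exact Fin.ext (by omega)
    simpa using Nat.card_le_card_of_injective g hinj
  haveI : Fintype T := Fintype.ofFinite T
  change p ^ e * Nat.card T ≤ Nat.card S
  rw [← Nat.card_congr (Equiv.sigmaFiberEquiv f), Nat.card_sigma, Nat.card_eq_fintype_card (α := T),
    mul_comm]
  simpa using Finset.card_nsmul_le_sum Finset.univ _ (p ^ e) fun y _ => hfib y

/-- An element normalising a subgroup of prime order `q` centralises it if its order is prime to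
`q - 1`. -/
theorem commute_of_normalizes {q : ℕ} (hq : q.Prime) {H : Subgroup G} (hH : Nat.card H = q) {y : G}
    (hy : y ∈ Subgroup.normalizer (H : Set G)) (hco : (orderOf y).Coprime (q - 1)) :
    ∀ h ∈ H, y * h = h * y := by
  classical
  haveI := Fact.mk hq
  haveI : IsCyclic H := isCyclic_of_prime_card hH
  let α : MulAut H :=
    { toFun := fun h => ⟨y * h * y⁻¹, (Subgroup.mem_normalizer_iff.1 hy h).1 h.2⟩
      invFun := fun h => ⟨y⁻¹ * h * y, (Subgroup.mem_normalizer_iff''.1 hy h).1 h.2⟩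
      left_inv := fun h => Subtype.ext (by simp [mul_assoc])
      right_inv := fun h => Subtype.ext (by simp [mul_assoc])
      map_mul' := fun a b => Subtype.ext (by simp [mul_assoc]) }
  have hpow : ∀ (n : ℕ) (h : H), ((α ^ n) h : G) = y ^ n * h * (y ^ n)⁻¹ := by
    intro n
    induction n with
    | zero => simp
    | succ n ih =>
      intro h
      rw [pow_succ', MulAut.mul_apply]
      show y * ((α ^ n) h : G) * y⁻¹ = _
      rw [ih, pow_succ']
      simp [mul_assoc]
  have h1 : orderOf α ∣ orderOf y :=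
    orderOf_dvd_of_pow_eq_one (MulEquiv.ext fun h => Subtype.ext (by
      rw [hpow, pow_orderOf_eq_one]; simp))
  have h2 : orderOf α ∣ q - 1 := by
    have := orderOf_dvd_natCard α
    rwa [Nat.card_congr (IsCyclic.mulAutMulEquiv H).toEquiv, Nat.card_eq_fintype_card,
      ZMod.card_units_eq_totient, hH, Nat.totient_prime hq] at this
  have hα : α = 1 := orderOf_eq_one_iff.1 (Nat.eq_one_of_dvd_coprimes hco h1 h2)
  intro h hh
  have := congrArg Subtype.val (MulEquiv.congr_fun hα ⟨h, hh⟩)
  exact mul_inv_eq_iff_eq_mul.1 this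

/-- Commuting elements of coprime orders give the product order. -/
theorem ocount_mul_ne_zero {a b : G} (hc : a * b = b * a) (hco : (orderOf a).Coprime (orderOf b)) :
    ocount G (orderOf a * orderOf b) ≠ 0 := by
  rw [← Commute.orderOf_mul_eq_mul_orderOf_of_coprime hc hco]
  exact ocount_pos_of

/-- The index of the normaliser of a cyclic subgroup times its number of generators bounds `ocount`. -/
theorem index_mul_le_ocount (x : G) :
    (Subgroup.normalizer (Subgroup.zpowers x : Set G)).index * (orderOf x).totient ≤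
      ocount G (orderOf x) := by
  classical
  set N := Subgroup.normalizer (Subgroup.zpowers x : Set G)
  rw [ocount, H87.CyclicCount.card_eq_mul (fun g : G => orderOf g = orderOf x) ?_ (orderOf x) fun _ h => h]
  · refine Nat.mul_le_mul_right _ ?_
    rw [Subgroup.index]
    refine Nat.card_le_card_of_injective (fun c : G ⧸ N =>
      (⟨Subgroup.zpowers (c.out * x * c.out⁻¹), c.out * x * c.out⁻¹, by
        rw [show c.out * x * c.out⁻¹ = MulAut.conj c.out x from rfl, MulEquiv.orderOf_eq], rfl⟩ :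
        {Y : Subgroup G // ∃ g, orderOf g = orderOf x ∧ Subgroup.zpowers g = Y})) ?_
    intro a b hab
    have h1 : Subgroup.zpowers (a.out * x * a.out⁻¹) = Subgroup.zpowers (b.out * x * b.out⁻¹) :=
      congrArg Subtype.val hab
    rw [← QuotientGroup.out_eq' a, ← QuotientGroup.out_eq' b, QuotientGroup.eq]
    set c := a.out⁻¹ * b.out with hc
    have hmap : ∀ g z : G, Subgroup.zpowers (g * z * g⁻¹) = (Subgroup.zpowers z).map (MulAut.conj g).toMonoidHom :=
      fun g z => by rw [MonoidHom.map_zpowers]; rfl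
    have h2 : (Subgroup.zpowers x).map (MulAut.conj c).toMonoidHom = Subgroup.zpowers x := by
      rw [hmap, hmap] at h1
      have h3 := congrArg (Subgroup.map (MulAut.conj a.out⁻¹).toMonoidHom) h1
      rw [Subgroup.map_map, Subgroup.map_map] at h3
      rw [show (MulAut.conj c).toMonoidHom = (MulAut.conj a.out⁻¹).toMonoidHom.comp (MulAut.conj b.out).toMonoidHom by
        rw [hc, map_mul]; rfl, ← h3]
      convert Subgroup.map_id _ using 2
      ext z; simp [mul_assoc]
    rw [Subgroup.mem_normalizer_iff]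
    intro z
    constructor
    · intro hz
      rw [← h2]
      exact ⟨z, hz, rfl⟩
    · intro hz
      rw [← h2] at hz
      obtain ⟨w, hw, hwz⟩ := hz
      have : w = z := (MulAut.conj c).injective hwz
      exact this ▸ hw
  · intro a b ha hba
    rw [← Nat.card_zpowers, hba, Nat.card_zpowers, ha]

end Cfsg.Agent.H71.Nse
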