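import Cfsg.Agent.H71.NseFour
import Cfsg.Agent.H70.Sixty
import Cfsg.Agent.S0494

/-!
A group with the counts `{1, 15, 20, 24}` is the alternating group of degree five.
-/

set_option autoImplicit false
set_option linter.style.haveILetI false

namespace Cfsg.Agent.H71.Nse

universe u

variable {G : Type u} [Group G] [Finite G]

theorem dvd_of_ocount_three {a b c : ℕ} (h2 : ocount G (2 ^ (a + 1)) = 0)
    (h3 : ocount G (3 ^ (b + 1)) = 0) (h5 : ocount G (5 ^ (c + 1)) = 0)
    (ho : ∀ p : ℕ, p.Prime → ocount G p ≠ 0 → p = 2 ∨ p = 3 ∨ p = 5) {m : ℕ} (hm : ocount G m ≠ 0) :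
    m ∣ 2 ^ a * 3 ^ b * 5 ^ c := by
  refine dvd_of_ocount (by positivity) (fun p hp => ?_) hm
  by_contra h
  have e : ∀ q : ℕ, (2 ^ a * 3 ^ b * 5 ^ c).factorization q =
      (if 2 = q then a else 0) + (if 3 = q then b else 0) + (if 5 = q then c else 0) := fun q => by
    rw [Nat.factorization_mul (by positivity) (by positivity),
      Nat.factorization_mul (by positivity) (by positivity), Nat.prime_two.factorization_pow,
      Nat.prime_three.factorization_pow, (by norm_num : Nat.Prime 5).factorization_pow]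
    simp [Finsupp.single_apply]
  rcases ho p hp (ocount_of_dvd h (dvd_pow_self p (Nat.succ_ne_zero _))) with rfl | rfl | rfl <;>
    rw [e] at h <;> simp at h <;> contradiction

theorem normalizer_zpowers_le {G : Type u} [Group G] (x : G) (k : ℕ) :
    Subgroup.normalizer (Subgroup.zpowers x : Set G) ≤
      Subgroup.normalizer (Subgroup.zpowers (x ^ k) : Set G) := by
  intro g hg
  have key : ∀ g ∈ Subgroup.normalizer (Subgroup.zpowers x : Set G),
      ∀ h ∈ Subgroup.zpowers (x ^ k), g * h * g⁻¹ ∈ Subgroup.zpowers (x ^ k) := by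
    rintro g hg h ⟨i, rfl⟩
    obtain ⟨j, hj⟩ := (Subgroup.mem_normalizer_iff.1 hg x).1 (Subgroup.mem_zpowers x)
    refine ⟨j * i, ?_⟩
    dsimp only at hj ⊢
    rw [← conj_zpow, ← conj_pow, ← hj, ← zpow_natCast x k, ← zpow_natCast (x ^ j) k, ← zpow_mul,
      ← zpow_mul, ← zpow_mul]
    congr 1
    ring
  rw [Subgroup.mem_normalizer_iff]
  intro h
  refine ⟨key g hg h, fun hh => ?_⟩
  have := key g⁻¹ (inv_mem hg) _ hh
  simpa [mul_assoc] using this

theorem five_prime (hV : Vals G {1, 15, 20, 24}) {p : ℕ} (hp : p.Prime) (hs : ocount G p ≠ 0) :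
    p = 2 ∨ (p = 3 ∧ ocount G p = 20) ∨ (p = 5 ∧ ocount G p = 24) := by
  rcases eq_or_ne p 2 with h2 | h2
  · exact Or.inl h2
  have ht := totient_dvd_ocount (G := G) p
  have hd := dvd_sum_of_ocount hs
  rw [Nat.totient_prime hp] at ht
  rw [hp.divisors, Finset.sum_pair (Ne.symm hp.ne_one), ocount_one] at hd
  have h3 : 3 ≤ p := by have := hp.two_le; omega
  have hm := hV.mem p hs
  simp only [Set.mem_insert_iff, Set.mem_singleton_iff] at hm
  rcases hm with h | h | h | h <;> rw [h] at ht hd <;> have := Nat.le_of_dvd (by norm_num) hd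
  · omega
  all_goals interval_cases p <;> first | omega | (norm_num at hp)

theorem five_arith_one (N a b c : ℕ) (ha : a = 0 ∨ a = 20 ∨ a = 24) (hb : b = 0 ∨ b = 20 ∨ b = 24)
    (hc : c = 0 ∨ c = 24) (hN : N = 16 + a + b + c) (h20 : a = 20 ∨ b = 20 ∨ c = 20)
    (h24 : a = 24 ∨ b = 24 ∨ c = 24) (h16 : c ≠ 0 → 16 ∣ 16 + a + b + c ∧ a ≠ 0 ∧ b ≠ 0) : 5 ∣ N := by
  rcases ha with rfl | rfl | rfl <;> rcases hb with rfl | rfl | rfl <;> rcases hc with rfl | rfl <;>
    simp_all

theorem five_arith_two (N a b c d : ℕ) (ha : a = 0 ∨ a = 20 ∨ a = 24) (hb : b = 0 ∨ b = 20 ∨ b = 24)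
    (hc : c = 0 ∨ c = 24) (hd : d = 0 ∨ d = 20) (hN : N = 40 + a + b + c + d) (h25 : 25 ∣ N)
    (_h2 : 2 ∣ N) (h4 : a ≠ 0 → 4 ∣ N) (h8 : b ≠ 0 → 8 ∣ N) (h16 : c ≠ 0 → 16 ∣ N) : False := by
  rcases ha with rfl | rfl | rfl <;> rcases hb with rfl | rfl | rfl <;> rcases hc with rfl | rfl <;>
    rcases hd with rfl | rfl <;> simp_all

theorem five_arith_three (N a b c d e f : ℕ) (ha : a = 0 ∨ a = 20 ∨ a = 24)
    (hb : b = 0 ∨ b = 20 ∨ b = 24) (hc : c = 0 ∨ c = 24) (hd : d = 0 ∨ d = 24)
    (he : e = 0 ∨ e = 20 ∨ e = 24) (hf : f = 0 ∨ f = 24)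
    (hN : N = 60 + a + b + c + d + e + f) (h30 : 30 ∣ N) (h9 : ¬ 9 ∣ N) (_h25 : ¬ 25 ∣ N)
    (h16 : c ≠ 0 → 16 ∣ N) (hde : d = 0 → e = 0 ∧ f = 0) : N = 60 := by
  rcases ha with rfl | rfl | rfl <;> rcases hb with rfl | rfl | rfl <;> rcases hd with rfl | rfl <;>
    rcases hc with rfl | rfl <;> omega

theorem alt_five (hV : Vals G {1, 15, 20, 24}) : Nonempty (G ≃* alternatingGroup (Fin 5)) := by
  haveI := Fact.mk Nat.prime_three
  haveI : Fact (Nat.Prime 5) := ⟨by norm_num⟩
  have h1 : ocount G 1 = 1 := ocount_one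
  have h2 : ocount G 2 = 15 := ocount_two_eq (by decide) (by norm_num) (hV.att 15 (by simp))
  have hmem : ∀ m, ocount G m = 0 ∨ ocount G m = 1 ∨ ocount G m = 15 ∨ ocount G m = 20 ∨
      ocount G m = 24 := fun m => by
    rcases eq_or_ne (ocount G m) 0 with h | h
    · exact Or.inl h
    · right; simpa using hV.mem m h
  -- values at orders with totient even or larger
  have hv : ∀ m, 2 ∣ m.totient → ocount G m = 0 ∨ ocount G m = 20 ∨ ocount G m = 24 := fun m hm => by
    have := hm.trans (totient_dvd_ocount (G := G) m)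
    rcases hmem m with h | h | h | h | h <;> omega
  have hv24 : ∀ m, 8 ∣ m.totient ∨ 6 ∣ m.totient → ocount G m = 0 ∨ ocount G m = 24 := fun m hm => by
    have e := totient_dvd_ocount (G := G) m
    rcases hm with hm | hm <;> have := hm.trans e <;> rcases hmem m with h | h | h | h | h <;> omega
  have v4 := hv 4 (by decide)
  have v6 := hv 6 (by decide)
  have v8 := hv 8 (by decide)
  have v10 := hv 10 (by decide)
  have v12 := hv 12 (by decide)
  have v16 := hv24 16 (by decide)
  have v24 := hv24 24 (by decide)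
  have v3 : ocount G 3 = 0 ∨ ocount G 3 = 20 := by
    by_contra h
    rcases five_prime hV Nat.prime_three (by omega) with e | ⟨-, e⟩ | ⟨e, -⟩ <;> omega
  have v5 : ocount G 5 = 0 ∨ ocount G 5 = 24 := by
    by_contra h
    rcases five_prime hV (p := 5) (by norm_num) (by omega) with e | ⟨e, -⟩ | ⟨-, e⟩ <;> omega
  have s32 : ocount G 32 = 0 := by
    have := (show 16 ∣ Nat.totient 32 by decide).trans (totient_dvd_ocount (G := G) 32)
    rcases hmem 32 with h | h | h | h | h <;> omega
  have s27 : ocount G 27 = 0 := by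
    have := (show 18 ∣ Nat.totient 27 by decide).trans (totient_dvd_ocount (G := G) 27)
    rcases hmem 27 with h | h | h | h | h <;> omega
  have s25 : ocount G 25 = 0 := by
    by_contra h
    have e := (show 20 ∣ Nat.totient 25 by decide).trans (totient_dvd_ocount (G := G) 25)
    have hd := dvd_sum_of_ocount h
    have h5 := ocount_of_dvd h (show 5 ∣ 25 by norm_num)
    rw [show Nat.divisors 25 = {1, 5, 25} by decide] at hd
    simp [h1] at hd
    rcases hmem 25 with h | h | h | h | h <;> omega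
  have s9 : ocount G 9 = 0 := by
    by_contra h
    have e : ocount G 9 = 24 := (hv24 9 (by decide)).resolve_left h
    have h3 : ocount G 3 = 20 := v3.resolve_left (ocount_of_dvd h (by norm_num))
    have hb : ¬ 3 ^ (1 + 2) ∣ Nat.card G := fun hb => by
      have := pow_dvd_sum (G := G) (p := 3) (e := 2) (b := 3) Nat.prime_three (by simpa using s27)
        (by norm_num) hb
      simp [Finset.sum_range_succ, h1, h3, e] at this
    have := cyclic_bound (G := G) (p := 3) (e := 1) (by simpa using h) hb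
    norm_num [h3, e] at this
  have s15 : ocount G 15 = 0 := by
    by_contra h
    have e : ocount G 15 = 24 := (hv24 15 (by decide)).resolve_left h
    have h3 : ocount G 3 = 20 := v3.resolve_left (ocount_of_dvd h (by norm_num))
    have h5 : ocount G 5 = 24 := v5.resolve_left (ocount_of_dvd h (by norm_num))
    have hd := dvd_sum_of_ocount h
    rw [show Nat.divisors 15 = {1, 3, 5, 15} by decide] at hd
    simp [h1, h3, h5, e] at hd
  have s10' : ocount G 10 ≠ 0 → ocount G 10 = 20 := fun h => by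
    have h5 : ocount G 5 = 24 := v5.resolve_left (ocount_of_dvd h (by norm_num))
    have hd := dvd_sum_of_ocount h
    rw [show Nat.divisors 10 = {1, 2, 5, 10} by decide] at hd
    simp [h1, h2, h5] at hd
    rcases v10 with e | e | e <;> omega
  have s20 : ocount G 20 = 0 := by
    by_contra h
    have e : ocount G 20 = 24 := (hv24 20 (by decide)).resolve_left h
    have h5 : ocount G 5 = 24 := v5.resolve_left (ocount_of_dvd h (by norm_num))
    have h10 := s10' (ocount_of_dvd h (by norm_num))
    have hd := dvd_sum_of_ocount h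
    rw [show Nat.divisors 20 = {1, 2, 4, 5, 10, 20} by decide] at hd
    simp [h1, h2, h5, h10, e] at hd
    rcases v4 with e | e | e <;> omega
  have s6' : ocount G 6 ≠ 0 → ocount G 6 = 24 := fun h => by
    have h3 : ocount G 3 = 20 := v3.resolve_left (ocount_of_dvd h (by norm_num))
    have hd := dvd_sum_of_ocount h
    rw [show Nat.divisors 6 = {1, 2, 3, 6} by decide] at hd
    simp [h1, h2, h3] at hd
    rcases v6 with e | e | e <;> omega
  have hd240 : ∀ m, ocount G m ≠ 0 → m ∣ 2 ^ 4 * 3 ^ 1 * 5 ^ 1 := fun m hm =>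
    dvd_of_ocount_three (by simpa using s32) (by simpa using s9) (by simpa using s25)
      (fun p hp h => by rcases five_prime hV hp h with e | ⟨e, -⟩ | ⟨e, -⟩ <;> omega) hm
  have hM : ∀ m, ocount G m ≠ 0 → m ∈ Nat.divisors 240 := fun m hm =>
    Nat.mem_divisors.2 ⟨by simpa using hd240 m hm, by norm_num⟩
  have z : ∀ d m, ocount G d = 0 → d ∣ m → ocount G m = 0 := fun d m hd hdm =>
    by_contra fun h => ocount_of_dvd h hdm hd
  have z15 := fun m (h : 15 ∣ m) => z 15 m s15 h
  have z20 := fun m (h : 20 ∣ m) => z 20 m s20 h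
  have s48 : ocount G 48 = 0 := by
    have := (show 16 ∣ Nat.totient 48 by decide).trans (totient_dvd_ocount (G := G) 48)
    rcases hmem 48 with h | h | h | h | h <;> omega
  have hcard := card_eq_sum _ hM
  rw [show Nat.divisors 240 =
    {1, 2, 3, 4, 5, 6, 8, 10, 12, 15, 16, 20, 24, 30, 40, 48, 60, 80, 120, 240} by decide] at hcard
  simp [h1, h2, s15, s20, s48, z15 30 (by norm_num), z20 40 (by norm_num), z20 60 (by norm_num),
    z20 80 (by norm_num), z20 120 (by norm_num), z20 240 (by norm_num)] at hcard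
  -- the attained values
  have att : ∀ v, v = 20 ∨ v = 24 → ocount G 3 = v ∨ ocount G 4 = v ∨ ocount G 5 = v ∨ ocount G 6 = v ∨
      ocount G 8 = v ∨ ocount G 10 = v ∨ ocount G 12 = v ∨ ocount G 16 = v ∨ ocount G 24 = v := by
    intro v hv'
    obtain ⟨m, hm⟩ := hV.att v (by rcases hv' with rfl | rfl <;> simp)
    have hm' := hM m (by omega)
    rw [show Nat.divisors 240 =
      {1, 2, 3, 4, 5, 6, 8, 10, 12, 15, 16, 20, 24, 30, 40, 48, 60, 80, 120, 240} by decide] at hm'
    simp only [Finset.mem_insert, Finset.mem_singleton] at hm'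
    have := z15 30 (by norm_num)
    have := z20 40 (by norm_num)
    have := z20 60 (by norm_num)
    have := z20 80 (by norm_num)
    have := z20 120 (by norm_num)
    have := z20 240 (by norm_num)
    rcases hm' with rfl | rfl | rfl | rfl | rfl | rfl | rfl | rfl | rfl | rfl | rfl | rfl | rfl |
      rfl | rfl | rfl | rfl | rfl | rfl | rfl <;> omega
  -- three implies five
  have h35 : ocount G 3 ≠ 0 → ocount G 5 ≠ 0 ∧ ¬ 9 ∣ Nat.card G ∧
      ∃ P : Sylow 3 G, Nat.card P = 3 ∧ Nat.card (Sylow 3 G) = 10 := by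
    intro h
    have h3 := v3.resolve_left h
    have h9 : ¬ 9 ∣ Nat.card G := fun hb => by
      have := pow_dvd_sum (G := G) (p := 3) (e := 1) (b := 2) Nat.prime_three (by simpa using s9)
        (by norm_num) (by simpa using hb)
      simp [Finset.sum_range_succ, h1, h3] at this
    let P : Sylow 3 G := default
    have hP : Nat.card P = 3 := by
      obtain ⟨k, hk⟩ := P.2.exists_card_eq
      have hle : k ≤ 1 := by
        by_contra hlt
        exact h9 ((show 3 ^ 2 ∣ 3 ^ k from pow_dvd_pow 3 (by omega)).trans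
          (hk ▸ Subgroup.card_subgroup_dvd_card _))
      have h3dvd : 3 ∣ Nat.card P :=
        Sylow.dvd_card_of_dvd_card P (dvd_card_of_ocount h)
      interval_cases k <;> (rw [hk] at h3dvd ⊢; norm_num at h3dvd) ; norm_num
    have hn := card_sylow_mul P hP
    have hn10 : Nat.card (Sylow 3 G) = 10 := by omega
    refine ⟨fun e => ?_, h9, P, hP, hn10⟩
    have h5 : 5 ∣ Nat.card G :=
      (show 5 ∣ Nat.card (Sylow 3 G) by rw [hn10]; norm_num).trans
        ((Sylow.card_dvd_index P).trans (Subgroup.index_dvd_card _))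
    obtain ⟨x, hx⟩ := exists_prime_orderOf_dvd_card' (G := G) 5 h5
    exact ocount_ne_zero_iff.2 ⟨x, hx⟩ e
  -- five divides the order
  have h5 : ocount G 5 = 24 := by
    refine v5.resolve_left fun e5 => ?_
    have e3 : ocount G 3 = 0 := by_contra fun h => (h35 h).1 e5
    have e6 := z 3 6 e3 (by norm_num)
    have e12 := z 3 12 e3 (by norm_num)
    have e24 := z 3 24 e3 (by norm_num)
    have e10 := z 5 10 e5 (by norm_num)
    have a20 := att 20 (Or.inl rfl)
    have a24 := att 24 (Or.inr rfl)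
    have h55 : ¬ 5 ∣ Nat.card G := fun h => by
      obtain ⟨x, hx⟩ := exists_prime_orderOf_dvd_card' (G := G) 5 h
      exact ocount_ne_zero_iff.2 ⟨x, hx⟩ e5
    refine h55 (five_arith_one (Nat.card G) (ocount G 4) (ocount G 8) (ocount G 16) v4 v8 v16 (by omega)
      (by omega) (by omega) fun e16 => ⟨?_, ocount_of_dvd e16 (by norm_num), ocount_of_dvd e16 (by norm_num)⟩)
    have hd := dvd_sum_of_ocount e16
    rw [show Nat.divisors 16 = {1, 2, 4, 8, 16} by decide] at hd
    simp [h1, h2] at hd
    omega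
  have d5 : 5 ∣ Nat.card G := dvd_card_of_ocount (by omega)
  let P5 : Sylow 5 G := default
  -- the Sylow 5-subgroup has order 5
  have h25 : ¬ 25 ∣ Nat.card G := by
    intro hb
    have h125 : ¬ 125 ∣ Nat.card G := fun hb => by
      have := pow_dvd_sum (G := G) (p := 5) (e := 1) (b := 3) (by norm_num) (by simpa using s25)
        (by norm_num) (by simpa using hb)
      simp [Finset.sum_range_succ, h1, h5] at this
    rcases eq_or_ne (ocount G 3) 0 with e3 | e3
    · have e6 := z 3 6 e3 (by norm_num)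
      have e12 := z 3 12 e3 (by norm_num)
      have e24 := z 3 24 e3 (by norm_num)
      have d2 := dvd_card_of_ocount (G := G) (m := 2) (by omega)
      have v10' : ocount G 10 = 0 ∨ ocount G 10 = 20 := (eq_or_ne _ _).imp id s10'
      exact five_arith_two (Nat.card G) (ocount G 4) (ocount G 8) (ocount G 16) (ocount G 10) v4 v8 v16
        v10' (by omega) hb d2 dvd_card_of_ocount dvd_card_of_ocount dvd_card_of_ocount
    · obtain ⟨-, -, Q, hQ, hn⟩ := h35 e3
      obtain ⟨P, hP⟩ := Sylow.exists_subgroup_card_pow_prime (G := G) 5 (n := 2) (by simpa using hb)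
      have hne : ¬ Function.Injective (fun y : P => (y : G) • Q) := fun hi => by
        have := Nat.card_le_card_of_injective _ hi
        rw [hn, hP] at this
        omega
      rw [Function.not_injective_iff] at hne
      obtain ⟨a, b, hab, hne⟩ := hne
      set y : P := b⁻¹ * a
      have hy : (y : G) • Q = Q := by
        simp only [y, Subgroup.coe_mul, Subgroup.coe_inv, mul_smul]
        rw [hab, inv_smul_smul]
      have hy1 : y ≠ 1 := fun h => hne (inv_mul_eq_one.1 h).symm
      have hyord : orderOf (y : G) = 5 := by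
        have hd : orderOf (y : G) ∣ 5 ^ 2 := by
          rw [Subgroup.orderOf_coe, ← hP]; exact orderOf_dvd_natCard y
        obtain ⟨k, hk, hk'⟩ := (Nat.dvd_prime_pow (by norm_num)).1 hd
        interval_cases k
        · exact absurd (Subtype.ext (orderOf_eq_one_iff.1 hk')) hy1
        · simpa using hk'
        · exact absurd s25 (ocount_ne_zero_iff.2 ⟨y, by simpa using hk'⟩)
      have hn' : (y : G) ∈ Subgroup.normalizer ((Q : Subgroup G) : Set G) :=
        Sylow.smul_eq_iff_mem_normalizer.1 hy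
      obtain ⟨x, hx⟩ := exists_prime_orderOf_dvd_card' (G := (Q : Subgroup G)) 3 hQ.symm.dvd
      have hc := commute_of_normalizes Nat.prime_three hQ hn' (by rw [hyord]; norm_num) x x.2
      have h := ocount_mul_ne_zero hc.symm (by rw [Subgroup.orderOf_coe, hx, hyord]; norm_num)
      rw [Subgroup.orderOf_coe, hx, hyord] at h
      exact h s15
  have hP5 : Nat.card P5 = 5 := by
    obtain ⟨k, hk⟩ := P5.2.exists_card_eq
    have hle : k ≤ 1 := by
      by_contra hlt
      exact h25 ((show 5 ^ 2 ∣ 5 ^ k from pow_dvd_pow 5 (by omega)).trans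
        (hk ▸ Subgroup.card_subgroup_dvd_card _))
    have : 5 ∣ Nat.card P5 := Sylow.dvd_card_of_dvd_card P5 d5
    interval_cases k
    · rw [hk] at this; norm_num at this
    · rw [hk, pow_one]
  have hn5 : Nat.card (Sylow 5 G) = 6 := by
    have := card_sylow_mul P5 hP5
    omega
  have d6 : 6 ∣ Nat.card G := hn5 ▸ (Sylow.card_dvd_index P5).trans (Subgroup.index_dvd_card _)
  have h3 : ocount G 3 = 20 := v3.resolve_left fun e => by
    obtain ⟨x, hx⟩ := exists_prime_orderOf_dvd_card' (G := G) 3 ((show 3 ∣ 6 by norm_num).trans d6)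
    exact ocount_ne_zero_iff.2 ⟨x, hx⟩ e
  obtain ⟨-, h9, -⟩ := h35 (by omega)
  have s10 : ocount G 10 = 0 := by
    by_contra h
    obtain ⟨x, hx⟩ := ocount_ne_zero_iff.1 h
    have hb := index_mul_le_ocount x
    rw [hx, s10' h, show Nat.totient 10 = 4 by decide] at hb
    have hdv := Subgroup.index_dvd_of_le (normalizer_zpowers_le x 2)
    obtain ⟨Q, hQ⟩ := (IsPGroup.of_card (p := 5) (n := 1) (G := Subgroup.zpowers (x ^ 2))
      (by rw [Nat.card_zpowers, orderOf_pow' _ (by norm_num), hx]; norm_num)).exists_le_sylow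
    have hQe : Subgroup.zpowers (x ^ 2) = (Q : Subgroup G) := Subgroup.eq_of_le_of_card_ge hQ (by
      rw [Nat.card_zpowers, orderOf_pow' _ (by norm_num), hx, Nat.card_congr (Sylow.equiv Q P5).toEquiv,
        hP5]
      norm_num)
    rw [hQe] at hdv
    replace hdv : 6 ∣ (Subgroup.normalizer (Subgroup.zpowers x : Set G)).index := hn5 ▸
      (show Nat.card (Sylow 5 G) ∣ (Subgroup.normalizer (Subgroup.zpowers x : Set G)).index by
        rw [Sylow.card_eq_index_normalizer Q]; exact hdv)
    have := Nat.le_of_dvd (Nat.pos_of_ne_zero Subgroup.index_ne_zero_of_finite) hdv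
    omega
  have hG : Nat.card G = 60 :=
    five_arith_three (Nat.card G) (ocount G 4) (ocount G 8) (ocount G 16) (ocount G 6) (ocount G 12)
      (ocount G 24) v4 v8 v16 ((eq_or_ne _ _).imp id s6') v12 v24 (by omega)
      ((show Nat.Coprime 5 6 by norm_num).mul_dvd_of_dvd_of_dvd d5 d6) h9 h25
      dvd_card_of_ocount fun e6 => ⟨z 6 12 e6 (by norm_num), z 6 24 e6 (by norm_num)⟩
  obtain ⟨hs, -⟩ := H70.simple_of_card_sixty hG (by omega)
  exact S0494.result hG

end Cfsg.Agent.H71.Nse
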