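import Cfsg.Agent.H71.NseBasic
import Cfsg.Agent.S0228
import Mathlib.Tactic.IntervalCases

/-!
A group with the counts `{1, 3, 8}` is the alternating group of degree four.
-/

set_option autoImplicit false
set_option linter.style.haveILetI false

namespace Cfsg.Agent.H71.Nse

universe u

variable {G : Type u} [Group G] [Finite G]

/-- Abstract form of the hypothesis: the values are exactly `V`. -/
structure Vals (G : Type u) [Group G] (V : Set ℕ) : Prop where
  mem : ∀ m, ocount G m ≠ 0 → ocount G m ∈ V
  att : ∀ v ∈ V, ∃ m, ocount G m = v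

theorem vals_of_eq {V : Set ℕ}
    (h : ((fun m : ℕ => Nat.card {g : G // orderOf g = m}) '' Set.range (orderOf : G → ℕ)) = V) :
    Vals G V := by
  constructor
  · intro m hm
    obtain ⟨g, hg⟩ := ocount_ne_zero_iff.1 hm
    rw [← h]
    exact ⟨m, ⟨g, hg⟩, rfl⟩
  · intro v hv
    rw [← h] at hv
    obtain ⟨m, -, hm⟩ := hv
    exact ⟨m, hm⟩

/-- An odd value other than one is the number of involutions. -/
theorem ocount_two_eq {v : ℕ} (ho : Odd v) (h1 : v ≠ 1) (hv : ∃ m, ocount G m = v) :
    ocount G 2 = v := by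
  obtain ⟨m, rfl⟩ := hv
  rcases Nat.lt_or_ge 2 m with hm | hm
  · have := (Nat.totient_even hm).two_dvd.trans (totient_dvd_ocount (G := G) m)
    have := Nat.odd_iff.1 ho
    omega
  · interval_cases m
    · exfalso
      exact Nat.not_even_iff_odd.2 ho (by
        rw [show ocount G 0 = 0 from by_contra fun h => (pos_of_ocount h).ne' rfl]; exact Even.zero)
    · exact absurd ocount_one h1
    · rfl

theorem alt_four_prime (hV : Vals G {1, 3, 8}) {p : ℕ} (hp : p.Prime) (hs : ocount G p ≠ 0) :
    p = 2 ∨ p = 3 := by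
  rcases eq_or_ne p 2 with h2 | h2
  · exact Or.inl h2
  have ht := totient_dvd_ocount (G := G) p
  have hd := dvd_sum_of_ocount hs
  rw [Nat.totient_prime hp] at ht
  rw [hp.divisors, Finset.sum_pair (Ne.symm hp.ne_one), ocount_one] at hd
  have h3 : 3 ≤ p := by have := hp.two_le; omega
  have hm := hV.mem p hs
  simp only [Set.mem_insert_iff, Set.mem_singleton_iff] at hm
  rcases hm with h | h | h <;> rw [h] at ht hd
  · have := Nat.le_of_dvd (by norm_num) hd; omega
  · have := Nat.le_of_dvd (by norm_num) hd; interval_cases p <;> first | omega | (norm_num at hp)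
  · have := Nat.le_of_dvd (by norm_num) hd; interval_cases p <;> simp_all (config := {decide := true})

theorem alt_four (hV : Vals G {1, 3, 8}) : Nonempty (G ≃* alternatingGroup (Fin 4)) := by
  have h2 : ocount G 2 = 3 := ocount_two_eq (by decide) (by norm_num) (hV.att 3 (by simp))
  have h1 : ocount G 1 = 1 := ocount_one
  have hmem : ∀ m, ocount G m = 0 ∨ ocount G m = 1 ∨ ocount G m = 3 ∨ ocount G m = 8 := fun m => by
    rcases eq_or_ne (ocount G m) 0 with h | h
    · exact Or.inl h
    · right; simpa using hV.mem m h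
  have ht3 := totient_dvd_ocount (G := G) 3
  have ht4 := totient_dvd_ocount (G := G) 4
  have ht6 := totient_dvd_ocount (G := G) 6
  have ht8 := totient_dvd_ocount (G := G) 8
  have ht9 := totient_dvd_ocount (G := G) 9
  rw [show Nat.totient 3 = 2 by decide] at ht3
  rw [show Nat.totient 4 = 2 by decide] at ht4
  rw [show Nat.totient 6 = 2 by decide] at ht6
  rw [show Nat.totient 8 = 4 by decide] at ht8
  rw [show Nat.totient 9 = 6 by decide] at ht9
  have s9 : ocount G 9 = 0 := by rcases hmem 9 with h | h | h | h <;> omega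
  have s8 : ocount G 8 = 0 := by
    by_contra h
    have hd := dvd_sum_of_ocount h
    have h4 := ocount_of_dvd h (show 4 ∣ 8 by norm_num)
    rw [show Nat.divisors 8 = {1, 2, 4, 8} by decide] at hd
    simp only [Finset.sum_insert (by decide : (1 : ℕ) ∉ ({2, 4, 8} : Finset ℕ)),
      Finset.sum_insert (by decide : (2 : ℕ) ∉ ({4, 8} : Finset ℕ)),
      Finset.sum_insert (by decide : (4 : ℕ) ∉ ({8} : Finset ℕ)), Finset.sum_singleton, h1, h2] at hd
    rcases hmem 4 with e | e | e | e <;> rcases hmem 8 with e' | e' | e' | e' <;> omega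
  have s6 : ocount G 6 = 0 := by
    by_contra h
    have hd := dvd_sum_of_ocount h
    have h3 := ocount_of_dvd h (show 3 ∣ 6 by norm_num)
    rw [show Nat.divisors 6 = {1, 2, 3, 6} by decide] at hd
    simp only [Finset.sum_insert (by decide : (1 : ℕ) ∉ ({2, 3, 6} : Finset ℕ)),
      Finset.sum_insert (by decide : (2 : ℕ) ∉ ({3, 6} : Finset ℕ)),
      Finset.sum_insert (by decide : (3 : ℕ) ∉ ({6} : Finset ℕ)), Finset.sum_singleton, h1, h2] at hd
    rcases hmem 3 with e | e | e | e <;> rcases hmem 6 with e' | e' | e' | e' <;> omega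
  have hdvd : ∀ m, ocount G m ≠ 0 → m ∣ 12 := fun m hm => by
    refine dvd_of_ocount (by norm_num) (fun p hp => ?_) hm
    by_contra h
    have hp' := alt_four_prime hV hp (ocount_of_dvd h (dvd_pow_self p (Nat.succ_ne_zero _)))
    have e2 : (12 : ℕ).factorization 2 = 2 := by
      rw [show (12 : ℕ) = 2 ^ 2 * 3 by norm_num, Nat.factorization_mul (by norm_num) (by norm_num),
        Finsupp.add_apply, Nat.factorization_pow, Finsupp.smul_apply,
        Nat.Prime.factorization_self Nat.prime_two,
        Nat.factorization_eq_zero_of_not_dvd (by norm_num)]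
      rfl
    have e3 : (12 : ℕ).factorization 3 = 1 := by
      rw [show (12 : ℕ) = 3 * 4 by norm_num, Nat.factorization_mul (by norm_num) (by norm_num),
        Finsupp.add_apply, Nat.Prime.factorization_self Nat.prime_three,
        Nat.factorization_eq_zero_of_not_dvd (by norm_num)]
    rcases hp' with rfl | rfl
    · rw [e2] at h; exact h s8
    · rw [e3] at h; exact h s9
  have hM : ∀ m, ocount G m ≠ 0 → m ∈ ({1, 2, 3, 4} : Finset ℕ) := by
    intro m hm
    have hd := hdvd m hm
    have := Nat.le_of_dvd (by norm_num) hd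
    interval_cases m <;> first | decide | omega | (exact absurd s6 hm) |
      (exact absurd s6 (fun e => ocount_of_dvd hm (by norm_num) e))
  have hcard := card_eq_sum {1, 2, 3, 4} hM
  simp only [Finset.sum_insert (by decide : (1 : ℕ) ∉ ({2, 3, 4} : Finset ℕ)),
    Finset.sum_insert (by decide : (2 : ℕ) ∉ ({3, 4} : Finset ℕ)),
    Finset.sum_insert (by decide : (3 : ℕ) ∉ ({4} : Finset ℕ)), Finset.sum_singleton, h1, h2] at hcard
  obtain ⟨m8, hm8⟩ := hV.att 8 (by simp)
  have hm8' := hM m8 (by omega)
  have d3 := dvd_card_of_ocount (G := G) (m := 3)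
  have d4 := dvd_card_of_ocount (G := G) (m := 4)
  have h3 : ocount G 3 ≠ 0 := by
    intro e
    have h4 : ocount G 4 = 8 := by
      simp only [Finset.mem_insert, Finset.mem_singleton] at hm8'
      rcases hm8' with rfl | rfl | rfl | rfl <;> omega
    have hG : Nat.card G = 12 := by omega
    haveI := Fact.mk Nat.prime_three
    obtain ⟨x, hx⟩ := exists_prime_orderOf_dvd_card' (G := G) 3 (by rw [hG]; norm_num)
    exact ocount_ne_zero_iff.2 ⟨x, hx⟩ e
  have hG : Nat.card G = 12 := by
    rcases hmem 3 with e | e | e | e <;> rcases hmem 4 with e' | e' | e' | e' <;> have := d3 h3 <;>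
      omega
  refine S0228.result hG fun z hz hzc => ?_
  haveI := Fact.mk Nat.prime_three
  obtain ⟨x, hx⟩ := exists_prime_orderOf_dvd_card' (G := G) 3 (by rw [hG]; norm_num)
  have h := ocount_mul_ne_zero (a := z) (b := x) (Subgroup.mem_center_iff.1 hzc x).symm
    (by rw [hz, hx]; norm_num)
  rw [hz, hx] at h
  exact h s6

end Cfsg.Agent.H71.Nse
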