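import Mathlib.Tactic.NormNum
import Mathlib.Tactic.IntervalCases

/-!
Arithmetic for the counts `{1, 45, 80, 90, 144}`.
-/

set_option autoImplicit false

namespace Cfsg.Agent.H71.Nse

theorem six_prime_80 : ∀ p < 146, 2 < p → p - 1 ∣ 80 → p ∣ 81 → p = 3 ∨ p = 9 ∨ p = 81 := by decide

theorem six_prime_90 : ∀ p < 146, 2 < p → p - 1 ∣ 90 → p ∣ 91 → p = 7 ∨ p = 91 := by decide

theorem six_prime_144 : ∀ p < 146, 2 < p → p - 1 ∣ 144 → p ∣ 145 → p = 5 ∨ p = 145 := by decide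

/-- With elements of order 5: the order is 360. -/
theorem six_arith_five (N a d b e f : ℕ) (ha : a = 0 ∨ a = 90) (hd : d = 0 ∨ d = 90 ∨ d = 144)
    (hb : b = 0 ∨ b = 80 ∨ b = 144) (he : e = 0 ∨ e = 144) (hf : f = 0 ∨ f = 144)
    (hN : N = 270 + a + d + b + e + f) (h180 : 180 ∣ N) 
    (hb' : b ≠ 0 → a = 90 ∧ 8 ∣ N) (he' : e ≠ 0 → a = 90 ∧ d = 144) (hf' : f ≠ 0 → b ≠ 0 ∧ e ≠ 0) :
    N = 360 ∧ b = 0 ∧ e = 0 ∧ f = 0 ∧ ((a = 90 ∧ d = 0) ∨ (a = 0 ∧ d = 90)) := by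
  rcases ha with rfl | rfl <;> rcases hd with rfl | rfl | rfl <;> rcases hb with rfl | rfl | rfl <;>
    rcases he with rfl | rfl <;> rcases hf with rfl | rfl <;> simp_all

/-- Without elements of order 5: the order is 648. -/
theorem six_arith_no_five (N a d b e f : ℕ) (ha : a = 0 ∨ a = 90) (hd : d = 0 ∨ d = 90 ∨ d = 144)
    (hb : b = 0 ∨ b = 80 ∨ b = 144) (he : e = 0 ∨ e = 144) (hf : f = 0 ∨ f = 144)
    (hN : N = 126 + a + d + b + e + f) (h648 : N ∣ 648)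
    (hf' : f ≠ 0 → b ≠ 0 ∧ e ≠ 0) (hb' : b ≠ 0 → a = 90) (he' : e ≠ 0 → d = 144)
    (h144 : d = 144 ∨ b = 144 ∨ e = 144 ∨ f = 144) :
    N = 648 ∧ d = 144 := by
  rcases ha with rfl | rfl <;> rcases hd with rfl | rfl | rfl <;> rcases hb with rfl | rfl | rfl <;>
    rcases he with rfl | rfl <;> rcases hf with rfl | rfl <;> simp_all

end Cfsg.Agent.H71.Nse
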