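import Cfsg.Agent.H71.NseBasic
import Mathlib.GroupTheory.Transfer

/-!
Sylow subgroups and element counts.
-/

set_option autoImplicit false
set_option linter.style.haveILetI false

namespace Cfsg.Agent.H71.Nse

universe u

variable {G : Type u} [Group G] [Finite G]

theorem card_dvd_of_primes {L : ℕ} (hL : L ≠ 0)
    (h : ∀ p : ℕ, p.Prime → ¬ p ^ (L.factorization p + 1) ∣ Nat.card G) : Nat.card G ∣ L := by
  rw [← Nat.factorization_le_iff_dvd Nat.card_pos.ne' hL]
  intro p
  by_contra hlt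
  by_cases hp : p.Prime
  · exact h p hp ((pow_dvd_pow p (Nat.lt_of_not_le hlt)).trans (Nat.ordProj_dvd _ p))
  · simp [Nat.factorization_eq_zero_of_not_prime _ hp] at hlt

/-- Elements of order prime to the index of a normal subgroup lie in it. -/
theorem mem_of_coprime_index {G : Type u} [Group G] {N : Subgroup G} [N.Normal] {x : G}
    (h : (orderOf x).Coprime N.index) : x ∈ N := by
  rw [← QuotientGroup.eq_one_iff]
  refine orderOf_eq_one_iff.1 (Nat.eq_one_of_dvd_coprimes h (orderOf_map_dvd (QuotientGroup.mk' N) x) ?_)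
  exact orderOf_dvd_natCard _

theorem ocount_le_card {N : Subgroup G} {m : ℕ} (h : ∀ x : G, orderOf x = m → x ∈ N) :
    ocount G m ≤ Nat.card N :=
  Nat.card_le_card_of_injective (fun x : {g : G // orderOf g = m} => (⟨x.1, h _ x.2⟩ : N))
    fun _ _ e => Subtype.ext (congrArg (fun z : N => (z : G)) e)

theorem two_ocount_le_card {N : Subgroup G} {m k : ℕ} (hm : m ≠ 1) (hk : k ≠ 1) (hmk : m ≠ k)
    (h : ∀ x : G, orderOf x = m ∨ orderOf x = k → x ∈ N) :
    ocount G m + ocount G k + 1 ≤ Nat.card N := by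
  have : Nat.card (({g : G // orderOf g = m} ⊕ {g : G // orderOf g = k}) ⊕ Unit) ≤ Nat.card N := by
    refine Nat.card_le_card_of_injective (fun z => match z with
      | Sum.inl (Sum.inl x) => (⟨x.1, h _ (Or.inl x.2)⟩ : N)
      | Sum.inl (Sum.inr x) => ⟨x.1, h _ (Or.inr x.2)⟩
      | Sum.inr _ => 1) ?_
    rintro ((⟨a, ha⟩ | ⟨a, ha⟩) | a) ((⟨b, hb⟩ | ⟨b, hb⟩) | b) e <;>
      have e' := congrArg (fun z : N => (z : G)) e <;> simp at e' <;> subst_vars <;>
      simp_all [orderOf_one]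
  simpa [Nat.card_sum, ocount] using this

/-- The non-identity elements of a Sylow subgroup of exponent `p`. -/
theorem card_sylow_sdiff {p : ℕ} [Fact p.Prime] (Q : Sylow p G) :
    Nat.card {x : G // x ∈ (Q : Subgroup G) ∧ x ≠ 1} = Nat.card Q - 1 := by
  classical
  haveI : Fintype (Q : Subgroup G) := Fintype.ofFinite _
  rw [Nat.card_congr (Equiv.subtypeSubtypeEquivSubtypeInter
    (fun x => x ∈ (Q : Subgroup G)) fun x => x ≠ 1).symm, Nat.card_eq_fintype_card,
    Fintype.card_subtype_compl fun x : (Q : Subgroup G) => (x : G) = 1]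
  rw [← Nat.card_eq_fintype_card]
  congr 1
  rw [Fintype.card_eq_one_iff]
  exact ⟨⟨1, rfl⟩, fun y => Subtype.ext (Subtype.ext y.2)⟩

/-- The union of the Sylow subgroups: a bound, with trivial intersections in case of equality. -/
theorem sylow_cover {p : ℕ} [hp : Fact p.Prime]
    (hexp : ocount G (p ^ 2) = 0) (P : Sylow p G) :
    ocount G p ≤ Nat.card (Sylow p G) * (Nat.card P - 1) ∧
      (Nat.card (Sylow p G) * (Nat.card P - 1) = ocount G p →
        ∀ x : G, x ≠ 1 → ∀ Q R : Sylow p G, x ∈ (Q : Subgroup G) → x ∈ (R : Subgroup G) → Q = R) := by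
  classical
  have hord : ∀ Q : Sylow p G, ∀ x ∈ (Q : Subgroup G), x ≠ 1 → orderOf x = p := by
    intro Q x hx hx1
    obtain ⟨k, hk⟩ := Q.2 ⟨x, hx⟩
    have hd : orderOf x ∣ p ^ k := orderOf_dvd_of_pow_eq_one (congrArg Subtype.val hk)
    obtain ⟨j, -, hj⟩ := (Nat.dvd_prime_pow hp.out).1 hd
    match j, hj with
    | 0, hj => exact absurd (orderOf_eq_one_iff.1 (by simpa using hj)) hx1
    | 1, hj => simpa using hj
    | j + 2, hj =>
      exact absurd hexp (ocount_of_dvd (G := G) (m := orderOf x) ocount_pos_of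
        (hj ▸ pow_dvd_pow p (by omega)))
  let S := Σ Q : Sylow p G, {x : G // x ∈ (Q : Subgroup G) ∧ x ≠ 1}
  let f : S → {g : G // orderOf g = p} := fun s => ⟨s.2.1, hord s.1 _ s.2.2.1 s.2.2.2⟩
  have hf : Function.Surjective f := by
    rintro ⟨y, hy⟩
    obtain ⟨Q, hQ⟩ := (IsPGroup.of_card (p := p) (n := 1) (G := Subgroup.zpowers y)
      (by rw [Nat.card_zpowers, hy, pow_one])).exists_le_sylow
    exact ⟨⟨Q, y, hQ (Subgroup.mem_zpowers y), fun e => hp.out.ne_one (by
      rw [← hy, e, orderOf_one])⟩, rfl⟩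
  haveI : Fintype (Sylow p G) := Fintype.ofFinite _
  have hQ : ∀ Q : Sylow p G,
      Nat.card {x : G // x ∈ (Q : Subgroup G) ∧ x ≠ 1} = Nat.card P - 1 := fun Q => by
    rw [card_sylow_sdiff Q]
    exact congrArg (· - 1) (Nat.card_congr (Sylow.equiv Q P).toEquiv)
  have hS : Nat.card S = Nat.card (Sylow p G) * (Nat.card P - 1) := by
    rw [Nat.card_sigma, Finset.sum_congr rfl fun Q _ => hQ Q, Finset.sum_const, Finset.card_univ,
      smul_eq_mul, Nat.card_eq_fintype_card (α := Sylow p G)]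
  refine ⟨hS ▸ Nat.card_le_card_of_surjective f hf, fun he x hx Q R hQ hR => ?_⟩
  have hinj : Function.Injective f :=
    ((Nat.bijective_iff_surjective_and_card f).2 ⟨hf, hS.trans he⟩).1
  exact congrArg Sigma.fst (@hinj ⟨Q, x, hQ, hx⟩ ⟨R, x, hR, hx⟩ rfl)

/-- If the Sylow `3`-subgroups intersect trivially, the number of elements of order 6 is their number
times an even number. -/
theorem ocount_six_eq (hti : ∀ x : G, x ≠ 1 → ∀ Q R : Sylow 3 G, x ∈ (Q : Subgroup G) →
    x ∈ (R : Subgroup G) → Q = R) :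
    ∃ k, ocount G 6 = Nat.card (Sylow 3 G) * (2 * k) := by
  classical
  let F : Sylow 3 G → G → Prop := fun Q g => orderOf g = 6 ∧ g ^ 2 ∈ (Q : Subgroup G)
  have hne : ∀ g : G, orderOf g = 6 → g ^ 2 ≠ 1 := fun g hg e => by
    have := orderOf_dvd_of_pow_eq_one e
    rw [hg] at this
    norm_num at this
  have e : (Σ Q : Sylow 3 G, {g : G // F Q g}) ≃ {g : G // orderOf g = 6} := by
    refine Equiv.ofBijective (fun s => ⟨s.2.1, s.2.2.1⟩) ⟨?_, ?_⟩
    · rintro ⟨Q, g, hg⟩ ⟨R, g', hg'⟩ h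
      obtain rfl : g = g' := congrArg Subtype.val h
      obtain rfl := hti _ (hne g hg.1) Q R hg.2 hg'.2
      rfl
    · rintro ⟨g, hg⟩
      haveI := Fact.mk Nat.prime_three
      obtain ⟨Q, hQ⟩ := (IsPGroup.of_card (p := 3) (n := 1) (G := Subgroup.zpowers (g ^ 2))
        (by rw [Nat.card_zpowers, orderOf_pow' _ (by norm_num), hg]; norm_num)).exists_le_sylow
      exact ⟨⟨Q, g, hg, hQ (Subgroup.mem_zpowers _)⟩, rfl⟩
  haveI := Fact.mk Nat.prime_three
  let P : Sylow 3 G := default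
  have hfib : ∀ Q : Sylow 3 G, Nat.card {g : G // F Q g} = Nat.card {g : G // F P g} := by
    intro Q
    obtain ⟨c, rfl⟩ := MulAction.exists_smul_eq G P Q
    refine (Nat.card_congr ((MulAut.conj c).toEquiv.subtypeEquiv fun g => ?_)).symm
    simp only [F, MulEquiv.toEquiv_eq_coe, EquivLike.coe_coe, MulEquiv.orderOf_eq, ← map_pow,
      Sylow.smul_def, Sylow.pointwise_smul_def]
    refine and_congr_right fun _ => ?_
    rw [← MulAut.smul_def, Subgroup.smul_mem_pointwise_smul_iff]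
  obtain ⟨k, hk⟩ := H87.CyclicCount.dvd_card (fun g : G => F P g) (fun x y hx hyx => by
    have ho : orderOf y = orderOf x := by rw [← Nat.card_zpowers, hyx, Nat.card_zpowers]
    refine ⟨ho.trans hx.1, ?_⟩
    obtain ⟨i, hi⟩ := (hyx ▸ Subgroup.mem_zpowers y : y ∈ Subgroup.zpowers x)
    rw [← hi, ← zpow_natCast, ← zpow_mul, mul_comm, zpow_mul, zpow_natCast]
    exact Subgroup.zpow_mem _ hx.2 i) 2 (fun x hx => by rw [hx.1]; decide)
  haveI : Fintype (Sylow 3 G) := Fintype.ofFinite _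
  refine ⟨k, ?_⟩
  rw [ocount, ← Nat.card_congr e, Nat.card_sigma, Finset.sum_congr rfl fun Q _ => hfib Q,
    Finset.sum_const, Finset.card_univ, smul_eq_mul, hk, Nat.card_eq_fintype_card (α := Sylow 3 G)]

end Cfsg.Agent.H71.Nse
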