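import Cfsg.Agent.H71.NseFive
import Cfsg.Agent.H71.NseTools
import Cfsg.Agent.H71.NseSixArith
import Cfsg.Agent.S0497

/-!
A group with the counts `{1, 45, 80, 90, 144}` is the alternating group of degree six.
-/

set_option autoImplicit false
set_option linter.style.haveILetI false

namespace Cfsg.Agent.H71.Nse

universe u

variable {G : Type u} [Group G] [Finite G]

/-- Excluded: a normal Sylow 3-subgroup of exponent 3 and order 81. -/
theorem six_no_648 (h9 : ocount G 9 = 0) (hG : Nat.card G = 648)
    (h2 : ocount G 2 = 45) (h3 : ocount G 3 = 80) (h6 : ocount G 6 = 144) : False := by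
  classical
  haveI := Fact.mk Nat.prime_three
  let P : Sylow 3 G := default
  have hP : Nat.card P = 81 := by
    rw [P.card_eq_multiplicity, hG, show (648 : ℕ) = 3 ^ 4 * 8 by norm_num,
      Nat.factorization_mul (by norm_num) (by norm_num), Nat.prime_three.factorization_pow,
      Finsupp.add_apply, Finsupp.single_eq_same, Nat.factorization_eq_zero_of_not_dvd (by norm_num)]
    norm_num
  have hord : ∀ Q : Sylow 3 G, ∀ x ∈ (Q : Subgroup G), x ≠ 1 → orderOf x = 3 := by
    intro Q x hx hx1
    obtain ⟨k, hk⟩ := Q.2 ⟨x, hx⟩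
    obtain ⟨j, -, hj⟩ := (Nat.dvd_prime_pow Nat.prime_three).1
      (orderOf_dvd_of_pow_eq_one (congrArg Subtype.val hk) : orderOf x ∣ 3 ^ k)
    match j, hj with
    | 0, hj => exact absurd (orderOf_eq_one_iff.1 (by simpa using hj)) hx1
    | 1, hj => simpa using hj
    | j + 2, hj => exact absurd h9 (ocount_of_dvd (G := G) (m := orderOf x) ocount_pos_of
        (hj ▸ pow_dvd_pow 3 (show 2 ≤ j + 2 by omega)))
  -- every element of order 3 is in P
  have hall : ∀ x : G, orderOf x = 3 → x ∈ (P : Subgroup G) := by
    let f : {x : G // x ∈ (P : Subgroup G) ∧ x ≠ 1} → {x : G // orderOf x = 3} :=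
      fun x => ⟨x.1, hord P _ x.2.1 x.2.2⟩
    have hb : Function.Bijective f := (Nat.bijective_iff_injective_and_card f).2
      ⟨fun a b e => Subtype.ext (congrArg (fun z => z.1) e), by
        rw [card_sylow_sdiff, hP]; exact h3.symm⟩
    intro x hx
    obtain ⟨y, hy⟩ := hb.2 ⟨x, hx⟩
    have e : y.1 = x := congrArg Subtype.val hy
    exact e ▸ y.2.1
  haveI : (P : Subgroup G).Normal := by
    constructor
    intro x hx g
    rcases eq_or_ne x 1 with rfl | h
    · simp
    · exact hall _ (by rw [show g * x * g⁻¹ = MulAut.conj g x from rfl, MulEquiv.orderOf_eq, hord P x hx h])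
  let T : Set (G ⧸ (P : Subgroup G)) := {c | c ≠ 1 ∧ c ^ 2 = 1}
  have hmem : ∀ g : G, (g : G ⧸ (P : Subgroup G)) ∈ T ↔ orderOf g = 2 ∨ orderOf g = 6 := by
    intro g
    simp only [T, Set.mem_ofPred_eq, ne_eq, ← QuotientGroup.mk_pow, QuotientGroup.eq_one_iff]
    constructor
    · rintro ⟨h1, h2'⟩
      have h6' : orderOf g ∣ 6 := by
        apply orderOf_dvd_of_pow_eq_one
        rw [show 6 = 2 * 3 by norm_num, pow_mul]
        rcases eq_or_ne (g ^ 2) 1 with e | e
        · rw [e, one_pow]
        · rw [← hord P _ h2' e, pow_orderOf_eq_one]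
      have := Nat.le_of_dvd (by norm_num) h6'
      have hne1 : orderOf g ≠ 1 := fun e => h1 (by rw [orderOf_eq_one_iff.1 e]; exact one_mem _)
      have hne3 : orderOf g ≠ 3 := fun e => h1 (hall g e)
      have := orderOf_pos g
      generalize orderOf g = m at *
      interval_cases m <;> simp_all
    · intro h
      refine ⟨fun hg => ?_, ?_⟩
      · have := hord P g hg (by rintro rfl; simp at h)
        omega
      · rcases h with h | h
        · rw [← h, pow_orderOf_eq_one]; exact one_mem _
        · exact hall _ (by rw [orderOf_pow' _ (by norm_num), h]; norm_num)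
  have hc := Nat.card_congr (QuotientGroup.preimageMkEquivSubgroupProdSet (P : Subgroup G) T)
  rw [Nat.card_prod] at hc
  change Nat.card {g : G // (g : G ⧸ (P : Subgroup G)) ∈ T} = _ at hc
  rw [Nat.card_congr (Equiv.subtypeEquivRight hmem), Nat.card_congr (subtypeOrEquiv
    (fun g : G => orderOf g = 2) (fun g => orderOf g = 6) (by
      rw [Pi.disjoint_iff]; intro g; simp only [Prop.disjoint_iff]; omega)), Nat.card_sum] at hc
  change ocount G 2 + ocount G 6 = _ at hc
  rw [h2, h6, hP] at hc
  omega

/-- Simplicity in order 360. -/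
theorem six_simple (hG : Nat.card G = 360) (h3 : ocount G 3 = 80) (h5 : ocount G 5 = 144)
    (hM : ∀ m, ocount G m ≠ 0 → m ≤ 5) : IsSimpleGroup G := by
  classical
  haveI : Fact (Nat.Prime 5) := ⟨by norm_num⟩
  haveI := Fact.mk Nat.prime_three
  haveI : Nontrivial G := (Finite.one_lt_card_iff_nontrivial).1 (by omega)
  refine ⟨fun N hN => ?_⟩
  haveI := hN
  rw [or_iff_not_imp_left]
  intro hbot
  by_contra htop
  have hmul := N.card_mul_index
  rw [hG] at hmul
  have hN1 : Nat.card N ≠ 1 := fun e => hbot (Subgroup.eq_bot_of_card_eq N e)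
  have hi1 : N.index ≠ 1 := fun e => htop (Subgroup.index_eq_one.1 e)
  have m5 : ¬ 5 ∣ N.index → ∀ x : G, orderOf x = 5 → x ∈ N := fun h x hx =>
    mem_of_coprime_index (hx ▸ ((Fact.out : Nat.Prime 5).coprime_iff_not_dvd.2 h))
  have m3 : ¬ 3 ∣ N.index → ∀ x : G, orderOf x = 3 → x ∈ N := fun h x hx =>
    mem_of_coprime_index (hx ▸ (Nat.prime_three.coprime_iff_not_dvd.2 h))
  by_cases hN5 : 5 ∣ Nat.card N
  · have hni : ¬ 5 ∣ N.index := fun h => by
      have := Nat.mul_dvd_mul hN5 h
      rw [hmul] at this
      norm_num at this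
    have h145 := ocount_le_card (m5 hni)
    rw [h5] at h145
    obtain ⟨a, ha⟩ := hN5
    have hi2 : N.index = 2 := by
      have : N.index ≤ 2 := by
        by_contra hlt
        have := Nat.mul_le_mul h145 (show 3 ≤ N.index by omega)
        omega
      have := Nat.pos_of_ne_zero (Subgroup.index_ne_zero_of_finite (H := N))
      omega
    have := two_ocount_le_card (m := 3) (k := 5) (by norm_num) (by norm_num) (by norm_num)
      (fun x hx => hx.elim (m3 (by rw [hi2]; norm_num) x) (m5 hni x))
    rw [hi2] at hmul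
    omega
  · obtain ⟨y, hy⟩ := ocount_ne_zero_iff.1 (show ocount G 5 ≠ 0 by omega)
    -- no nontrivial element of N commutes with y
    have hfix : ∀ n ∈ N, y * n = n * y → n = 1 := by
      intro n hn hc
      by_contra hn1
      have hco : (orderOf y).Coprime (orderOf n) := by
        rw [hy]
        exact (Fact.out : Nat.Prime 5).coprime_iff_not_dvd.2 fun h =>
          hN5 (h.trans (Subgroup.orderOf_dvd_natCard N hn))
      have := hM _ (ocount_mul_ne_zero hc hco)
      rw [hy] at this
      have h2 : 2 ≤ orderOf n := by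
        have := orderOf_pos n
        have : orderOf n ≠ 1 := fun e => hn1 (orderOf_eq_one_iff.1 e)
        omega
      omega
    have hY : IsPGroup 5 (Subgroup.zpowers y) := IsPGroup.of_card (n := 1) (by
      rw [Nat.card_zpowers, hy, pow_one])
    letI : MulAction (Subgroup.zpowers y) N :=
      MulAction.compHom N ((MulAut.conjNormal (H := N)).comp (Subgroup.zpowers y).subtype)
    have hmod := hY.card_modEq_card_fixedPoints N
    have hone : Nat.card (MulAction.fixedPoints (Subgroup.zpowers y) N) = 1 := by
      rw [Nat.card_eq_one_iff_unique]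
      refine ⟨⟨fun a b => ?_⟩, ⟨⟨1, fun g => show MulAut.conjNormal (g : G) (1 : N) = 1 from map_one _⟩⟩⟩
      have key : ∀ a : MulAction.fixedPoints (Subgroup.zpowers y) N, ((a : N) : G) = 1 := fun a => by
        have h := congrArg Subtype.val (a.2 ⟨y, Subgroup.mem_zpowers y⟩)
        change y * ((a : N) : G) * y⁻¹ = _ at h
        exact hfix _ (a : N).2 (mul_inv_eq_iff_eq_mul.1 h)
      exact Subtype.ext (Subtype.ext ((key a).trans (key b).symm))
    rw [hone] at hmod
    have h72 : Nat.card N ∣ 72 :=
      ((((Fact.out : Nat.Prime 5).coprime_iff_not_dvd).2 hN5).symm).dvd_of_dvd_mul_left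
        (show Nat.card N ∣ 5 * 72 from ⟨N.index, hmul.symm⟩)
    have hle := Nat.le_of_dvd (by norm_num) h72
    have hcases : Nat.card N = 6 ∨ Nat.card N = 36 := by
      have hm : Nat.card N % 5 = 1 := hmod
      generalize Nat.card N = a at *
      interval_cases a <;> omega
    rcases hcases with h | h
    · -- a subgroup of order three normalised by y
      obtain ⟨x, hx⟩ := exists_prime_orderOf_dvd_card' (G := N) 3 (by rw [h]; norm_num)
      have hidx : (Subgroup.zpowers x).index = 2 := by
        have := (Subgroup.zpowers x).card_mul_index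
        rw [Nat.card_zpowers, hx, h] at this
        omega
      have huniq : ∀ z : N, orderOf z = 3 → z ∈ Subgroup.zpowers x := by
        intro z hz
        have h2 := Subgroup.sq_mem_of_index_two hidx z
        have : z = (z ^ 2) ^ 2 := by
          rw [← pow_mul, show (2 * 2 : ℕ) = 3 + 1 from rfl, pow_succ, ← hz, pow_orderOf_eq_one, one_mul]
        rw [this]
        exact Subgroup.pow_mem _ h2 2
      have hxG : orderOf (x : G) = 3 := by rw [Subgroup.orderOf_coe, hx]
      have key : ∀ g : G, ∀ z ∈ Subgroup.zpowers (x : G), g * z * g⁻¹ ∈ Subgroup.zpowers (x : G) := by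
        rintro g z ⟨i, rfl⟩
        have hc : orderOf (⟨g * x * g⁻¹, hN.conj_mem _ x.2 g⟩ : N) = 3 := by
          rw [← Subgroup.orderOf_coe]
          show orderOf (MulAut.conj g (x : G)) = 3
          rw [MulEquiv.orderOf_eq, hxG]
        obtain ⟨j, hj⟩ := huniq _ hc
        refine ⟨j * i, ?_⟩
        have hj' : (x : G) ^ j = g * x * g⁻¹ := by simpa using congrArg Subtype.val hj
        dsimp only
        rw [← conj_zpow, ← hj', zpow_mul]
      have hyn : y ∈ Subgroup.normalizer (Subgroup.zpowers (x : G) : Set G) := by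
        rw [Subgroup.mem_normalizer_iff]
        refine fun z => ⟨key y z, fun hz => ?_⟩
        have := key y⁻¹ _ hz
        simpa [mul_assoc] using this
      have hc := commute_of_normalizes Nat.prime_three (by rw [Nat.card_zpowers, hxG]) hyn
        (by rw [hy]; norm_num) (x : G) (Subgroup.mem_zpowers _)
      exact absurd (hfix _ x.2 hc) fun e => by rw [e, orderOf_one] at hxG; omega
    · have hi : N.index = 10 := by rw [h] at hmul; omega
      have := ocount_le_card (m3 (by rw [hi]; norm_num))
      omega

theorem alt_six (hV : Vals G {1, 45, 80, 90, 144}) : Nonempty (G ≃* alternatingGroup (Fin 6)) := by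
  classical
  haveI := Fact.mk Nat.prime_three
  haveI : Fact (Nat.Prime 5) := ⟨by norm_num⟩
  haveI : Fact (Nat.Prime 7) := ⟨by norm_num⟩
  have h1 : ocount G 1 = 1 := ocount_one
  have h2 : ocount G 2 = 45 := ocount_two_eq (by decide) (by norm_num) (hV.att 45 (by simp))
  have hmem : ∀ m, ocount G m = 0 ∨ ocount G m = 1 ∨ ocount G m = 45 ∨ ocount G m = 80 ∨
      ocount G m = 90 ∨ ocount G m = 144 := fun m => by
    rcases eq_or_ne (ocount G m) 0 with h | h
    · exact Or.inl h
    · right; simpa using hV.mem m h
  have hv : ∀ m, 2 ∣ m.totient →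
      ocount G m = 0 ∨ ocount G m = 80 ∨ ocount G m = 90 ∨ ocount G m = 144 := fun m hm => by
    have := hm.trans (totient_dvd_ocount (G := G) m)
    rcases hmem m with h | h | h | h | h | h <;> omega
  have hv4 : ∀ m, 4 ∣ m.totient → ocount G m = 0 ∨ ocount G m = 80 ∨ ocount G m = 144 := fun m hm => by
    have := hm.trans (totient_dvd_ocount (G := G) m)
    rcases hmem m with h | h | h | h | h | h <;> omega
  have hv6 : ∀ m, 6 ∣ m.totient → ocount G m = 0 ∨ ocount G m = 90 ∨ ocount G m = 144 := fun m hm => by
    have := hm.trans (totient_dvd_ocount (G := G) m)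
    rcases hmem m with h | h | h | h | h | h <;> omega
  have hprime : ∀ p : ℕ, p.Prime → ocount G p ≠ 0 →
      p = 2 ∨ (p = 3 ∧ ocount G p = 80) ∨ (p = 5 ∧ ocount G p = 144) ∨ (p = 7 ∧ ocount G p = 90) := by
    intro p hp hs
    rcases eq_or_ne p 2 with e | e
    · exact Or.inl e
    have hd := dvd_sum_of_ocount hs
    rw [hp.divisors, Finset.sum_pair (Ne.symm hp.ne_one), ocount_one] at hd
    have h3 : 2 < p := by have := hp.two_le; omega
    have ht := totient_dvd_ocount (G := G) p
    rw [Nat.totient_prime hp] at ht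
    rcases hv p (by rw [Nat.totient_prime hp]; exact (hp.even_sub_one e).two_dvd) with h | h | h | h
    · exact absurd h hs
    all_goals rw [h] at ht hd; have := Nat.le_of_dvd (by norm_num) hd
    · rcases six_prime_80 p (by omega) h3 ht hd with rfl | rfl | rfl
      · exact Or.inr (Or.inl ⟨rfl, h⟩)
      all_goals norm_num at hp
    · rcases six_prime_90 p (by omega) h3 ht hd with rfl | rfl
      · exact Or.inr (Or.inr (Or.inr ⟨rfl, h⟩))
      · norm_num at hp
    · rcases six_prime_144 p (by omega) h3 ht hd with rfl | rfl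
      · exact Or.inr (Or.inr (Or.inl ⟨rfl, h⟩))
      · norm_num at hp
  have v3 : ocount G 3 = 0 ∨ ocount G 3 = 80 := by
    by_contra h
    rcases hprime 3 Nat.prime_three (by omega) with e | ⟨-, e⟩ | ⟨e, -⟩ | ⟨e, -⟩ <;> omega
  have v5 : ocount G 5 = 0 ∨ ocount G 5 = 144 := by
    by_contra h
    rcases hprime 5 (by norm_num) (by omega) with e | ⟨e, -⟩ | ⟨-, e⟩ | ⟨e, -⟩ <;> omega
  have v7 : ocount G 7 = 0 ∨ ocount G 7 = 90 := by
    by_contra h
    rcases hprime 7 (by norm_num) (by omega) with e | ⟨e, -⟩ | ⟨e, -⟩ | ⟨-, e⟩ <;> omega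
  have z : ∀ d m, ocount G d = 0 → d ∣ m → ocount G m = 0 := fun d m hd hdm =>
    by_contra fun h => ocount_of_dvd h hdm hd
  have v4 : ocount G 4 = 0 ∨ ocount G 4 = 90 := by
    by_contra h
    have hd := dvd_sum_of_ocount (G := G) (n := 4) (by omega)
    rw [show Nat.divisors 4 = {1, 2, 4} by decide] at hd
    simp [h1, h2] at hd
    rcases hv 4 (by decide) with e | e | e | e <;> omega
  have v8 := hv4 8 (by decide)
  have s16 : ocount G 16 = 0 := by
    by_contra h
    have e4 := ocount_of_dvd h (show 4 ∣ 16 by norm_num)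
    have e8 := ocount_of_dvd h (show 8 ∣ 16 by norm_num)
    have e := (show 8 ∣ Nat.totient 16 by decide).trans (totient_dvd_ocount (G := G) 16)
    have hd := dvd_sum_of_ocount h
    rw [show Nat.divisors 16 = {1, 2, 4, 8, 16} by decide] at hd
    simp [h1, h2] at hd
    rcases hmem 16 with e' | e' | e' | e' | e' | e' <;> omega
  have h16 : ¬ 16 ∣ Nat.card G := fun hb => by
    have := pow_dvd_sum (G := G) (p := 2) (e := 3) (b := 4) Nat.prime_two (by simpa using s16)
      (by norm_num) (by simpa using hb)
    simp [Finset.sum_range_succ, h1, h2] at this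
    rcases v4 with e | e <;> rcases v8 with e' | e' | e' <;>
      omega
  have s27 : ocount G 27 = 0 := by
    by_contra h
    have e := (show 18 ∣ Nat.totient 27 by decide).trans (totient_dvd_ocount (G := G) 27)
    have e9 := hv6 9 (by decide)
    have := ocount_of_dvd h (show 9 ∣ 27 by norm_num)
    have e3 : ocount G 3 = 80 := v3.resolve_left (ocount_of_dvd h (by norm_num))
    have hd := dvd_sum_of_ocount h
    rw [show Nat.divisors 27 = {1, 3, 9, 27} by decide] at hd
    simp [h1, e3] at hd
    rcases hmem 27 with e' | e' | e' | e' | e' | e' <;> omega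
  have s9 : ocount G 9 = 0 := by
    by_contra h
    have e9 : ocount G 9 = 90 ∨ ocount G 9 = 144 := (hv6 9 (by decide)).resolve_left h
    have e3 : ocount G 3 = 80 := v3.resolve_left (ocount_of_dvd h (by norm_num))
    have hb : ¬ 3 ^ (1 + 2) ∣ Nat.card G := fun hb => by
      have := pow_dvd_sum (G := G) (p := 3) (e := 2) (b := 3) Nat.prime_three (by simpa using s27)
        (by norm_num) hb
      simp [Finset.sum_range_succ, h1, e3] at this
      omega
    have := cyclic_bound (G := G) (p := 3) (e := 1) (by simpa using h) hb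
    norm_num [e3] at this
    omega
  have h243 : ¬ 243 ∣ Nat.card G := fun hb => by
    have := pow_dvd_sum (G := G) (p := 3) (e := 1) (b := 5) Nat.prime_three (by simpa using s9)
      (by norm_num) (by simpa using hb)
    simp [Finset.sum_range_succ, h1] at this
    omega
  have s125 : ocount G 125 = 0 := by
    have e := (show 100 ∣ Nat.totient 125 by decide).trans (totient_dvd_ocount (G := G) 125)
    rcases hmem 125 with e' | e' | e' | e' | e' | e' <;> omega
  have s25 : ocount G 25 = 0 := by
    by_contra h
    have e := (show 20 ∣ Nat.totient 25 by decide).trans (totient_dvd_ocount (G := G) 25)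
    have e25 : ocount G 25 = 80 := by rcases hmem 25 with e' | e' | e' | e' | e' | e' <;> omega
    have e5 : ocount G 5 = 144 := v5.resolve_left (ocount_of_dvd h (by norm_num))
    have hb : ¬ 5 ^ (1 + 2) ∣ Nat.card G := fun hb => by
      have := pow_dvd_sum (G := G) (p := 5) (e := 2) (b := 3) (by norm_num) (by simpa using s125)
        (by norm_num) hb
      simp [Finset.sum_range_succ, h1, e5, e25] at this
    have := cyclic_bound (G := G) (p := 5) (e := 1) (by simpa using h) hb
    norm_num [e5, e25] at this
  have h25 : ¬ 25 ∣ Nat.card G := fun hb => by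
    have := pow_dvd_sum (G := G) (p := 5) (e := 1) (b := 2) (by norm_num) (by simpa using s25)
      (by norm_num) (by simpa using hb)
    simp [Finset.sum_range_succ, h1] at this
    omega
  -- five
  have hsyl5 : ocount G 5 ≠ 0 → ∀ Q : Sylow 5 G, Nat.card Q = 5 ∧ Nat.card (Sylow 5 G) = 36 := by
    intro h Q
    have e5 := v5.resolve_left h
    have hQ : Nat.card Q = 5 := by
      obtain ⟨k, hk⟩ := Q.2.exists_card_eq
      have hle : k ≤ 1 := by
        by_contra hlt
        exact h25 ((show 5 ^ 2 ∣ 5 ^ k from pow_dvd_pow 5 (by omega)).trans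
          (hk ▸ Subgroup.card_subgroup_dvd_card _))
      have hd : 5 ∣ Nat.card Q := Sylow.dvd_card_of_dvd_card Q (dvd_card_of_ocount h)
      interval_cases k
      · rw [hk] at hd; norm_num at hd
      · rw [hk, pow_one]
    have := card_sylow_mul Q hQ
    exact ⟨hQ, by omega⟩
  have h36 : ocount G 5 ≠ 0 → 36 ∣ Nat.card G := fun h => by
    have := (hsyl5 h default).2
    exact this ▸ (Sylow.card_dvd_index (default : Sylow 5 G)).trans (Subgroup.index_dvd_card _)
  have s15 : ocount G 15 = 0 := by
    by_contra h
    have e := hv4 15 (by decide)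
    have e3 : ocount G 3 = 80 := v3.resolve_left (ocount_of_dvd h (by norm_num))
    have e5 : ocount G 5 = 144 := v5.resolve_left (ocount_of_dvd h (by norm_num))
    have hd := dvd_sum_of_ocount h
    rw [show Nat.divisors 15 = {1, 3, 5, 15} by decide] at hd
    simp [h1, e3, e5] at hd
    omega
  have s10 : ocount G 10 = 0 := by
    by_contra h
    have e5n := ocount_of_dvd h (show 5 ∣ 10 by norm_num)
    have e10 : ocount G 10 = 80 := by
      have e := hv4 10 (by decide)
      have hd := dvd_sum_of_ocount h
      rw [show Nat.divisors 10 = {1, 2, 5, 10} by decide] at hd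
      simp [h1, h2, v5.resolve_left e5n] at hd
      omega
    obtain ⟨x, hx⟩ := ocount_ne_zero_iff.1 h
    have hb := index_mul_le_ocount x
    rw [hx, e10, show Nat.totient 10 = 4 by decide] at hb
    have hdv := Subgroup.index_dvd_of_le (normalizer_zpowers_le x 2)
    obtain ⟨Q, hQ⟩ := (IsPGroup.of_card (p := 5) (n := 1) (G := Subgroup.zpowers (x ^ 2))
      (by rw [Nat.card_zpowers, orderOf_pow' _ (by norm_num), hx]; norm_num)).exists_le_sylow
    have hQe : Subgroup.zpowers (x ^ 2) = (Q : Subgroup G) := Subgroup.eq_of_le_of_card_ge hQ (by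
      rw [Nat.card_zpowers, orderOf_pow' _ (by norm_num), hx, (hsyl5 e5n Q).1]
      norm_num)
    rw [hQe] at hdv
    have hn : Nat.card (Sylow 5 G) ∣ (Subgroup.normalizer (Subgroup.zpowers x : Set G)).index := by
      rw [Sylow.card_eq_index_normalizer Q]; exact hdv
    rw [(hsyl5 e5n Q).2] at hn
    have := Nat.le_of_dvd (Nat.pos_of_ne_zero Subgroup.index_ne_zero_of_finite) hn
    omega
  have s7 : ocount G 7 = 0 := by
    by_contra h
    have e7 := v7.resolve_left h
    have h49 : ¬ 49 ∣ Nat.card G := fun hb => by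
      have s49 : ocount G (7 ^ (1 + 1)) = 0 := by
        have e := (show 42 ∣ Nat.totient 49 by decide).trans (totient_dvd_ocount (G := G) 49)
        rcases hmem 49 with e' | e' | e' | e' | e' | e' <;> norm_num <;> omega
      have := pow_dvd_sum (G := G) (p := 7) (e := 1) (b := 2) (by norm_num) s49 (by norm_num)
        (by simpa using hb)
      simp [Finset.sum_range_succ, h1, e7] at this
    let P7 : Sylow 7 G := default
    have hP7 : Nat.card P7 = 7 := by
      obtain ⟨k, hk⟩ := P7.2.exists_card_eq
      have hle : k ≤ 1 := by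
        by_contra hlt
        exact h49 ((show 7 ^ 2 ∣ 7 ^ k from pow_dvd_pow 7 (by omega)).trans
          (hk ▸ Subgroup.card_subgroup_dvd_card _))
      have hd : 7 ∣ Nat.card P7 := Sylow.dvd_card_of_dvd_card P7 (dvd_card_of_ocount h)
      interval_cases k
      · rw [hk] at hd; norm_num at hd
      · rw [hk, pow_one]
    have hn7 : Nat.card (Sylow 7 G) = 15 := by
      have := card_sylow_mul P7 hP7
      omega
    have h15 : 15 ∣ Nat.card G := hn7 ▸ (Sylow.card_dvd_index P7).trans (Subgroup.index_dvd_card _)
    obtain ⟨w, hw⟩ := exists_prime_orderOf_dvd_card' (G := G) 5 ((show 5 ∣ 15 by norm_num).trans h15)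
    have e5n : ocount G 5 ≠ 0 := ocount_ne_zero_iff.2 ⟨w, hw⟩
    let Q : Sylow 5 G := default
    obtain ⟨hQ, hnQ⟩ := hsyl5 e5n Q
    have hN7 : 7 ∣ Nat.card (Subgroup.normalizer ((Q : Subgroup G) : Set G)) := by
      have hm := (Subgroup.normalizer ((Q : Subgroup G) : Set G)).card_mul_index
      have hi : (Subgroup.normalizer ((Q : Subgroup G) : Set G)).index = 36 :=
        (Sylow.card_eq_index_normalizer Q).symm.trans hnQ
      rw [hi] at hm
      exact (show Nat.Coprime 7 36 by norm_num).dvd_of_dvd_mul_right (hm ▸ dvd_card_of_ocount h)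
    obtain ⟨y, hy⟩ := exists_prime_orderOf_dvd_card' 7 hN7
    obtain ⟨x, hx⟩ := exists_prime_orderOf_dvd_card' (G := (Q : Subgroup G)) 5 hQ.symm.dvd
    have hc := commute_of_normalizes (q := 5) (by norm_num) hQ y.2
      (by rw [Subgroup.orderOf_coe, hy]; norm_num) x x.2
    have h35 := ocount_mul_ne_zero hc (by rw [Subgroup.orderOf_coe, hy, Subgroup.orderOf_coe, hx]; norm_num)
    rw [Subgroup.orderOf_coe, hy, Subgroup.orderOf_coe, hx] at h35
    norm_num at h35
    have e35 : ocount G 35 = 144 := by
      have e := (show 24 ∣ Nat.totient 35 by decide).trans (totient_dvd_ocount (G := G) 35)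
      rcases hmem 35 with e' | e' | e' | e' | e' | e' <;> omega
    have hd := dvd_sum_of_ocount h35
    rw [show Nat.divisors 35 = {1, 5, 7, 35} by decide] at hd
    simp [h1, e7, e35, v5.resolve_left e5n] at hd
  have hd120 : ∀ m, ocount G m ≠ 0 → m ∣ 2 ^ 3 * 3 ^ 1 * 5 ^ 1 := fun m hm =>
    dvd_of_ocount_three (by simpa using s16) (by simpa using s9) (by simpa using s25)
      (fun p hp h => by
        rcases hprime p hp h with e | ⟨e, -⟩ | ⟨e, -⟩ | ⟨e, -⟩
        · exact Or.inl e
        · exact Or.inr (Or.inl e)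
        · exact Or.inr (Or.inr e)
        · exact absurd s7 (e ▸ h)) hm
  have hM : ∀ m, ocount G m ≠ 0 → m ∈ ({1, 2, 3, 4, 5, 6, 8, 12, 24} : Finset ℕ) := by
    intro m hm
    have hm' : m ∈ Nat.divisors 120 := Nat.mem_divisors.2 ⟨by simpa using hd120 m hm, by norm_num⟩
    rw [show Nat.divisors 120 =
      {1, 2, 3, 4, 5, 6, 8, 10, 12, 15, 20, 24, 30, 40, 60, 120} by decide] at hm'
    simp only [Finset.mem_insert, Finset.mem_singleton] at hm' ⊢
    have := z 10 20 s10 (by norm_num)
    have := z 10 30 s10 (by norm_num)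
    have := z 10 40 s10 (by norm_num)
    have := z 10 60 s10 (by norm_num)
    have := z 10 120 s10 (by norm_num)
    rcases hm' with rfl | rfl | rfl | rfl | rfl | rfl | rfl | rfl | rfl | rfl | rfl | rfl | rfl |
      rfl | rfl | rfl <;> omega
  have hcard := card_eq_sum _ hM
  simp [h1, h2] at hcard
  have v6 : ocount G 6 = 0 ∨ ocount G 6 = 90 ∨ ocount G 6 = 144 := by
    by_contra h
    have hd := dvd_sum_of_ocount (G := G) (n := 6) (by omega)
    have e3 : ocount G 3 = 80 := v3.resolve_left (ocount_of_dvd (m := 6) (by omega) (by norm_num))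
    rw [show Nat.divisors 6 = {1, 2, 3, 6} by decide] at hd
    simp [h1, h2, e3] at hd
    rcases hv 6 (by decide) with e | e | e | e <;> omega
  have h12 : ocount G 12 ≠ 0 → ocount G 4 = 90 ∧ ocount G 6 = 144 ∧ ocount G 12 = 144 := fun h => by
    have e3 : ocount G 3 = 80 := v3.resolve_left (ocount_of_dvd h (by norm_num))
    have e4 : ocount G 4 = 90 := v4.resolve_left (ocount_of_dvd h (by norm_num))
    have e6n := ocount_of_dvd h (show 6 ∣ 12 by norm_num)
    have hd := dvd_sum_of_ocount h
    rw [show Nat.divisors 12 = {1, 2, 3, 4, 6, 12} by decide] at hd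
    simp [h1, h2, e3, e4] at hd
    rcases hv4 12 (by decide) with e | e | e <;> rcases v6 with e' | e' | e' <;> omega
  have v12 : ocount G 12 = 0 ∨ ocount G 12 = 144 := (eq_or_ne _ _).imp id fun h => (h12 h).2.2
  have v24 : ocount G 24 = 0 ∨ ocount G 24 = 144 := (eq_or_ne _ _).imp id fun h => by
    have e12 := ocount_of_dvd h (show 12 ∣ 24 by norm_num)
    obtain ⟨e4, e6, e12'⟩ := h12 e12
    have e3 : ocount G 3 = 80 := v3.resolve_left (ocount_of_dvd h (by norm_num))
    have e8n := ocount_of_dvd h (show 8 ∣ 24 by norm_num)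
    have hd := dvd_sum_of_ocount h
    rw [show Nat.divisors 24 = {1, 2, 3, 4, 6, 8, 12, 24} by decide] at hd
    simp [h1, h2, e3, e4, e6, e12'] at hd
    rcases hv4 24 (by decide) with e | e | e <;> rcases v8 with e' | e' | e' <;> omega
  have att : ∀ v, v = 80 ∨ v = 144 → ocount G 3 = v ∨ ocount G 4 = v ∨ ocount G 5 = v ∨
      ocount G 6 = v ∨ ocount G 8 = v ∨ ocount G 12 = v ∨ ocount G 24 = v := by
    intro v hv'
    obtain ⟨m, hm⟩ := hV.att v (by rcases hv' with rfl | rfl <;> simp)
    have hm' := hM m (by omega)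
    simp only [Finset.mem_insert, Finset.mem_singleton] at hm'
    rcases hm' with rfl | rfl | rfl | rfl | rfl | rfl | rfl | rfl | rfl <;> omega
  have e3 : ocount G 3 = 80 := by
    refine v3.resolve_left fun e => ?_
    have e5 : ocount G 5 = 0 := by_contra fun h => by
      obtain ⟨x, hx⟩ := exists_prime_orderOf_dvd_card' (G := G) 3 ((show 3 ∣ 36 by norm_num).trans (h36 h))
      exact ocount_ne_zero_iff.2 ⟨x, hx⟩ e
    have := z 3 6 e (by norm_num)
    have := z 3 12 e (by norm_num)
    have := z 3 24 e (by norm_num)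
    have := att 80 (Or.inl rfl)
    have := att 144 (Or.inr rfl)
    omega
  rcases v5 with e5 | e5
  · exfalso
    have h648 : Nat.card G ∣ 648 := card_dvd_of_primes (by norm_num) fun p hp hd => by
      obtain ⟨x, hx⟩ : ∃ x : G, orderOf x = p :=
        (haveI := Fact.mk hp; exists_prime_orderOf_dvd_card' p ((dvd_pow_self p (Nat.succ_ne_zero _)).trans hd))
      have hs : ocount G p ≠ 0 := ocount_ne_zero_iff.2 ⟨x, hx⟩
      have ef : ∀ q : ℕ, (2 ^ 3 * 3 ^ 4).factorization q =
          (if 2 = q then 3 else 0) + (if 3 = q then 4 else 0) := fun q => by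
        rw [Nat.factorization_mul (by positivity) (by positivity), Nat.prime_two.factorization_pow,
          Nat.prime_three.factorization_pow]
        simp [Finsupp.single_apply]
      rw [show (648 : ℕ) = 2 ^ 3 * 3 ^ 4 by norm_num, ef] at hd
      rcases hprime p hp hs with rfl | ⟨rfl, -⟩ | ⟨rfl, -⟩ | ⟨rfl, -⟩
      · exact h16 (by simpa using hd)
      · exact h243 (by simpa using hd)
      · exact hs e5
      · exact hs s7
    have ha := att 144 (Or.inr rfl)
    obtain ⟨hG, e6⟩ := six_arith_no_five (Nat.card G) (ocount G 4) (ocount G 6) (ocount G 8) (ocount G 12)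
      (ocount G 24) v4 v6 v8 v12 v24 (by omega) h648
      (fun h => ⟨ocount_of_dvd h (by norm_num), ocount_of_dvd h (by norm_num)⟩)
      (fun h => v4.resolve_left (ocount_of_dvd h (by norm_num))) (fun h => (h12 h).2.1) (by omega)
    exact six_no_648 s9 hG h2 e3 e6
  · have h5n : ocount G 5 ≠ 0 := by omega
    have h180 : 180 ∣ Nat.card G :=
      (show Nat.Coprime 5 36 by norm_num).mul_dvd_of_dvd_of_dvd (dvd_card_of_ocount h5n) (h36 h5n)
    obtain ⟨hG, b0, e0, f0, hcase⟩ := six_arith_five (Nat.card G) (ocount G 4) (ocount G 6) (ocount G 8)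
      (ocount G 12) (ocount G 24) v4 v6 v8 v12 v24 (by omega) h180
      (fun h => ⟨v4.resolve_left (ocount_of_dvd h (by norm_num)), dvd_card_of_ocount h⟩)
      (fun h => ⟨(h12 h).1, (h12 h).2.1⟩)
      (fun h => ⟨ocount_of_dvd h (by norm_num), ocount_of_dvd h (by norm_num)⟩)
    rcases hcase with ⟨-, d0⟩ | ⟨-, d90⟩
    · have hM5 : ∀ m, ocount G m ≠ 0 → m ≤ 5 := fun m hm => by
        have := hM m hm
        simp only [Finset.mem_insert, Finset.mem_singleton] at this
        rcases this with rfl | rfl | rfl | rfl | rfl | rfl | rfl | rfl | rfl <;> omega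
      haveI := six_simple hG e3 e5 hM5
      exact S0497.result hG
    · exfalso
      -- Sylow 3-subgroups
      let P : Sylow 3 G := default
      have hP : Nat.card P = 9 := by
        rw [P.card_eq_multiplicity, hG, show (360 : ℕ) = 3 ^ 2 * 40 by norm_num,
          Nat.factorization_mul (by norm_num) (by norm_num), Nat.prime_three.factorization_pow,
          Finsupp.add_apply, Finsupp.single_eq_same, Nat.factorization_eq_zero_of_not_dvd (by norm_num)]
        norm_num
      obtain ⟨hcov, hTI⟩ := sylow_cover (p := 3) (by simpa using s9) P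
      have hdvd : Nat.card (Sylow 3 G) ∣ 40 := by
        have h := Sylow.card_dvd_index P
        have hm := (P : Subgroup G).card_mul_index
        rw [hG] at hm
        have hP' : Nat.card (P : Subgroup G) = 9 := hP
        rw [hP'] at hm
        rwa [show (P : Subgroup G).index = 40 by omega] at h
      have hmod : Nat.card (Sylow 3 G) % 3 = 1 := card_sylow_modEq_one 3 G
      rw [e3, hP] at hcov
      have hle := Nat.le_of_dvd (by norm_num) hdvd
      have h40 : Nat.card (Sylow 3 G) = 10 ∨ Nat.card (Sylow 3 G) = 40 := by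
        generalize Nat.card (Sylow 3 G) = n at *
        interval_cases n <;> omega
      rcases h40 with hn | hn
      · obtain ⟨k, hk⟩ := ocount_six_eq (hTI (by rw [hn, hP, e3]))
        rw [hn, d90] at hk
        omega
      · -- a normal 3-complement
        have hPN : Subgroup.normalizer ((P : Subgroup G) : Set G) = (P : Subgroup G) := by
          refine (Subgroup.eq_of_le_of_card_ge Subgroup.le_normalizer ?_).symm
          have hm := (Subgroup.normalizer ((P : Subgroup G) : Set G)).card_mul_index
          have hi : (Subgroup.normalizer ((P : Subgroup G) : Set G)).index = 40 :=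
            (Sylow.card_eq_index_normalizer P).symm.trans hn
          rw [hi, hG] at hm
          have hP' : Nat.card (P : Subgroup G) = 9 := hP
          omega
        have hab : ∀ a b : (P : Subgroup G), a * b = b * a :=
          (IsPGroup.isMulCommutative_of_card_eq_prime_sq
            (show Nat.card (P : Subgroup G) = 3 ^ 2 from hP)).is_comm.comm
        have hcent : Subgroup.normalizer ((P : Subgroup G) : Set G) ≤
            Subgroup.centralizer ((P : Subgroup G) : Set G) := by
          rw [hPN]
          exact fun a ha => Subgroup.mem_centralizer_iff.2 fun b hb =>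
            congrArg Subtype.val (hab ⟨b, hb⟩ ⟨a, ha⟩)
        have hK := (MonoidHom.ker_transferSylow_isComplement' P hcent).card_mul_card
        have hP' : Nat.card (P : Subgroup G) = 9 := hP
        rw [hP', hG] at hK
        have := ocount_le_card (N := (MonoidHom.transferSylow P hcent).ker) (m := 5) fun x hx => by
          refine MonoidHom.mem_ker.2 (orderOf_eq_one_iff.1 (Nat.eq_one_of_dvd_coprimes
            (show Nat.Coprime 5 9 by norm_num) (hx ▸ orderOf_map_dvd _ x) (hP' ▸ orderOf_dvd_natCard _)))
        omega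

end Cfsg.Agent.H71.Nse
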