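import Cfsg.Agent.PGroups.Basic
import Mathlib.Algebra.Module.ZMod
import Mathlib.LinearAlgebra.Matrix.GeneralLinearGroup.Card
import Mathlib.LinearAlgebra.Matrix.ToLin
import Mathlib.FieldTheory.Finiteness
import Mathlib.GroupTheory.PGroup
import Mathlib.Algebra.Field.ZMod
import Mathlib.Tactic.NormNum.Prime

/-!
Odd prime power groups of automorphisms of a group of exponent two and order at most sixteen commute.
-/

set_option autoImplicit false
set_option linter.style.haveILetI false

namespace Cfsg.Agent.H71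

open Subgroup

theorem card_GL_two_dvd_20160 {j : ℕ} (hj : j ≤ 4) : Nat.card (GL (Fin j) (ZMod 2)) ∣ 20160 := by
  rw [Matrix.card_GL_field]
  simp only [Fintype.card_eq_nat_card, Nat.card_zmod]
  interval_cases j <;> simp [Fin.prod_univ_succ]

theorem le_two_of_pow_three_dvd_20160 {r : ℕ} (hr : r.Prime) (hr2 : r ≠ 2) (h : r ^ 3 ∣ 20160) : False := by
  have hle : r ≤ 27 := by
    by_contra h28
    have : 28 ^ 3 ≤ r ^ 3 := Nat.pow_le_pow_left (by omega) 3
    have := Nat.le_of_dvd (by norm_num) h
    omega
  have := hr.two_le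
  interval_cases r <;> revert h hr hr2 <;> norm_num

theorem commute_of_mulAut_small {A : Type*} [CommGroup A] [Finite A] (hexp : ∀ a : A, a * a = 1)
    (hcard : Nat.card A ≤ 16) {r : ℕ} [Fact r.Prime] (hr2 : r ≠ 2) (P : Subgroup (MulAut A))
    (hP : IsPGroup r P) : ∀ a ∈ P, ∀ b ∈ P, Commute a b := by
  classical
  have hr : r.Prime := Fact.out
  let _ : Module (ZMod 2) (Additive A) := AddCommGroup.zmodModule fun v => by
    induction v using Additive.rec with
    | _ a => rw [two_nsmul]; exact congrArg Additive.ofMul (hexp a)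
  let Θ : MulAut A →* Module.End (ZMod 2) (Additive A) :=
    { toFun := fun e => AddMonoidHom.toZModLinearMap 2 (MonoidHom.toAdditive e.toMonoidHom)
      map_one' := LinearMap.ext fun v => rfl
      map_mul' := fun e f => LinearMap.ext fun v => rfl }
  have hΘ : Function.Injective Θ := by
    intro e f h
    exact MulEquiv.ext fun a => congrArg (fun g : Module.End (ZMod 2) (Additive A) => Additive.toMul (g (Additive.ofMul a))) h
  set j := Module.finrank (ZMod 2) (Additive A) with hjdef
  have hj : Nat.card (Additive A) = 2 ^ j := by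
    rw [Module.natCard_eq_pow_finrank (K := ZMod 2), Nat.card_zmod]
  have hj4 : j ≤ 4 := by
    have h : 2 ^ j ≤ 2 ^ 4 := by
      rw [← hj]
      exact hcard
    exact (Nat.pow_le_pow_iff_right (by norm_num)).mp h
  let b := Module.finBasis (ZMod 2) (Additive A)
  let Ψ : MulAut A →* GL (Fin j) (ZMod 2) :=
    ((LinearMap.toMatrixAlgEquiv b).toMonoidHom.comp Θ).toHomUnits
  have hΨ : Function.Injective Ψ := fun e f h => hΘ
    ((LinearMap.toMatrixAlgEquiv b).injective (congrArg Units.val h))
  have hdvd : Nat.card P ∣ Nat.card (GL (Fin j) (ZMod 2)) := by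
    have := Subgroup.card_subgroup_dvd_card (P.map Ψ)
    rwa [Subgroup.card_map_of_injective hΨ] at this
  obtain ⟨i, hi⟩ := IsPGroup.iff_card.mp hP
  have hi2 : i ≤ 2 := by
    by_contra hlt
    have h3 : r ^ 3 ∣ Nat.card (GL (Fin j) (ZMod 2)) := by
      refine (pow_dvd_pow r (show 3 ≤ i by omega)).trans ?_
      rwa [← hi]
    exact le_two_of_pow_three_dvd_20160 hr hr2 (h3.trans (card_GL_two_dvd_20160 hj4))
  have hcomm : IsMulCommutative P := by
    rcases Nat.lt_or_eq_of_le hi2 with h | rfl
    · interval_cases i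
      · have : Subsingleton P := (Nat.card_eq_one_iff_unique.mp (by simpa using hi)).1
        exact ⟨⟨fun a b => Subsingleton.elim _ _⟩⟩
      · have : IsCyclic P := isCyclic_of_prime_card (p := r) (by simpa using hi)
        exact ⟨⟨fun a b => IsCyclic.commutative.is_comm.comm a b⟩⟩
    · exact ⟨⟨fun a b => (IsPGroup.commutative_of_card_eq_prime_sq hi) a b⟩⟩
  intro a ha c hc
  exact congrArg Subtype.val (hcomm.is_comm.comm (⟨a, ha⟩ : P) ⟨c, hc⟩)

end Cfsg.Agent.H71
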