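import Cfsg.Agent.Coprime.EndCount
import Cfsg.Agent.Coprime.FpfPrime
import Cfsg.Agent.Coprime.Action
import Cfsg.Agent.PGroups.Critical
import Cfsg.Agent.H71.ClassTwoComponent
import Cfsg.Agent.H71.MinimalAction
import Cfsg.Agent.H71.SmallAut

/-!
A two-power element moving at most a plane, whose involutory power generates an odd `r`-group `R`
by commutators: the derived group of `R` centralises every two-group it acts on, in odd
characteristic.
-/

set_option autoImplicit false
set_option linter.style.haveILetI false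
set_option linter.unusedSectionVars false
set_option maxHeartbeats 1600000

universe uk uY uV

namespace Cfsg.Agent.H71.Plane

open Subgroup
open Coprime Coprime.Weights Coprime.EndCount Coprime.FpfPrime
open scoped commutatorElement

variable {k : Type uk} [Field k]

/-- `T` has order dividing `2 ^ L`, is trivial where its involutory power is, and moves at most a
plane. -/
structure PlaneElt {V : Type*} [AddCommGroup V] [Module k V] (T : Module.End k V) (L : ℕ) : Prop where
  pow_eq : T ^ 2 ^ L = 1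
  fix : ∀ v, (T ^ 2 ^ (L - 1)) v = v → T v = v
  rank : Module.finrank k (LinearMap.range (T ^ 2 ^ (L - 1) - 1)) ≤ 2

section PlaneElt

variable {V : Type uV} [AddCommGroup V] [Module k V] [FiniteDimensional k V]
variable {T : Module.End k V} {L : ℕ}

theorem PlaneElt.involutive (h : PlaneElt T L) (hL : 0 < L) :
    T ^ 2 ^ (L - 1) * T ^ 2 ^ (L - 1) = 1 := by
  rw [← pow_add, ← two_mul, ← pow_succ', Nat.sub_add_cancel hL, h.pow_eq]

theorem PlaneElt.range_sub_one_le (h : PlaneElt T L) (hL : 0 < L) (h2 : (2 : k) ≠ 0) :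
    Module.finrank k (LinearMap.range (T - 1)) ≤ 2 := by
  set g := T ^ 2 ^ (L - 1) with hg
  have hle : LinearMap.range (T - 1) ≤ (LinearMap.range (g - 1)).map (T - 1) := by
    rintro _ ⟨v, rfl⟩
    refine ⟨(g - 1) (-((2 : k)⁻¹ • v)), LinearMap.mem_range_self _ _, ?_⟩
    have hfix : (T - 1) ((2 : k)⁻¹ • (v + g v)) = 0 := by
      rw [LinearMap.sub_apply, Module.End.one_apply, sub_eq_zero]
      refine h.fix _ ?_
      rw [← hg, map_smul, map_add, ← Module.End.mul_apply g g v, h.involutive hL, Module.End.one_apply,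
        add_comm]
    have hdec : (g - 1) (-((2 : k)⁻¹ • v)) = v - (2 : k)⁻¹ • (v + g v) := by
      have h1 : v = (2 : k)⁻¹ • (v + v) := by
        rw [← two_smul k v, smul_smul, inv_mul_cancel₀ h2, one_smul]
      rw [LinearMap.sub_apply, Module.End.one_apply, map_neg, map_smul]
      nth_rw 3 [h1]
      simp only [smul_add]
      abel
    rw [hdec, map_sub, hfix, sub_zero]
  exact (Submodule.finrank_mono hle).trans ((Submodule.finrank_map_le _ _).trans h.rank)

theorem PlaneElt.eq_zero_of_neg (h : PlaneElt T L) (hL : 2 ≤ L) (h2 : (2 : k) ≠ 0) {u : V}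
    (hu : T u = -u) : u = 0 := by
  have hit : ∀ j : ℕ, (T ^ j) u = ((-1 : k) ^ j) • u := by
    intro j
    induction j with
    | zero => simp
    | succ j ih =>
      rw [pow_succ', Module.End.mul_apply, ih, map_smul, hu, pow_succ, mul_smul, neg_one_smul]
  have hev : Even (2 ^ (L - 1)) := even_two.pow_of_ne_zero (by omega)
  have h1 := h.fix u (by rw [hit, hev.neg_one_pow, one_smul])
  rw [hu] at h1
  refine (smul_eq_zero.mp (show (2 : k) • u = 0 from ?_)).resolve_left h2
  rw [two_smul]
  nth_rw 1 [← h1]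
  exact neg_add_cancel u

theorem PlaneElt.sub {Y : Type uY} [Group Y] {ρ : Y →* Module.End k V} {t : Y} (h : PlaneElt (ρ t) L)
    {e : Module.End k V} (ht : t ∈ stab ρ e) : PlaneElt (FpfPrime.sub ρ e ⟨t, ht⟩) L := by
  have hpow : ∀ (j : ℕ) (v : LinearMap.range e),
      ((((FpfPrime.sub ρ e ⟨t, ht⟩) ^ j) v : LinearMap.range e) : V) = ((ρ t) ^ j) v := by
    intro j v
    rw [← map_pow, FpfPrime.sub_apply, ← map_pow]
    rfl
  refine ⟨LinearMap.ext fun v => Subtype.ext ?_, fun v hv => Subtype.ext ?_, ?_⟩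
  · rw [hpow, h.pow_eq]; rfl
  · have := h.fix (v : V) (by rw [← hpow, hv])
    rw [FpfPrime.sub_apply]
    exact this
  · refine le_trans ?_ h.rank
    rw [← Submodule.finrank_map_subtype_eq]
    refine Submodule.finrank_mono ?_
    rintro _ ⟨_, ⟨v, rfl⟩, rfl⟩
    refine ⟨(v : V), ?_⟩
    simp only [LinearMap.sub_apply, Module.End.one_apply, Submodule.subtype_apply, AddSubgroupClass.coe_sub,
      hpow]

end PlaneElt

/-- The hypotheses of the core lemma. -/
structure Hyp {Y : Type uY} [Group Y] {V : Type uV} [AddCommGroup V] [Module k V]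
    (ρ : Y →* Module.End k V) (r : ℕ) (S R : Subgroup Y) (t : Y) (L : ℕ) : Prop where
  two : IsPGroup 2 S
  odd : IsPGroup r R
  rs : R ≤ normalizer (S : Set Y)
  ts : t ∈ normalizer (S : Set Y)
  tr : t ∈ normalizer (R : Set Y)
  gen : R ≤ ⁅R, zpowers (t ^ 2 ^ (L - 1))⁆
  plane : PlaneElt (ρ t) L

variable {Y : Type uY} [Group Y] {V : Type uV} [AddCommGroup V] [Module k V]

theorem Hyp.pullback {ρ : Y →* Module.End k V} {r L : ℕ} {S R : Subgroup Y} {t : Y} (h : Hyp ρ r S R t L)
    {H : Subgroup Y} (hR : R ≤ H) (ht : t ∈ H) {W : Type uV} [AddCommGroup W] [Module k W]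
    (σ : H →* Module.End k W) (hp : PlaneElt (σ ⟨t, ht⟩) L) :
    Hyp σ r (S.subgroupOf H) (R.subgroupOf H) ⟨t, ht⟩ L := by
  refine ⟨h.two.comap_subtype, h.odd.comap_subtype, fun a ha => ?_, ?_, ?_, ?_, hp⟩
  · exact mem_normalizer_iff.mpr fun z => mem_normalizer_iff.mp (h.rs ha) (z : Y)
  · exact mem_normalizer_iff.mpr fun z => mem_normalizer_iff.mp h.ts (z : Y)
  · exact mem_normalizer_iff.mpr fun z => mem_normalizer_iff.mp h.tr (z : Y)
  · rw [← map_le_map_iff_of_injective H.subtype_injective, map_commutator, MonoidHom.map_zpowers,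
      map_subgroupOf_eq_of_le hR]
    exact h.gen

theorem Hyp.map {ρ : Y →* Module.End k V} {r L : ℕ} {S R : Subgroup Y} {t : Y} (h : Hyp ρ r S R t L)
    {X : Type uY} [Group X] (f : Y →* X) (σ : X →* Module.End k V) (hσ : σ.comp f = ρ) :
    Hyp σ r (S.map f) (R.map f) (f t) L := by
  refine ⟨h.two.map f, h.odd.map f, (map_mono h.rs).trans (le_normalizer_map f),
    le_normalizer_map f ⟨t, h.ts, rfl⟩, le_normalizer_map f ⟨t, h.tr, rfl⟩, ?_, ?_⟩
  · rw [← map_pow, ← MonoidHom.map_zpowers, ← map_commutator]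
    exact map_mono h.gen
  · rw [← hσ] at h
    exact h.plane

variable (k) in
/-- The statement of the core lemma in dimension less than `n`. -/
def CoreBelow (r L n : ℕ) : Prop :=
  ∀ (Y : Type uY) [Group Y] [Finite Y] (V : Type uV) [AddCommGroup V] [Module k V] [FiniteDimensional k V],
    Module.finrank k V < n → ∀ (ρ : Y →* Module.End k V) (S R : Subgroup Y) (t : Y),
      Hyp ρ r S R t L → ∀ g ∈ ⁅S, ⁅R, R⁆⁆, ρ g = 1

variable [FiniteDimensional k V] [Finite Y] [IsAlgClosed k]

/-- Some abelian normal subgroup inside `S` is not scalar. -/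
theorem core_weights {ρ : Y →* Module.End k V} (hinj : Function.Injective ρ) {r L : ℕ} [Fact r.Prime]
    (hr2 : r ≠ 2) (hL : 2 ≤ L) (h2 : (2 : k) ≠ 0) (ih : CoreBelow.{uk, uY, uV} k r L (Module.finrank k V))
    {S R : Subgroup Y} {t : Y} (h : Hyp ρ r S R t L) (M : Subgroup Y) [M.Normal] [IsMulCommutative M]
    (hMS : M ≤ S) {m₀ : Y} (hm₀ : m₀ ∈ M) (hns : ∀ c : k, ρ m₀ ≠ c • 1) :
    ∀ g ∈ ⁅S, ⁅R, R⁆⁆, ρ g = 1 := by
  classical
  open scoped IsMulCommutative in
  set τ : M →* Module.End k V := ρ.comp M.subtype with hτ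
  obtain ⟨jM, hjM⟩ := IsPGroup.iff_card.mp (h.two.to_le hMS)
  have hU : (Nat.card M : k) ≠ 0 := by rw [hjM, Nat.cast_pow]; exact pow_ne_zero _ (by exact_mod_cast h2)
  let mv : Y → (M →* kˣ) → (M →* kˣ) := fun a χ => χ.comp (MulAut.conjNormal (H := M) a).symm.toMonoidHom
  have hmove : ∀ (a : Y) (χ : M →* kˣ), ρ a * proj τ χ = proj τ (mv a χ) * ρ a := fun a χ =>
    mul_proj_of_conj (σ := MulAut.conjNormal (H := M) a) (fun u => by
      show ρ a * ρ (u : Y) = ρ ((MulAut.conjNormal a u : M) : Y) * ρ a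
      rw [← map_mul, ← map_mul, MulAut.conjNormal_apply, inv_mul_cancel_right]) χ
  have hmv1 : ∀ χ : M →* kˣ, mv 1 χ = χ := fun χ => MonoidHom.ext fun u => congrArg χ
    ((MulEquiv.symm_apply_eq _).mpr (by rw [map_one]; rfl))
  have hmvmul : ∀ (a b : Y) (χ : M →* kˣ), mv (a * b) χ = mv a (mv b χ) := fun a b χ =>
    MonoidHom.ext fun u => by
      show χ ((MulAut.conjNormal (a * b)).symm u) = χ ((MulAut.conjNormal b).symm ((MulAut.conjNormal a).symm u))
      rw [map_mul]
      rfl
  set K : Subgroup Y := ⨅ χ : M →* kˣ, stab ρ (proj τ χ) with hKdef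
  have hmemK : ∀ {g : Y}, g ∈ K ↔ ∀ χ : M →* kˣ, Commute (ρ g) (proj τ χ) := fun {g} => mem_iInf
  haveI hKn : K.Normal := ⟨fun g hg a => hmemK.mpr fun χ => by
    have h1 : mv a (mv a⁻¹ χ) = χ := by rw [← hmvmul, mul_inv_cancel, hmv1]
    show ρ (a * g * a⁻¹) * proj τ χ = proj τ χ * ρ (a * g * a⁻¹)
    rw [map_mul, map_mul, mul_assoc (ρ a * ρ g), hmove a⁻¹ χ, ← mul_assoc (ρ a * ρ g), mul_assoc (ρ a) (ρ g),
      (hmemK.mp hg (mv a⁻¹ χ)).eq, ← mul_assoc (ρ a), hmove a, h1]
    simp only [mul_assoc]⟩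
  have htord : t ^ 2 ^ L = 1 := hinj (by rw [map_pow, h.plane.pow_eq, map_one])
  have hv : ∀ {χ : M →* kˣ}, proj τ χ ≠ 0 → ∃ v, proj τ χ v = v ∧ v ≠ 0 := fun {χ} hne => by
    obtain ⟨w, hw⟩ : ∃ w, proj τ χ w ≠ 0 := by
      by_contra hc
      push Not at hc
      exact hne (LinearMap.ext hc)
    exact ⟨_, congrArg (fun f : Module.End k V => f w) (proj_mul_self hU τ χ), hw⟩
  -- the square of `t` fixes every weight
  have ht2 : t ^ 2 ∈ K := hmemK.mpr fun χ => by
    by_cases hχ : proj τ χ = 0
    · rw [hχ]; exact Commute.zero_right _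
    by_cases hfix : mv (t ^ 2) χ = χ
    · have := hmove (t ^ 2) χ
      rw [hfix] at this
      exact this
    exfalso
    let Fix : Subgroup Y :=
      { carrier := {a | mv a χ = χ}
        one_mem' := hmv1 χ
        mul_mem' := fun {a b} (ha : mv a χ = χ) (hb : mv b χ = χ) => by
          show mv (a * b) χ = χ
          rw [hmvmul, hb, ha]
        inv_mem' := fun {a} (ha : mv a χ = χ) => by
          show mv a⁻¹ χ = χ
          conv_lhs => rw [← ha]
          rw [← hmvmul, inv_mul_cancel, hmv1] }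
    have h2n : t ^ 2 ∉ Fix := hfix
    have h1n : t ∉ Fix := fun h1 => h2n (pow_mem h1 2)
    have h3n : t ^ 3 ∉ Fix := fun h3 => by
      refine h1n ?_
      have hcop : Nat.Coprime 3 (2 ^ L) := (Nat.Coprime.pow_right L (by norm_num))
      obtain ⟨b, hb⟩ := exists_pow_eq_self_of_coprime
        (hcop.coprime_dvd_right (orderOf_dvd_of_pow_eq_one htord))
      rw [← hb]
      exact pow_mem h3 b
    let c : ℕ → (M →* kˣ) := fun i => mv (t ^ i) χ
    have hne : ∀ i j : ℕ, i < j → j ≤ 3 → c i ≠ c j := by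
      intro i j hij hj e
      have hd : t ^ (j - i) ∈ Fix := by
        show mv (t ^ (j - i)) χ = χ
        have e' : mv (t ^ i)⁻¹ (c i) = mv (t ^ i)⁻¹ (c j) := congrArg _ e
        rw [← hmvmul, ← hmvmul, inv_mul_cancel, hmv1] at e'
        conv_rhs => rw [e']
        congr 1
        rw [eq_inv_mul_iff_mul_eq, ← pow_add, Nat.add_sub_cancel' hij.le]
      rcases (show j - i = 1 ∨ j - i = 2 ∨ j - i = 3 by omega) with e1 | e1 | e1 <;> rw [e1] at hd
      · exact h1n (by simpa using hd)
      · exact h2n hd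
      · exact h3n hd
    obtain ⟨v, hv1, hv0⟩ := hv hχ
    let u : ℕ → V := fun i => ρ (t ^ i) v
    have hu : ∀ i, proj τ (c i) (u i) = u i := fun i => by
      have := congrArg (fun f : Module.End k V => f v) (hmove (t ^ i) χ)
      simp only [Module.End.mul_apply, hv1] at this
      exact this.symm
    have hu0 : ∀ i, u i ≠ 0 := fun i e => hv0 (by
      have := congrArg (fun z => ρ (t ^ i)⁻¹ z) e
      simp only [u, map_zero] at this
      rw [← Module.End.mul_apply, ← map_mul, inv_mul_cancel, map_one] at this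
      exact this)
    have hproj : ∀ i j, c i ≠ c j → proj τ (c i) (u j) = 0 := fun i j e => by
      rw [← hu j, ← Module.End.mul_apply, proj_mul_proj τ e, LinearMap.zero_apply]
    have hsucc : ∀ i, ρ t (u i) = u (i + 1) := fun i => by
      show ρ t (ρ (t ^ i) v) = ρ (t ^ (i + 1)) v
      rw [← Module.End.mul_apply, ← map_mul, ← pow_succ']
    let b : Fin 3 → LinearMap.range (ρ t - 1) := fun i =>
      ⟨u ((i : ℕ) + 1) - u i, u i, by rw [LinearMap.sub_apply, Module.End.one_apply, hsucc]⟩
    have hb : LinearIndependent k b := by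
      rw [Fintype.linearIndependent_iff]
      intro g hg
      have hg' : g 0 • (u 1 - u 0) + g 1 • (u 2 - u 1) + g 2 • (u 3 - u 2) = 0 := by
        have := congrArg Subtype.val hg
        simpa [Fin.sum_univ_three, b] using this
      have n01 := hproj 0 1 (hne 0 1 (by norm_num) (by norm_num))
      have n02 := hproj 0 2 (hne 0 2 (by norm_num) (by norm_num))
      have n03 := hproj 0 3 (hne 0 3 (by norm_num) (by norm_num))
      have n10 := hproj 1 0 (hne 0 1 (by norm_num) (by norm_num)).symm
      have n12 := hproj 1 2 (hne 1 2 (by norm_num) (by norm_num))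
      have n13 := hproj 1 3 (hne 1 3 (by norm_num) (by norm_num))
      have n30 := hproj 3 0 (hne 0 3 (by norm_num) (by norm_num)).symm
      have n31 := hproj 3 1 (hne 1 3 (by norm_num) (by norm_num)).symm
      have n32 := hproj 3 2 (hne 2 3 (by norm_num) (by norm_num)).symm
      have e0 := congrArg (proj τ (c 0)) hg'
      simp only [map_add, map_smul, map_sub, n01, n02, n03, hu 0, map_zero, sub_zero, zero_sub, smul_zero,
        add_zero, smul_neg, neg_eq_zero, smul_eq_zero, hu0 0, or_false] at e0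
      have e1 := congrArg (proj τ (c 1)) hg'
      simp only [map_add, map_smul, map_sub, n10, n12, n13, hu 1, map_zero, sub_zero, zero_sub, smul_zero,
        add_zero, smul_neg, e0, zero_smul, zero_add, neg_eq_zero, smul_eq_zero, hu0 1, or_false] at e1
      have e3 := congrArg (proj τ (c 3)) hg'
      simp only [map_add, map_smul, map_sub, n30, n31, n32, hu 3, map_zero, sub_zero, zero_sub, smul_zero,
        add_zero, zero_add, smul_eq_zero, hu0 3, or_false] at e3
      intro i
      fin_cases i <;> assumption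
    have h3 := hb.fintype_card_le_finrank
    have h4 := h.plane.range_sub_one_le (by omega) h2
    simp only [Fintype.card_fin] at h3
    omega
  have hyK : t ^ 2 ^ (L - 1) ∈ K := by
    obtain ⟨l, hl⟩ : ∃ l, L - 1 = l + 1 := ⟨L - 2, by omega⟩
    rw [hl, pow_succ', pow_mul]
    exact pow_mem ht2 _
  have hRK : R ≤ K := h.gen.trans ((commutator_mono le_rfl (zpowers_le.mpr hyK)).trans (commutator_le_right R K))
  have hR'R : ⁅R, R⁆ ≤ R := commutator_le_self R
  set S1 := S ⊓ K with hS1
  have hS1le : ⁅S, ⁅R, R⁆⁆ ≤ ⁅S1, ⁅R, R⁆⁆ := by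
    obtain ⟨jS, hjS⟩ := IsPGroup.iff_card.mp h.two
    obtain ⟨jR, hjR⟩ := IsPGroup.iff_card.mp (h.odd.to_le hR'R)
    haveI : Group.IsNilpotent S := h.two.isNilpotent
    have hcop : (Nat.card (⁅R, R⁆ : Subgroup Y)).Coprime (Nat.card S) := by
      rw [hjS, hjR]
      exact Nat.Coprime.pow _ _ ((Nat.coprime_primes (Fact.out : r.Prime) Nat.prime_two).mpr hr2)
    nth_rw 1 [← Coprime.commutator_commutator_eq (hR'R.trans h.rs) hcop (Or.inr inferInstance)]
    refine commutator_mono (le_inf (commutator_le_left_of_normalizer (hR'R.trans h.rs)) ?_) le_rfl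
    exact (commutator_mono le_rfl (hR'R.trans hRK)).trans (commutator_le_right S K)
  intro g hg
  have hg1 := hS1le hg
  -- the blocks
  have hblock : ∀ χ : M →* kˣ, ρ g * proj τ χ = proj τ χ := by
    intro χ
    by_cases hχ : proj τ χ = 0
    · rw [hχ, mul_zero]
    set e := proj τ χ with he
    have hee : e * e = e := proj_mul_self hU τ χ
    have hKe : K ≤ stab ρ e := iInf_le (fun χ : M →* kˣ => stab ρ (proj τ χ)) χ
    by_cases hte : t ∈ stab ρ e
    · have hlt : Module.finrank k (LinearMap.range e) < Module.finrank k V := by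
        refine Submodule.finrank_lt fun htop => hns (χ ⟨m₀, hm₀⟩ : kˣ) (LinearMap.ext fun v => ?_)
        have hvr : v ∈ LinearMap.range e := htop ▸ Submodule.mem_top
        exact (mem_range_iff hU).mp hvr ⟨m₀, hm₀⟩
      have hh : Hyp ρ r S1 R t L := ⟨h.two.to_le inf_le_left, h.odd,
        fun a ha => mem_normalizer_iff.mpr fun z => and_congr (mem_normalizer_iff.mp (h.rs ha) z)
          (mem_normalizer_iff.mp (le_normalizer_of_normal ha) z),
        mem_normalizer_iff.mpr fun z => and_congr (mem_normalizer_iff.mp h.ts z)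
          (mem_normalizer_iff.mp (le_normalizer_of_normal (mem_top t)) z), h.tr, h.gen, h.plane⟩
      have hS1e : S1 ≤ stab ρ e := inf_le_right.trans hKe
      have hRe : R ≤ stab ρ e := hRK.trans hKe
      have hh' := hh.pullback hRe hte (FpfPrime.sub ρ e) (h.plane.sub hte)
      have hge : g ∈ stab ρ e := (commutator_mono hS1e (hR'R.trans hRe)).trans (commutator_le_self _) hg1
      have hmem : (⟨g, hge⟩ : stab ρ e) ∈ ⁅S1.subgroupOf (stab ρ e),
          ⁅R.subgroupOf (stab ρ e), R.subgroupOf (stab ρ e)⁆⁆ := by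
        rw [← mem_map_iff_mem (Subgroup.subtype_injective (stab ρ e)), map_commutator, map_commutator,
          map_subgroupOf_eq_of_le hS1e, map_subgroupOf_eq_of_le hRe]
        exact hg1
      exact (sub_eq_one_iff _).mp (ih _ _ hlt _ _ _ _ hh' _ hmem)
    · -- a moved weight has dimension one
      set χ' := mv t χ with hχ'
      have hne : χ ≠ χ' := fun e' => hte (by
        show ρ t * proj τ χ = proj τ χ * ρ t
        rw [hmove, ← hχ', ← e'])
      have hzero : ∀ w, e w = w → e (ρ t w) = 0 := fun w hw => by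
        have := congrArg (fun f : Module.End k V => e (f w)) (hmove t χ)
        simp only [Module.End.mul_apply] at this
        rw [hw, ← hχ', ← Module.End.mul_apply e (proj τ χ'), proj_mul_proj τ hne, LinearMap.zero_apply] at this
        exact this
      set d := ρ (t ^ 2 ^ (L - 1)) - 1 with hd
      have hde : ∀ w, e w = w → e (d w) = d w := fun w hw => by
        have := congrArg (fun f : Module.End k V => f w) (hKe hyK).eq
        simp only [Module.End.mul_apply, hw] at this
        rw [hd, LinearMap.sub_apply, Module.End.one_apply, map_sub, hw, ← this]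
      have hdinj : ∀ w, e w = w → d w = 0 → w = 0 := fun w hw hdw => by
        rw [hd, LinearMap.sub_apply, Module.End.one_apply, sub_eq_zero, map_pow] at hdw
        have h1 := hzero w hw
        rw [h.plane.fix w hdw, hw] at h1
        exact h1
      have hcd : ∀ w, ρ t (d w) = d (ρ t w) := fun w => by
        rw [hd, LinearMap.sub_apply, LinearMap.sub_apply, Module.End.one_apply, Module.End.one_apply, map_sub,
          ← Module.End.mul_apply, ← map_mul, ← pow_succ', pow_succ, map_mul, Module.End.mul_apply]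
      let J : LinearMap.range e × LinearMap.range e →ₗ[k] LinearMap.range d :=
        LinearMap.codRestrict _ ((d.comp (LinearMap.range e).subtype).coprod
          (d.comp ((ρ t).comp (LinearMap.range e).subtype))) fun p => ⟨(p.1 : V) + ρ t p.2, by simp⟩
      have hfixe : ∀ w : LinearMap.range e, e (w : V) = w := by
        rintro ⟨_, z, rfl⟩
        exact congrArg (fun f : Module.End k V => f z) hee
      have hJ : Function.Injective J := by
        rw [← LinearMap.ker_eq_bot, Submodule.eq_bot_iff]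
        rintro ⟨a, b⟩ hab
        have hab' : d (a : V) + d (ρ t (b : V)) = 0 := congrArg Subtype.val (LinearMap.mem_ker.mp hab)
        have h1 := congrArg e hab'
        rw [map_add, hde _ (hfixe a), ← hcd, hzero _ (hde _ (hfixe b)), map_zero, add_zero] at h1
        have ha : (a : V) = 0 := hdinj _ (hfixe a) h1
        rw [ha, map_zero, zero_add, ← hcd] at hab'
        have hb : d (b : V) = 0 := by
          have := congrArg (fun z => ρ t⁻¹ z) hab'
          simp only [map_zero] at this
          rwa [← Module.End.mul_apply, ← map_mul, inv_mul_cancel, map_one, Module.End.one_apply] at this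
        exact Prod.ext (Subtype.ext ha) (Subtype.ext (hdinj _ (hfixe b) hb))
      have hone : Module.finrank k (LinearMap.range e) ≤ 1 := by
        have h1 := LinearMap.finrank_le_finrank_of_injective hJ
        have h2' := h.plane.rank
        rw [Module.finrank_prod] at h1
        rw [hd, map_pow] at h1
        omega
      obtain ⟨v₀, hv₀⟩ := finrank_le_one_iff.mp hone
      let F : Subgroup Y :=
        { carrier := {a | ρ a * e = e}
          one_mem' := by show ρ 1 * e = e; rw [map_one, one_mul]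
          mul_mem' := fun {a b} (ha : ρ a * e = e) (hb : ρ b * e = e) => by
            show ρ (a * b) * e = e
            rw [map_mul, mul_assoc, hb, ha]
          inv_mem' := fun {a} (ha : ρ a * e = e) => by
            show ρ a⁻¹ * e = e
            conv_lhs => rw [← ha, ← mul_assoc, ← map_mul, inv_mul_cancel, map_one, one_mul] }
      have hR' : ⁅R, R⁆ ≤ F := by
        refine commutator_le.mpr fun a ha b hb => ?_
        let sa := FpfPrime.sub ρ e ⟨a, hKe (hRK ha)⟩
        let sb := FpfPrime.sub ρ e ⟨b, hKe (hRK hb)⟩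
        have hab : sa * sb = sb * sa := by
          obtain ⟨x, hx⟩ := hv₀ (sa v₀)
          obtain ⟨z, hz⟩ := hv₀ (sb v₀)
          refine LinearMap.ext fun w => ?_
          obtain ⟨c, rfl⟩ := hv₀ w
          simp only [Module.End.mul_apply, map_smul, ← hx, ← hz, smul_smul, mul_comm x z]
        have h1 : FpfPrime.sub ρ e (⁅(⟨a, hKe (hRK ha)⟩ : stab ρ e), ⟨b, hKe (hRK hb)⟩⁆) = 1 := by
          rw [commutatorElement_def, mul_assoc, ← mul_inv_rev, map_mul, map_mul]
          show sa * sb * _ = 1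
          rw [hab]
          show FpfPrime.sub ρ e ⟨b, _⟩ * FpfPrime.sub ρ e ⟨a, _⟩ * _ = 1
          rw [← map_mul, ← map_mul, mul_inv_cancel, map_one]
        exact (sub_eq_one_iff _).mp h1
      have hgF : g ∈ F := by
        refine (commutator_le.mpr fun s hs z hz => ?_) hg1
        have hz' : ρ z * e = e := hR' hz
        have hz'' : ρ z⁻¹ * e = e := F.inv_mem hz'
        have hse : Commute (ρ s) e := hKe hs.2
        have hse' : ρ s⁻¹ * e = e * ρ s⁻¹ := (stab ρ e).inv_mem (hKe hs.2)
        show ρ (s * z * s⁻¹ * z⁻¹) * e = e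
        rw [map_mul, map_mul, map_mul, mul_assoc, hz'', mul_assoc, hse', ← mul_assoc, mul_assoc (ρ s), hz',
          hse.eq, mul_assoc, ← map_mul, mul_inv_cancel, map_one, mul_one]
      exact hgF
  have := finite_chars (U := M) hU
  let _ := Fintype.ofFinite (M →* kˣ)
  rw [← mul_one (ρ g), ← sum_proj hU τ, Finset.mul_sum]
  exact (Finset.sum_congr rfl fun χ _ => hblock χ).trans rfl

/-- Every abelian normal subgroup inside `S` is scalar. -/
theorem core_scalar [Nontrivial V] {ρ : Y →* Module.End k V} (hinj : Function.Injective ρ) {r L : ℕ}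
    [Fact r.Prime] (hr2 : r ≠ 2) (hL : 2 ≤ L) (h2 : (2 : k) ≠ 0) {S R : Subgroup Y} [S.Normal] {t : Y}
    (h : Hyp ρ r S R t L)
    (hscal : ∀ M : Subgroup Y, M.Normal → IsMulCommutative M → M ≤ S → ∀ a ∈ M, ∃ c : k, ρ a = c • 1) :
    ⁅S, ⁅R, R⁆⁆ = ⊥ := by
  classical
  haveI : Fact (Nat.Prime 2) := ⟨Nat.prime_two⟩
  obtain ⟨H, hHc, hHfr, hHcomm, hHC⟩ := PGroups.exists_critical h.two
  haveI := hHc
  have hHp := h.two.to_subgroup H
  set D := H.map S.subtype with hD
  have hDS : D ≤ S := map_subtype_le H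
  have hDn : ∀ a : Y, a ∈ normalizer (D : Set Y) := fun a =>
    H71.le_normalizer_map_of_characteristic (B := ⊤) H le_normalizer_of_normal (mem_top a)
  haveI : D.Normal := normalizer_eq_top_iff.mp (eq_top_iff.mpr fun a _ => hDn a)
  haveI hZn : (H71.zc D).Normal :=
    normalizer_eq_top_iff.mp (eq_top_iff.mpr fun a _ => H71.mem_normalizer_zc (hDn a))
  have hZab : IsMulCommutative (H71.zc D : Subgroup Y) :=
    PGroups.isMulCommutative_of_comm fun a ha b hb => mem_centralizer_iff.mp hb.2 a ha.1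
  have hZc : ∀ z ∈ H71.zc D, ∀ a : Y, Commute z a := fun z hz a => hinj (by
    obtain ⟨c, hc⟩ := hscal _ hZn hZab (inf_le_left.trans hDS) z hz
    rw [map_mul, map_mul, hc]
    exact (Commute.one_left _).smul_left c)
  have hzcH : ∀ w : S, w ∈ H ⊓ centralizer (H : Set S) → (w : Y) ∈ H71.zc D := by
    intro w hw
    refine ⟨mem_map_of_mem _ hw.1, mem_centralizer_iff.mpr ?_⟩
    rintro _ ⟨v, hv, rfl⟩
    exact congrArg Subtype.val (mem_centralizer_iff.mp hw.2 v hv)
  set N := (H71.zc D).subgroupOf D with hN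
  haveI : N.Normal := hZn.subgroupOf D
  let ρD := ρ.comp D.subtype
  have St : Setting ρD N := by
    refine ⟨fun x y => ?_, fun x hx => hscal _ hZn hZab (inf_le_left.trans hDS) _ hx, fun x hx => ?_⟩
    · refine hscal _ hZn hZab (inf_le_left.trans hDS) _ ?_
      obtain ⟨_, a, ha, rfl⟩ := x
      obtain ⟨_, b, hb, rfl⟩ := y
      exact hzcH ⁅a, b⁆ (hHcomm (commutator_mem_commutator ha (mem_top b)))
    · refine ⟨x.2, mem_centralizer_iff.mpr fun v hv => hinj ?_⟩
      rw [map_mul, map_mul]
      exact (hx ⟨v, hv⟩).eq.symm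
  let _ := St.quotComm
  have hsq : ∀ x : D, x * x ∈ N := by
    rintro ⟨_, a, ha, rfl⟩
    have h1 : (a * a : S) ∈ centralizer (H : Set S) := by
      refine hHfr ?_
      exact ⟨(⟨a, ha⟩ : H) ^ 2, PGroups.pow_mem_frattini hHp _, by simp [pow_two]⟩
    exact hzcH _ ⟨mul_mem ha ha, h1⟩
  have hmapN : ∀ a : Y, N.map (MulAut.conjNormal (H := D) a).toMonoidHom = N := fun a => by
    refine Subgroup.eq_of_le_of_card_ge ?_ (le_of_eq (card_map_of_injective (MulEquiv.injective _)).symm)
    rintro _ ⟨x, hx, rfl⟩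
    show ((MulAut.conjNormal a x : D) : Y) ∈ H71.zc D
    rw [MulAut.conjNormal_apply]
    exact hZn.conj_mem _ hx a
  let Φ : Y →* MulAut (D ⧸ N) :=
    { toFun := fun a => QuotientGroup.congr N N (MulAut.conjNormal (H := D) a) (hmapN a)
      map_one' := MulEquiv.ext fun q => by
        induction q using QuotientGroup.induction_on with
        | _ x =>
          show (((MulAut.conjNormal (1 : Y) x : D)) : D ⧸ N) = (x : D ⧸ N)
          rw [map_one]; rfl
      map_mul' := fun a b => MulEquiv.ext fun q => by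
        induction q using QuotientGroup.induction_on with
        | _ x =>
          show (((MulAut.conjNormal (a * b) x : D)) : D ⧸ N) =
            ((MulAut.conjNormal a (MulAut.conjNormal b x) : D) : D ⧸ N)
          rw [map_mul]; rfl }
  have hΦ : ∀ a : Y, Φ a = 1 ↔ ∀ x : D, (x : Y)⁻¹ * (a * x * a⁻¹) ∈ H71.zc D := by
    intro a
    constructor
    · intro ha x
      have h1 := MulEquiv.congr_fun ha (x : D ⧸ N)
      change ((MulAut.conjNormal a x : D) : D ⧸ N) = (x : D ⧸ N) at h1
      have h2' := QuotientGroup.eq.mp h1.symm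
      change ((x⁻¹ * MulAut.conjNormal a x : D) : Y) ∈ H71.zc D at h2'
      simpa using h2'
    · intro ha
      refine MulEquiv.ext fun q => ?_
      induction q using QuotientGroup.induction_on with
      | _ x =>
        show ((MulAut.conjNormal a x : D) : D ⧸ N) = (x : D ⧸ N)
        refine (QuotientGroup.eq.mpr ?_).symm
        show ((x⁻¹ * MulAut.conjNormal a x : D) : Y) ∈ H71.zc D
        simpa using ha x
  suffices hker : ∀ a ∈ ⁅R, R⁆, Φ a = 1 by
    rw [commutator_eq_bot_iff_le_centralizer, Subgroup.le_centralizer_iff]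
    intro a ha
    have haR : a ∈ R := commutator_le_self R ha
    have hodd : Nat.Coprime (orderOf a) 2 := by
      obtain ⟨j, hj⟩ := h.odd ⟨a, haR⟩
      exact Nat.Coprime.coprime_dvd_left (orderOf_dvd_of_pow_eq_one (congrArg Subtype.val hj))
        (((Nat.coprime_primes (Fact.out : r.Prime) Nat.prime_two).mpr hr2).pow_left j)
    have hfixD : ∀ x : D, a * (x : Y) * a⁻¹ = x := by
      intro x
      set z := (x : Y)⁻¹ * (a * x * a⁻¹) with hz
      have hzm : z ∈ H71.zc D := (hΦ a).mp (hker a ha) x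
      have hit : ∀ j : ℕ, a ^ j * (x : Y) * (a ^ j)⁻¹ = x * z ^ j := by
        intro j
        induction j with
        | zero => simp
        | succ j ih =>
          rw [pow_succ' a, mul_inv_rev, show a * a ^ j * (x : Y) * ((a ^ j)⁻¹ * a⁻¹) =
            a * (a ^ j * x * (a ^ j)⁻¹) * a⁻¹ by group, ih, ← mul_assoc a, mul_assoc (a * (x : Y)),
            ((hZc z hzm a⁻¹).pow_left j).eq, ← mul_assoc, show a * (x : Y) * a⁻¹ = x * z by rw [hz]; group,
            mul_assoc, ← pow_succ']
      have h1 := hit (orderOf a)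
      rw [pow_orderOf_eq_one, one_mul, inv_one, mul_one, left_eq_mul] at h1
      obtain ⟨i, hi⟩ := (h.two.to_le hDS) ⟨z, hzm.1⟩
      have h3 : orderOf z ∣ Nat.gcd (orderOf a) (2 ^ i) :=
        Nat.dvd_gcd (orderOf_dvd_of_pow_eq_one h1) (orderOf_dvd_of_pow_eq_one (congrArg Subtype.val hi))
      rw [(hodd.pow_right i).gcd_eq_one, Nat.dvd_one, orderOf_eq_one_iff] at h3
      rw [hz, inv_mul_eq_one] at h3
      exact h3.symm
    have haS : a ∈ normalizer (S : Set Y) := h.rs haR
    let b : MulAut S := Subgroup.normalizerMonoidHom S ⟨a, haS⟩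
    have hb : Nat.Coprime (orderOf b) 2 := Nat.Coprime.coprime_dvd_left
      ((orderOf_map_dvd _ _).trans (by rw [Subgroup.orderOf_mk])) hodd
    have h1 := PGroups.mulAut_eq_one_of_fixed h.two H hHC b hb fun v hv => Subtype.ext
      (hfixD ⟨(v : Y), mem_map_of_mem S.subtype hv⟩)
    refine mem_centralizer_iff.mpr fun w hw => ?_
    have h2' : a * w * a⁻¹ = w := congrArg Subtype.val (MulEquiv.congr_fun h1 ⟨w, hw⟩)
    exact (mul_inv_eq_iff_eq_mul.mp h2').symm
  by_cases hy : Φ (t ^ 2 ^ (L - 1)) = 1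
  · intro a ha
    have hle : R ≤ Φ.ker := h.gen.trans
      ((commutator_mono le_rfl (zpowers_le.mpr (MonoidHom.mem_ker.mpr hy))).trans (commutator_le_right R Φ.ker))
    exact MonoidHom.mem_ker.mp (hle (commutator_le_self R ha))
  suffices hsmall : Nat.card (D ⧸ N) ≤ 16 by
    intro a ha
    have hexp : ∀ q : D ⧸ N, q * q = 1 := fun q => by
      induction q using QuotientGroup.induction_on with
      | _ x => exact (QuotientGroup.eq_one_iff _).mpr (hsq x)
    have hcomm := H71.commute_of_mulAut_small hexp hsmall hr2 (R.map Φ) (h.odd.map Φ)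
    have hle : ⁅R, R⁆ ≤ Φ.ker := commutator_le.mpr fun u hu v hv => by
      rw [MonoidHom.mem_ker, map_commutatorElement, commutatorElement_eq_one_iff_commute]
      exact hcomm _ (mem_map_of_mem Φ hu) _ (mem_map_of_mem Φ hv)
    exact MonoidHom.mem_ker.mp (hle ha)
  have ht : Φ t ≠ 1 := fun e => hy (by rw [map_pow, e, one_pow])
  rw [Ne, hΦ] at ht
  push Not at ht
  obtain ⟨x₀, hx₀⟩ := ht
  set d : Y := (x₀ : Y)⁻¹ with hd
  set w := d * t * d⁻¹ * t⁻¹ with hwdef
  have hwx : w = (x₀ : Y)⁻¹ * (t * x₀ * t⁻¹) := by rw [hwdef, hd]; group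
  have hwD : w ∈ D := by
    rw [hwx]
    exact mul_mem (inv_mem x₀.2) ((inferInstance : D.Normal).conj_mem _ x₀.2 t)
  have hwN : w ∉ H71.zc D := hwx ▸ hx₀
  -- an anticommuting element
  obtain ⟨x, hxw⟩ : ∃ x : D, ¬ Commute (ρD ⟨w, hwD⟩) (ρD x) := by
    by_contra hc
    push Not at hc
    exact hwN (St.nondeg ⟨w, hwD⟩ hc)
  obtain ⟨cx, hcx⟩ := St.comm x ⟨w, hwD⟩
  set z := ⁅(x : Y), w⁆ with hzdef
  have hzρ : ρ z = cx • 1 := hcx
  have hzmem : z ∈ H71.zc D := St.commutator_mem x ⟨w, hwD⟩
  have hxwx : (x : Y) * w * (x : Y)⁻¹ = z * w := by rw [hzdef, commutatorElement_def]; group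
  have hz2 : z * z = 1 := by
    have hxx : Commute ((x : Y) * x) w := hZc _ (hsq x) w
    have h1 : (x : Y) * ((x : Y) * w * (x : Y)⁻¹) * (x : Y)⁻¹ = w := by
      calc _ = ((x : Y) * x * w) * ((x : Y) * x)⁻¹ := by group
        _ = w := by rw [hxx.eq, mul_inv_cancel_right]
    rw [hxwx, ← mul_assoc, ← (hZc z hzmem x).eq, mul_assoc z, mul_assoc z, hxwx, ← mul_assoc] at h1
    exact mul_eq_right.mp h1
  have hcx2 : cx = -1 := by
    have h1 : ρ (z * z) = 1 := by rw [hz2, map_one]
    rw [map_mul, hzρ, smul_mul_smul_comm, mul_one] at h1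
    have h2' : cx * cx = 1 := smul_left_injective k (one_ne_zero (α := Module.End k V))
      (h1.trans (one_smul k (1 : Module.End k V)).symm)
    rcases mul_self_eq_one_iff.mp h2' with e | e
    · refine absurd ?_ hxw
      have h3 := congrArg ρ hxwx
      rw [map_mul ρ z, hzρ, e, one_smul, one_mul] at h3
      show ρ w * ρ (x : Y) = ρ (x : Y) * ρ w
      conv_lhs => rw [← h3, ← map_mul, inv_mul_cancel_right, map_mul]
    · exact e
  have hanti : ρ w * ρ (x : Y) = -(ρ (x : Y) * ρ w) := by
    have h3 := congrArg ρ hxwx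
    rw [map_mul ρ z, hzρ, hcx2, neg_one_smul, neg_one_mul, map_mul, map_mul] at h3
    have h4 := congrArg (fun f => -(f * ρ (x : Y))) h3
    simp only [neg_mul, neg_neg] at h4
    rw [mul_assoc (ρ (x : Y) * ρ w), ← map_mul ρ (x : Y)⁻¹, inv_mul_cancel, map_one, mul_one] at h4
    exact h4.symm
  set Kw := LinearMap.ker (ρ w - 1) with hKw
  have hKw' : ∀ a : V, a ∈ Kw ↔ ρ w a = a := fun a => by
    rw [hKw, LinearMap.mem_ker, LinearMap.sub_apply, Module.End.one_apply, sub_eq_zero]
  have hker2 : 2 * Module.finrank k Kw ≤ Module.finrank k V := by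
    let J : Kw × Kw →ₗ[k] V := Kw.subtype.coprod ((ρ (x : Y)).comp Kw.subtype)
    have hJ : Function.Injective J := by
      rw [← LinearMap.ker_eq_bot, Submodule.eq_bot_iff]
      rintro ⟨a, b⟩ hab
      have hab' : (a : V) + ρ (x : Y) (b : V) = 0 := LinearMap.mem_ker.mp hab
      have h1 := congrArg (ρ w) hab'
      have h2' := congrArg (fun f : Module.End k V => f (b : V)) hanti
      simp only [Module.End.mul_apply, LinearMap.neg_apply, (hKw' _).mp b.2] at h2'
      rw [map_add, (hKw' _).mp a.2, h2', map_zero] at h1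
      have h3 : (2 : k) • (a : V) = 0 := by
        rw [two_smul]
        calc (a : V) + a = ((a : V) + ρ (x : Y) b) + ((a : V) + -ρ (x : Y) b) := by abel
          _ = 0 := by rw [hab', h1, add_zero]
      have ha : (a : V) = 0 := (smul_eq_zero.mp h3).resolve_left h2
      rw [ha, zero_add] at hab'
      have hb := congrArg (fun u => ρ (x : Y)⁻¹ u) hab'
      simp only [map_zero] at hb
      rw [← Module.End.mul_apply, ← map_mul, inv_mul_cancel, map_one, Module.End.one_apply] at hb
      exact Prod.ext (Subtype.ext ha) (Subtype.ext hb)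
    have := LinearMap.finrank_le_finrank_of_injective hJ
    rw [Module.finrank_prod] at this
    omega
  set T := ρ t with hT
  set Wt := LinearMap.range (T - 1) with hWt
  have hWt2 : Module.finrank k Wt ≤ 2 := h.plane.range_sub_one_le (by omega) h2
  have hrk : LinearMap.range (ρ w - 1) ≤ Wt.map (ρ d) ⊔ Wt := by
    rintro _ ⟨v, rfl⟩
    have e : ρ w - 1 = ρ d * (T - 1) * (ρ d⁻¹ * ρ t⁻¹) - (T - 1) * ρ t⁻¹ := by
      rw [hwdef, map_mul, map_mul, map_mul, hT, mul_sub, sub_mul, mul_one, sub_mul, one_mul, ← map_mul ρ t,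
        mul_inv_cancel, map_one, ← mul_assoc (ρ d) (ρ d⁻¹), ← map_mul ρ d d⁻¹, mul_inv_cancel, map_one, one_mul]
      simp only [mul_assoc]
      abel
    rw [e, LinearMap.sub_apply, Module.End.mul_apply, Module.End.mul_apply]
    exact Submodule.sub_mem _ (Submodule.mem_sup_left (Submodule.mem_map_of_mem (LinearMap.mem_range_self _ _)))
      (Submodule.mem_sup_right (LinearMap.mem_range_self _ _))
  have hsum : Module.finrank k (LinearMap.range (ρ w - 1)) + Module.finrank k Kw = Module.finrank k V :=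
    LinearMap.finrank_range_add_finrank_ker _
  have hmap : Module.finrank k (Wt.map (ρ d)) ≤ Module.finrank k Wt := Submodule.finrank_map_le _ _
  have hsup : Module.finrank k (LinearMap.range (ρ w - 1)) ≤
      Module.finrank k (Wt.map (ρ d)) + Module.finrank k Wt :=
    (Submodule.finrank_mono hrk).trans (Submodule.finrank_add_le_finrank_add_finrank _ _)
  obtain ⟨jD, hjD⟩ := IsPGroup.iff_card.mp (h.two.to_le hDS)
  obtain ⟨i, -, hi⟩ := (Nat.dvd_prime_pow Nat.prime_two).mp (hjD ▸ N.index_dvd_card)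
  have hidx : Nat.card (D ⧸ N) = 2 ^ i := hi
  by_contra hbig
  have hi5 : 5 ≤ i := by
    by_contra hlt
    have : 2 ^ i ≤ 2 ^ 4 := Nat.pow_le_pow_right (by norm_num) (by omega)
    omega
  have hNk : (N.index : k) ≠ 0 := by rw [hi, Nat.cast_pow]; exact pow_ne_zero _ (by exact_mod_cast h2)
  obtain ⟨-, hsqeq, -⟩ := St.weights_uniform hNk
  have hdvd : 32 ∣ Module.finrank k V * Module.finrank k V := by
    rw [hsqeq, hi]
    exact Dvd.dvd.mul_right ((show (32 : ℕ) = 2 ^ 5 by norm_num) ▸ pow_dvd_pow 2 hi5) _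
  have hm : Module.finrank k V = 8 := by
    have hle : Module.finrank k V ≤ 8 := by omega
    have hpos : 0 < Module.finrank k V := Module.finrank_pos
    interval_cases hv : Module.finrank k V <;> omega
  -- now the two planes fill a four-dimensional space on which `w` is `-1`
  have hrange : LinearMap.range (ρ w - 1) = Wt.map (ρ d) ⊔ Wt := Submodule.eq_of_le_of_finrank_le hrk
    (by
      have := Submodule.finrank_add_le_finrank_add_finrank (Wt.map (ρ d)) Wt
      omega)
  have hWteq : Module.finrank k Wt = 2 := by omega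
  have hKne : Kw ≠ ⊥ := fun e => by
    rw [e, finrank_bot] at hsum
    omega
  obtain ⟨v, hvK, hv0⟩ := (Submodule.ne_bot_iff _).mp hKne
  obtain ⟨cw, hcw⟩ := St.scal _ (hsq ⟨w, hwD⟩)
  change ρ (w * w) = cw • 1 at hcw
  have hw2 : ρ w * ρ w = 1 := by
    have h1 := congrArg (fun f : Module.End k V => f v) hcw
    simp only [map_mul, Module.End.mul_apply, (hKw' _).mp hvK, LinearMap.smul_apply, Module.End.one_apply] at h1
    have hc1 : cw = 1 := smul_left_injective k hv0 (h1.symm.trans (one_smul k v).symm)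
    rw [← map_mul, hcw, hc1, one_smul]
  have hneg : ∀ u ∈ Wt, ρ w u = -u := by
    intro u hu
    have hu' : u ∈ LinearMap.range (ρ w - 1) := hrange ▸ Submodule.mem_sup_right hu
    obtain ⟨a, rfl⟩ := hu'
    rw [LinearMap.sub_apply, Module.End.one_apply, map_sub, ← Module.End.mul_apply, hw2, Module.End.one_apply,
      neg_sub]
  have hTW : ∀ u ∈ Wt, T u ∈ Wt := by
    rintro _ ⟨a, rfl⟩
    exact ⟨T a, by simp⟩
  have hsub : Wt.map (T + 1) ≤ Wt.map (ρ d) := by
    rintro _ ⟨u, hu, rfl⟩
    refine ⟨-((T - 1) (ρ d⁻¹ u)), Submodule.neg_mem _ (LinearMap.mem_range_self _ _), ?_⟩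
    have h1 : ρ w (T u) = ρ d (T (ρ d⁻¹ u)) := by
      rw [hT, ← Module.End.mul_apply, ← map_mul, hwdef, inv_mul_cancel_right, map_mul, map_mul,
        Module.End.mul_apply, Module.End.mul_apply]
    rw [hneg _ (hTW u hu)] at h1
    rw [map_neg, LinearMap.sub_apply, Module.End.one_apply, map_sub, ← h1, ← Module.End.mul_apply, ← map_mul,
      mul_inv_cancel, map_one, Module.End.one_apply, LinearMap.add_apply, Module.End.one_apply]
    abel
  have hinjT : Function.Injective ⇑(T + 1 : Module.End k V) := by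
    rw [← LinearMap.ker_eq_bot, Submodule.eq_bot_iff]
    intro u hu
    rw [LinearMap.mem_ker, LinearMap.add_apply, Module.End.one_apply] at hu
    exact h.plane.eq_zero_of_neg hL h2 (eq_neg_of_add_eq_zero_left hu)
  have hT1W : Wt.map (T + 1) = Wt := Submodule.eq_of_le_of_finrank_le
    (by
      rintro _ ⟨u, hu, rfl⟩
      exact Submodule.add_mem _ (hTW u hu) hu)
    (Submodule.equivMapOfInjective _ hinjT Wt).finrank_eq.le
  have heq : Wt = Wt.map (ρ d) := Submodule.eq_of_le_of_finrank_le (hT1W.ge.trans hsub) hmap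
  have h4 : Module.finrank k (LinearMap.range (ρ w - 1)) = 2 := by rw [hrange, ← heq, sup_idem, hWteq]
  omega

/-- The core lemma. -/
theorem core {Y : Type uY} [Group Y] [Finite Y] {V : Type uV} [AddCommGroup V] [Module k V]
    [FiniteDimensional k V] (h2 : (2 : k) ≠ 0) {r L : ℕ} [Fact r.Prime] (hr2 : r ≠ 2) (hL : 2 ≤ L)
    {ρ : Y →* Module.End k V} {S R : Subgroup Y} {t : Y} (h : Hyp ρ r S R t L) :
    ∀ g ∈ ⁅S, ⁅R, R⁆⁆, ρ g = 1 := by
  suffices main : ∀ n, CoreBelow.{uk, uY, uV} k r L n from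
    main (Module.finrank k V + 1) Y V (by omega) ρ S R t h
  intro n
  induction n with
  | zero => intro Y _ _ V _ _ _ hn; omega
  | succ n ih =>
    intro Y _ _ V _ _ _ hn ρ S R t h g hg
    classical
    rcases subsingleton_or_nontrivial V with hV | hV
    · exact LinearMap.ext fun v => Subsingleton.elim _ _
    have ih' : CoreBelow.{uk, uY, uV} k r L (Module.finrank k V) := fun Y _ _ W _ _ _ hW =>
      ih Y W (by omega)
    set Y0 := S ⊔ R ⊔ zpowers t with hY0
    have hS0 : S ≤ Y0 := le_sup_left.trans le_sup_left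
    have hR0 : R ≤ Y0 := le_sup_right.trans le_sup_left
    have ht0 : t ∈ Y0 := mem_sup_right (mem_zpowers t)
    let ρ0 := ρ.comp Y0.subtype
    have h0 := h.pullback hR0 ht0 ρ0 h.plane
    let π := QuotientGroup.mk' ρ0.ker
    let ρ1 : Y0 ⧸ ρ0.ker →* Module.End k V := QuotientGroup.lift ρ0.ker ρ0 le_rfl
    have hinj : Function.Injective ρ1 := by
      refine (injective_iff_map_eq_one' ρ1).mpr fun v => ⟨fun hv => ?_, fun hv => by rw [hv, map_one]⟩
      obtain ⟨w, rfl⟩ := QuotientGroup.mk_surjective v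
      exact (QuotientGroup.eq_one_iff _).mpr hv
    have h1 := h0.map π ρ1 (MonoidHom.ext fun _ => rfl)
    set S1 := (S.subgroupOf Y0).map π
    set R1 := (R.subgroupOf Y0).map π
    have hg0 : g ∈ Y0 := ((commutator_mono hS0 ((commutator_le_self R).trans hR0)).trans (commutator_le_self _)) hg
    have hmem : π ⟨g, hg0⟩ ∈ ⁅S1, ⁅R1, R1⁆⁆ := by
      rw [← map_commutator, ← map_commutator]
      refine mem_map_of_mem π ?_
      rw [← mem_map_iff_mem (Subgroup.subtype_injective Y0), map_commutator, map_commutator,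
        map_subgroupOf_eq_of_le hS0, map_subgroupOf_eq_of_le hR0]
      exact hg
    have hsn : S1.Normal := by
      refine normalizer_eq_top_iff.mp (top_le_iff.mp ?_)
      have hsn0 : (S.subgroupOf Y0).Normal := normal_subgroupOf_of_le_normalizer
        (sup_le (sup_le le_normalizer h.rs) (zpowers_le.mpr h.ts))
      haveI := hsn0.map π (QuotientGroup.mk'_surjective _)
      exact le_normalizer_of_normal
    haveI := hsn
    show ρ1 (π ⟨g, hg0⟩) = 1
    by_cases hall : ∀ M : Subgroup (Y0 ⧸ ρ0.ker), M.Normal → IsMulCommutative M → M ≤ S1 →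
        ∀ a ∈ M, ∃ c : k, ρ1 a = c • 1
    · have hb := core_scalar hinj hr2 hL h2 h1 hall
      rw [hb, Subgroup.mem_bot] at hmem
      rw [hmem, map_one]
    · push Not at hall
      obtain ⟨M, hMn, hMc, hMS, m₀, hm₀, hns⟩ := hall
      haveI := hMn
      haveI := hMc
      exact core_weights hinj hr2 hL h2 ih' h1 M hMS hm₀ hns _ hmem

end Cfsg.Agent.H71.Plane
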