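import Cfsg.Agent.H71.ExceptionalCommute

/-!
A subgroup `⁅B, B⁆` of quadratic elements with `(b - 1) ^ 2 (a - 1) = 0` centralises every invariant
2-group of class two.
-/

set_option autoImplicit false
set_option linter.style.haveILetI false
set_option linter.unusedSectionVars false
set_option maxHeartbeats 1000000

namespace Cfsg.Agent.H71

open Subgroup
open Coprime Coprime.Weights Coprime.EndBound Coprime.FpfPrime Coprime.ShultGross
open scoped commutatorElement IsMulCommutative

variable {Y : Type*} [Group Y] [Finite Y] {D : Subgroup Y}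
variable {k V : Type*} [Field k] [AddCommGroup V] [Module k V] [IsAlgClosed k] [FiniteDimensional k V]
variable {ρ : Y →* Module.End k V} {p : ℕ}

/-- An element moving the weight has no component on the weight space. -/
theorem proj_mul_proj_eq_zero {ψ : zc D →* kˣ} {y : Y} (hy : y ∈ normalizer (D : Set Y))
    (hns : y ∉ stabChar D ψ) :
    proj (ρ.comp (zc D).subtype) ψ * ρ y * proj (ρ.comp (zc D).subtype) ψ = 0 := by
  let σ : MulAut (zc D) := Subgroup.normalizerMonoidHom (zc D) ⟨y, mem_normalizer_zc hy⟩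
  rw [mul_assoc, Weights.mul_proj_of_conj (τ := ρ.comp (zc D).subtype) (σ := σ) (g := ρ y) (fun u => by
    show ρ y * ρ u = ρ (y * u * y⁻¹) * ρ y
    rw [← map_mul, ← map_mul, inv_mul_cancel_right]) ψ, ← mul_assoc, proj_mul_proj, zero_mul]
  intro heq
  refine hns ⟨hy, fun z z' h => ?_⟩
  have hz' : z' = σ z := Subtype.ext h
  rw [hz']
  conv_lhs => rw [heq]
  show ψ (σ.symm (σ z)) = ψ z
  rw [MulEquiv.symm_apply_apply]

/-- An element trivial on a weight space fixes `D / N_ψ`. -/
theorem act_eq_one_of_trivial (hD : ClassTwo D) {ψ : zc D →* kˣ}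
    (hψ : proj (ρ.comp (zc D).subtype) ψ ≠ 0) (g : stabChar D ψ)
    (hg : ρ g * proj (ρ.comp (zc D).subtype) ψ = proj (ρ.comp (zc D).subtype) ψ) : act hD ψ g = 1 := by
  set e := proj (ρ.comp (zc D).subtype) ψ with he
  have hc : ∀ v ∈ D, Commute (ρ v) e := fun v hv => commute_proj_of_mem_stabChar ψ (le_stabChar D ψ hv)
  have hgi : ρ (g : Y)⁻¹ * e = e := by
    calc ρ (g : Y)⁻¹ * e = ρ (g : Y)⁻¹ * (ρ g * e) := by rw [hg]
      _ = e := by rw [← mul_assoc, ← map_mul, inv_mul_cancel, map_one, one_mul]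
  have hconj : ∀ v ∈ D, ρ ((g : Y) * v * (g : Y)⁻¹) * e = ρ v * e := fun v hv => by
    rw [map_mul, map_mul, mul_assoc, hgi, mul_assoc, (hc v hv).eq, ← mul_assoc, hg]
  have hmul : ∀ a a' v : Y, v ∈ D → ρ a * e = ρ a' * e → ρ (a * v) * e = ρ (a' * v) * e := by
    intro a a' v hv h
    rw [map_mul, map_mul, mul_assoc, (hc v hv).eq, ← mul_assoc, h, mul_assoc, ← (hc v hv).eq, ← mul_assoc]
  refine LinearMap.ext fun w => ?_
  obtain ⟨u, rfl⟩ := cls_surjective hD ψ w
  rw [act_cls, Module.End.one_apply]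
  refine congrArg Additive.ofMul (Subtype.ext (MonoidHom.ext fun b => ?_))
  refine Units.ext (smul_left_injective k hψ ?_)
  show ((ψ ⟨⁅((conjD D ψ g u : D) : Y), (b : Y)⁆, _⟩ : kˣ) : k) • e = ((ψ ⟨⁅(u : Y), (b : Y)⁆, _⟩ : kˣ) : k) • e
  rw [he, ← act_mul_proj (ρ.comp (zc D).subtype) ψ, ← act_mul_proj (ρ.comp (zc D).subtype) ψ, ← he]
  show ρ ⁅(g : Y) * u * (g : Y)⁻¹, (b : Y)⁆ * e = ρ ⁅(u : Y), (b : Y)⁆ * e
  simp only [commutatorElement_def]
  refine hmul _ _ _ (inv_mem b.2) ?_
  have h1 : ρ ((g : Y) * u * (g : Y)⁻¹ * b) * e = ρ ((u : Y) * b) * e := hmul _ _ _ b.2 (hconj u u.2)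
  have h2 : ρ ((g : Y) * u * (g : Y)⁻¹)⁻¹ * e = ρ (u : Y)⁻¹ * e := by
    rw [show ((g : Y) * u * (g : Y)⁻¹)⁻¹ = g * (u : Y)⁻¹ * (g : Y)⁻¹ by group]
    exact hconj _ (inv_mem u.2)
  rw [map_mul _ _ ((g : Y) * u * (g : Y)⁻¹)⁻¹, mul_assoc, h2, (hc _ (inv_mem u.2)).eq, ← mul_assoc, h1,
    mul_assoc, ← (hc _ (inv_mem u.2)).eq, ← mul_assoc, ← map_mul]

variable [Fact p.Prime]

/-- Commutators of `B` acting quadratically, killed by `(b - 1) ^ 2`, centralise `D`. -/
theorem commutator_le_centralizer_of_quadratic (hp2 : p ≠ 2) (h2 : (2 : k) ≠ 0) (hpk : (p : k) = 0)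
    (hinj : Function.Injective ρ) (hD : ClassTwo D) (hD2 : IsPGroup 2 D) (B : Subgroup Y) (hB : IsPGroup p B)
    (hBD : B ≤ normalizer (D : Set Y)) (hquad : ∀ a ∈ ⁅B, B⁆, (ρ a - 1) * (ρ a - 1) = 0)
    (hcube : ∀ a ∈ ⁅B, B⁆, ∀ b ∈ B, (ρ b - 1) * (ρ b - 1) * (ρ a - 1) = 0) :
    ⁅B, B⁆ ≤ centralizer (D : Set Y) := by
  classical
  have hp : p.Prime := Fact.out
  have hp3 : 3 ≤ p := by
    have := hp.two_le
    omega
  haveI : CharP k p := (CharP.charP_iff_prime_eq_zero hp).mpr hpk
  set A := ⁅B, B⁆ with hA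
  have hAB : A ≤ B := commutator_le_self B
  -- quadratic elements
  have hsumA : ∀ a ∈ A, ∑ i ∈ Finset.range (p ^ (0 + 1)), ρ a ^ i = 0 := by
    intro a ha
    have hpoly : ((Polynomial.X : Polynomial k) - 1) ^ (p - 1) = ∑ i ∈ Finset.range p, Polynomial.X ^ i := by
      refine mul_right_cancel₀ (b := (Polynomial.X : Polynomial k) - 1) (Polynomial.X_sub_C_ne_zero 1) ?_
      rw [geom_sum_mul, ← pow_succ, Nat.sub_add_cancel hp.one_le, sub_pow_char, one_pow]
    have h3 := congrArg (Polynomial.aeval (ρ a)) hpoly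
    simp only [map_pow, map_sub, Polynomial.aeval_X, map_one, map_sum] at h3
    rw [zero_add, pow_one, ← h3, show p - 1 = (p - 3) + 2 by omega, pow_add, pow_two, hquad a ha, mul_zero]
  have hapA : ∀ a ∈ A, a ^ p ^ (0 + 1) = 1 := by
    intro a ha
    refine hinj ?_
    have h1 : (∑ i ∈ Finset.range (p ^ (0 + 1)), ρ a ^ i) * (ρ a - 1) = ρ a ^ p ^ (0 + 1) - 1 := geom_sum_mul _ _
    rw [hsumA a ha, zero_mul, eq_comm, sub_eq_zero] at h1
    rw [map_pow, h1, map_one]
  intro a ha
  refine mem_centralizer_of_pair_fixed hp2 h2 hinj hD hD2 (hBD (hAB ha)) (hapA a ha)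
    (by simpa using pow_mem_centralizer_zc hp2 h2 hinj hD2 (hBD (hAB ha)) (hapA a ha) (hsumA a ha))
    fun ψ hψ u u' hu' => ?_
  set e := proj (ρ.comp (zc D).subtype) ψ with he
  have hstA : ∀ x ∈ A, x ∈ stabChar D ψ := by
    intro x hx
    obtain ⟨c, hc, hst, -, -⟩ := exists_stab h2 hD2 (hBD (hAB hx)) (hapA x hx) (hsumA x hx) ψ hψ
    rw [Nat.le_zero.mp hc, pow_zero, pow_one] at hst
    exact hst
  suffices hact : act hD ψ ⟨a, hstA a ha⟩ = 1 by
    refine Eq.trans (congrArg (pair hD ψ) (Subtype.ext ?_)) (pair_eq_of_act_eq_one hD ψ hact u)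
    rw [hu', conjD_coe]
  by_contra hact
  -- `B` fixes the weight
  have hBst : ∀ b ∈ B, b ∈ stabChar D ψ := by
    intro b hb
    by_contra hns
    have hb2 : b ^ 2 ∉ stabChar D ψ := by
      intro h
      obtain ⟨j, hj⟩ := hB ⟨b, hb⟩
      obtain ⟨i, hi⟩ := (hp.odd_of_ne_two hp2).pow (n := j)
      have hbj : b ^ p ^ j = 1 := congrArg Subtype.val hj
      apply hns
      rw [show b = ((b ^ 2) ^ i)⁻¹ by
        rw [eq_inv_iff_mul_eq_one, ← pow_mul, ← pow_succ', ← hi, hbj]]
      exact inv_mem (pow_mem h i)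
    have e1 : e * ρ b * e = 0 := proj_mul_proj_eq_zero (hBD hb) hns
    have e2 : e * ρ (b ^ 2) * e = 0 := proj_mul_proj_eq_zero (pow_mem (hBD hb) 2) hb2
    have hae : Commute (ρ a - 1) e :=
      (show Commute (ρ a) e from commute_proj_of_mem_stabChar ψ (hstA a ha)).sub_left (Commute.one_left e)
    have hee : e * e = e := proj_mul_self (two_card_zc_ne_zero hD2 h2) _ _
    have h0 : e * ((ρ b - 1) * (ρ b - 1)) * e * (ρ a - 1) = 0 := by
      rw [mul_assoc, ← hae.eq, ← mul_assoc, mul_assoc e ((ρ b - 1) * (ρ b - 1)), hcube a ha b hb, mul_zero, zero_mul]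
    have hmid : e * ((ρ b - 1) * (ρ b - 1)) * e = e := by
      rw [show (ρ b - 1) * (ρ b - 1) = ρ (b ^ 2) - (ρ b + ρ b) + 1 by rw [map_pow, pow_two]; noncomm_ring,
        mul_add, mul_sub, mul_add, add_mul, sub_mul, add_mul, e1, e2, mul_one, hee]
      abel
    rw [hmid, ← hae.eq, sub_mul, one_mul, sub_eq_zero] at h0
    exact hact (act_eq_one_of_trivial hD hψ ⟨a, hstA a ha⟩ h0)
  -- the action of `B`
  haveI : Finite (Sp hD ψ) := Finite.of_surjective (cls hD ψ) (cls_surjective hD ψ)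
  haveI : FiniteDimensional (ZMod 2) (Sp hD ψ) := Module.Finite.of_finite
  let σ : B →* Module.End (ZMod 2) (Sp hD ψ) := (act hD ψ).comp (Subgroup.inclusion hBst)
  have hrank : ∀ x : B, (x : Y) ∈ A →
      movedDim σ x = 0 ∨ ∃ m, 0 < m ∧ p = 2 ^ m + 1 ∧ movedDim σ x = 2 * m := by
    intro x hx
    have hmr := moved_rank (l := 1) hp2 h2 hD hD2 ψ hψ (Subgroup.inclusion hBst x) one_pos
      (Subtype.ext (by simpa using hapA x hx))
      (by
        have h := hsumA x hx
        rw [zero_add] at h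
        show (∑ i ∈ Finset.range (p ^ 1), ρ (x : Y) ^ i) * _ = 0
        rw [h, zero_mul])
    rw [Nat.sub_self, pow_zero, pow_one] at hmr
    rcases hmr with h | ⟨j, m, hj0, hj1, hm, hjm, hd⟩
    · exact Or.inl h
    · exact Or.inr ⟨m, hm, by rw [← hjm, show j = 1 by omega, pow_one], hd⟩
  set a0 : B := ⟨a, hAB ha⟩ with ha0
  have ha0ne : movedDim σ a0 ≠ 0 := fun h0 => hact
    (sub_eq_zero.mp (LinearMap.range_eq_bot.mp (Submodule.finrank_eq_zero.mp h0)))
  obtain ⟨m, hm, hpm, hdim0⟩ := (hrank a0 ha).resolve_left ha0ne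
  have hle : ∀ x : B, (x : Y) ∈ A → movedDim σ x ≤ 2 * m := by
    intro x hx
    rcases hrank x hx with h | ⟨m', -, hpm', hd⟩
    · rw [h]; exact Nat.zero_le _
    · rw [hd, show m' = m from Nat.pow_right_injective le_rfl (show 2 ^ m' = 2 ^ m by omega)]
  set L := LinearMap.range (σ a0 - 1) with hL
  -- fixed-point-freeness on `L`
  have hordB : ∀ x : B, (x : Y) ∈ A → x ^ p = 1 := fun x hx => Subtype.ext (by simpa using hapA x hx)
  have hfpf : ∀ v ∈ L, σ a0 v = v → v = 0 := by
    rintro _ ⟨w, rfl⟩ hv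
    have h4 : (((σ a0 - 1) ^ 2 : Module.End (ZMod 2) (Sp hD ψ))) w = 0 := by
      rw [pow_two, Module.End.mul_apply, LinearMap.sub_apply, Module.End.one_apply, hv, sub_self]
    rw [end_sub_one_sq, LinearMap.sub_apply, Module.End.one_apply, sub_eq_zero] at h4
    have h5 : ∀ i : ℕ, ((σ a0) ^ (2 * i)) w = w := fun i => by
      induction i with
      | zero => rfl
      | succ i ih => rw [mul_add, mul_one, pow_add, Module.End.mul_apply, h4, ih]
    obtain ⟨i, hi⟩ := hp.odd_of_ne_two hp2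
    have h6 : σ a0 w = w := by
      have h7 : ((σ a0) ^ p) w = w := by rw [← map_pow, hordB a0 ha, map_one]; rfl
      rw [hi, pow_succ', Module.End.mul_apply, h5] at h7
      exact h7
    rw [LinearMap.sub_apply, Module.End.one_apply, h6, sub_self]
  -- all moved spaces lie in `L`
  have hall : ∀ x : B, (x : Y) ∈ A → LinearMap.range (σ x - 1) ≤ L := by
    intro x hx
    have hcom := commute_of_smallMoved hm hpm _ B (Sp hD ψ) σ rfl hB a0 x (Or.inl hdim0.le) (Or.inl (hle x hx))
    set X := L ⊓ LinearMap.range (σ x - 1) with hX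
    have hLinv : ∀ v ∈ L, σ a0 v ∈ L := by
      rintro _ ⟨w, rfl⟩
      exact ⟨σ a0 w, by simp⟩
    have hcomap : ∀ w, σ a0 ((σ x - 1) w) = (σ x - 1) (σ a0 w) := fun w => by
      simp only [LinearMap.sub_apply, Module.End.one_apply, map_sub, ← Module.End.mul_apply, hcom.eq, one_mul]
    have hXinv : ∀ v ∈ X, σ a0 v ∈ X := by
      rintro v ⟨hvL, w, rfl⟩
      exact ⟨hLinv _ hvL, σ a0 w, (hcomap w).symm⟩
    by_cases hX0 : X = ⊥
    swap
    · haveI : Nontrivial X := Submodule.nontrivial_iff_ne_bot.mpr hX0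
      have hXd : 2 * m ≤ Module.finrank (ZMod 2) X := by
        refine two_mul_le_finrank hm hpm ((σ a0).restrict hXinv) ?_ ?_
        · refine LinearMap.ext fun v => Subtype.ext ?_
          have hpw : ∀ r : ℕ, ((((σ a0).restrict hXinv) ^ r) v : Sp hD ψ) = (σ a0 ^ r) v := by
            intro r
            induction r with
            | zero => rfl
            | succ r ihr => rw [pow_succ', pow_succ', Module.End.mul_apply, Module.End.mul_apply, ← ihr]; rfl
          rw [hpw, ← map_pow, hordB a0 ha, map_one]; rfl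
        · intro v hv
          exact Subtype.ext (hfpf v v.2.1 (congrArg Subtype.val hv))
      have hxeq : X = LinearMap.range (σ x - 1) :=
        Submodule.eq_of_le_of_finrank_le inf_le_right ((hle x hx).trans hXd)
      rw [← hxeq]; exact inf_le_left
    -- otherwise the product moves too much
    have hfixL : ∀ v ∈ L, σ x v = v := by
      intro v hv
      have hmem : (σ x - 1) v ∈ X := by
        refine ⟨?_, LinearMap.mem_range_self _ _⟩
        obtain ⟨w, rfl⟩ := hv
        refine ⟨(σ x - 1) w, ?_⟩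
        simp only [LinearMap.sub_apply, Module.End.one_apply, map_sub, ← Module.End.mul_apply, hcom.eq, one_mul]
        abel
      rw [hX0, Submodule.mem_bot, LinearMap.sub_apply, Module.End.one_apply, sub_eq_zero] at hmem
      exact hmem
    have hsurj : ∀ v ∈ L, ∃ w ∈ L, (σ a0 - 1) w = v := by
      intro v hv
      let f : L →ₗ[ZMod 2] L := (σ a0 - 1).restrict fun w hw => Submodule.sub_mem _ (hLinv w hw) hw
      have hf : Function.Injective f := by
        rw [← LinearMap.ker_eq_bot, Submodule.eq_bot_iff]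
        intro w hw
        exact Subtype.ext (hfpf w w.2 (sub_eq_zero.mp (congrArg Subtype.val (LinearMap.mem_ker.mp hw))))
      obtain ⟨w, hw⟩ := (LinearMap.injective_iff_surjective.mp hf) ⟨v, hv⟩
      exact ⟨w, w.2, congrArg Subtype.val hw⟩
    have hprodA : ((a0 * x : B) : Y) ∈ A := mul_mem ha hx
    have hLle : L ≤ LinearMap.range (σ (a0 * x) - 1) := by
      intro v hv
      obtain ⟨w, hw, rfl⟩ := hsurj v hv
      refine ⟨w, ?_⟩
      rw [map_mul, LinearMap.sub_apply, Module.End.mul_apply, hfixL w hw]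
      rfl
    have hxle : LinearMap.range (σ x - 1) ≤ LinearMap.range (σ (a0 * x) - 1) := by
      rintro _ ⟨w, rfl⟩
      have e1 : (σ x - 1) w = (σ (a0 * x) - 1) w - (σ a0 - 1) (σ x w) := by
        simp only [map_mul, LinearMap.sub_apply, Module.End.mul_apply, Module.End.one_apply]
        abel
      rw [e1]
      exact Submodule.sub_mem _ (LinearMap.mem_range_self _ _) (hLle (LinearMap.mem_range_self _ _))
    have hbig := Submodule.finrank_mono (sup_le hLle hxle)
    have hsup := Submodule.finrank_sup_add_finrank_inf_eq L (LinearMap.range (σ x - 1))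
    rw [show L ⊓ LinearMap.range (σ x - 1) = ⊥ from hX0, finrank_bot, add_zero] at hsup
    have h1 := hle _ hprodA
    have h2' : Module.finrank (ZMod 2) L = 2 * m := hdim0
    unfold movedDim at h1
    have hzero : Module.finrank (ZMod 2) (LinearMap.range (σ x - 1)) = 0 := by omega
    rw [Submodule.finrank_eq_zero.mp hzero]
    exact bot_le
  -- `B` acts on `L` as an abelian group
  have hLB : ∀ b : B, ∀ v ∈ L, σ b v ∈ L := by
    intro b v hv
    obtain ⟨w, rfl⟩ := hv
    refine hall (b * a0 * b⁻¹) ?_ ⟨σ b w, ?_⟩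
    · show (b : Y) * a * (b : Y)⁻¹ ∈ A
      have hn : B ≤ normalizer (A : Set Y) := by
        intro y hy
        rw [hA]
        exact PQTower.mem_normalizer_comm (le_normalizer hy) (le_normalizer hy)
      exact Coprime.conj_mem (hn b.2) ha
    · simp only [LinearMap.sub_apply, Module.End.one_apply, map_sub, map_mul, Module.End.mul_apply]
      rw [← Module.End.mul_apply (σ b⁻¹) (σ b), ← map_mul, inv_mul_cancel, map_one, Module.End.one_apply]
  let τ := restrictHom σ L hLB
  have hτab : ∀ b c : B, Commute (τ b) (τ c) := fun b c =>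
    commute_of_smallMoved hm hpm _ B L τ rfl hB b c
      (Or.inl ((Submodule.finrank_le _).trans hdim0.le)) (Or.inl ((Submodule.finrank_le _).trans hdim0.le))
  have hτA : τ a0 = 1 := by
    have hmem : a0 ∈ (⁅(⊤ : Subgroup B), ⊤⁆ : Subgroup B) := by
      rw [← Subgroup.mem_map_iff_mem B.subtype_injective, Subgroup.map_commutator, ← MonoidHom.range_eq_map,
        Subgroup.range_subtype]
      exact ha
    have hker : (⁅(⊤ : Subgroup B), ⊤⁆ : Subgroup B) ≤ τ.toHomUnits.ker := by
      refine commutator_le.mpr fun b _ c _ => MonoidHom.mem_ker.mpr ?_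
      rw [map_commutatorElement]
      exact commutatorElement_eq_one_iff_commute.mpr (Units.ext (hτab b c).eq)
    exact congrArg Units.val (MonoidHom.mem_ker.mp (hker hmem))
  apply ha0ne
  refine Submodule.finrank_eq_zero.mpr ((Submodule.eq_bot_iff _).mpr fun v hv => hfpf v hv ?_)
  exact congrArg Subtype.val (congrArg (fun F : Module.End (ZMod 2) L => F ⟨v, hv⟩) hτA)

end Cfsg.Agent.H71
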