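import Mathlib
import Cfsg.Prelude.Def_LocalEven
import Cfsg.Agent.PGroups.MaxAbelian
import Cfsg.Agent.Coprime.Basic

/-!
A section isomorphic to `C_p ≀ C_p` from an element of an elementary abelian normal subgroup with
nontrivial norm.
-/

set_option autoImplicit false
set_option linter.style.haveILetI false

namespace Cfsg.Agent.H71

open Subgroup
open scoped IsMulCommutative

/-- The shape of `C_p ≀ C_p`. -/
def IsWreathShape (p : ℕ) (W : Type) [Group W] : Prop :=
  ∃ (B : Subgroup W) (t : W), B.Normal ∧ IsMulCommutative B ∧ (∀ b ∈ B, b ^ p = 1) ∧ Nat.card B = p ^ p ∧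
    orderOf t = p ∧ t ∉ B ∧ Nat.card W = p ^ (p + 1) ∧ Nat.card ↥(B ⊓ Subgroup.centralizer ({t} : Set W)) = p

/-- A surjection from a subgroup gives an involvement. -/
theorem involves_of_surjective {G W : Type*} [Group G] [Group W] (K : Subgroup G) (g : K →* W)
    (hg : Function.Surjective g) : Cfsg.Involves W G := by
  have e : (g.ker.map K.subtype).subgroupOf K = g.ker :=
    Subgroup.comap_map_eq_self_of_injective K.subtype_injective _
  refine ⟨K, g.ker.map K.subtype, e.symm ▸ inferInstance, ⟨?_⟩⟩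
  haveI : ((g.ker.map K.subtype).subgroupOf K).Normal := e.symm ▸ inferInstance
  exact (QuotientGroup.quotientMulEquivOfEq e).trans (QuotientGroup.quotientKerEquivOfSurjective g hg)

/-- A shift-invariant space of functions on `ZMod p` containing a function of nonzero total is everything. -/
theorem shift_invariant_eq_top {p : ℕ} [Fact p.Prime] (R : Submodule (ZMod p) (ZMod p → ZMod p))
    (hR : ∀ v ∈ R, (fun i => v (i + 1)) ∈ R) {v : ZMod p → ZMod p} (hv : v ∈ R)
    (hsum : ∑ j ∈ Finset.range p, v (j : ZMod p) ≠ 0) : R = ⊤ := by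
  have hp : p.Prime := Fact.out
  let S : Module.End (ZMod p) (ZMod p → ZMod p) := LinearMap.funLeft (ZMod p) (ZMod p) (fun i => i + 1)
  have hS : ∀ (j : ℕ) (w : ZMod p → ZMod p) i, (S ^ j) w i = w (i + j) := by
    intro j
    induction j with
    | zero => intro w i; simp
    | succ j ih =>
      intro w i
      rw [pow_succ', Module.End.mul_apply]
      show (S ^ j) w (i + 1) = _
      rw [ih]; push_cast; ring_nf
  haveI : Nontrivial (Module.End (ZMod p) (ZMod p → ZMod p)) := inferInstance
  haveI : CharP (Module.End (ZMod p) (ZMod p → ZMod p)) p :=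
    charP_of_injective_algebraMap (algebraMap (ZMod p) (Module.End (ZMod p) (ZMod p → ZMod p))).injective p
  have hA : (S - 1) ^ p = 0 := by
    rw [sub_pow_char_of_commute (p := p) (Commute.one_right S), one_pow, sub_eq_zero]
    refine LinearMap.ext fun w => funext fun i => ?_
    rw [hS, ZMod.natCast_self, add_zero]
    rfl
  have hB : (S - 1) ^ (p - 1) = ∑ j ∈ Finset.range p, S ^ j := by
    have hpoly : ((Polynomial.X : Polynomial (ZMod p)) - 1) ^ (p - 1) =
        ∑ i ∈ Finset.range p, Polynomial.X ^ i := by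
      refine mul_right_cancel₀ (b := (Polynomial.X : Polynomial (ZMod p)) - 1) (Polynomial.X_sub_C_ne_zero 1) ?_
      rw [geom_sum_mul, ← pow_succ, Nat.sub_add_cancel hp.one_le, sub_pow_char, one_pow]
    simpa using congrArg (Polynomial.aeval S) hpoly
  set A := S - 1 with hAdef
  have hge : ∀ m, p ≤ m → A ^ m = 0 := fun m hm => by
    rw [← Nat.sub_add_cancel hm, pow_add, hA, mul_zero]
  have htop : (A ^ (p - 1)) v ≠ 0 := by
    intro h
    refine hsum ?_
    have h0 := congrFun h 0
    rw [hB, LinearMap.sum_apply, Finset.sum_apply] at h0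
    simpa [hS] using h0
  have hli : LinearIndependent (ZMod p) (fun j : Fin p => (A ^ (j : ℕ)) v) := by
    refine Fintype.linearIndependent_iff.mpr fun c hc => ?_
    suffices ∀ m : ℕ, ∀ hm : m < p, c ⟨m, hm⟩ = 0 from fun j => this j j.2
    intro m
    induction m using Nat.strong_induction_on with
    | _ m ih =>
      intro hm
      have h := congrArg (A ^ (p - 1 - m)) hc
      simp only [map_sum, map_smul, ← Module.End.mul_apply, ← pow_add, map_zero] at h
      rw [Finset.sum_eq_single ⟨m, hm⟩] at h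
      · rw [show p - 1 - m + m = p - 1 by omega] at h
        exact (smul_eq_zero.mp h).resolve_right htop
      · rintro ⟨i, hi⟩ - hne
        rcases lt_or_gt_of_ne (fun h' : i = m => hne (Fin.ext h')) with hlt | hgt
        · rw [ih i hlt hi, zero_smul]
        · rw [hge _ (by show p ≤ p - 1 - m + i; omega), LinearMap.zero_apply, smul_zero]
      · exact fun h' => absurd (Finset.mem_univ _) h'
  have hmem : ∀ j : ℕ, (A ^ j) v ∈ R := by
    intro j
    induction j with
    | zero => simpa using hv
    | succ j ih => rw [pow_succ', Module.End.mul_apply]; exact R.sub_mem (hR _ ih) ih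
  rw [eq_top_iff, ← hli.span_eq_top_of_card_eq_finrank (by simp), Submodule.span_le]
  rintro _ ⟨j, rfl⟩
  exact hmem j

universe u

/-- `C_p ≀ C_p` is involved as soon as some norm is nontrivial. -/
theorem exists_wreath_section {H : Type u} [Group H] [Finite H] {p : ℕ} [Fact p.Prime] (N : Subgroup H)
    [N.Normal] [IsMulCommutative N] (hexp : ∀ v ∈ N, v ^ p = 1) (x : H) (hgen : N ⊔ zpowers x = ⊤)
    (hxN : x ∉ N) (hxp : x ^ p ∈ N) (u : N)
    (hu : ∏ i ∈ Finset.range p, (MulAut.conjNormal (x ^ i) : MulAut N) u ≠ 1) :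
    ∃ (W : Type) (_ : Group W) (_ : Finite W) (g : H →* W), IsWreathShape p W ∧ Function.Surjective g := by
  classical
  have hp : p.Prime := Fact.out
  have hexp' : ∀ w : Additive N, p • w = 0 := fun w => by
    induction w using Additive.rec with
    | _ a => exact congrArg Additive.ofMul (Subtype.ext (hexp a a.2) : a ^ p = 1)
  let _ : Module (ZMod p) (Additive N) := AddCommGroup.zmodModule hexp'
  set U := ∏ i ∈ Finset.range p, (MulAut.conjNormal (x ^ i) : MulAut N) u with hU
  have hU1 : Additive.ofMul U ≠ 0 := fun e => hu e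
  obtain ⟨ν, hν⟩ : ∃ ν : Additive N →+ ZMod p, ν (Additive.ofMul U) ≠ 0 := by
    obtain ⟨φ, hφ⟩ : ∃ φ : Module.Dual (ZMod p) (Additive N), φ.toAddMonoidHom (Additive.ofMul U) ≠ 0 := by
      by_contra hc
      push Not at hc
      exact hU1 ((Module.forall_dual_apply_eq_zero_iff (ZMod p) _).mp hc)
    exact ⟨φ.toAddMonoidHom, hφ⟩
  -- conjugation
  let c : H →* MulAut N := MulAut.conjNormal
  have hcN : ∀ a : N, c (a : H) = 1 := fun a => MulEquiv.ext fun b => Subtype.ext (by
    show (a : H) * b * (a : H)⁻¹ = b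
    rw [← Subgroup.coe_mul, mul_comm a b, Subgroup.coe_mul, mul_inv_cancel_right])
  have hper : ∀ j : ℕ, c (x ^ j) = c (x ^ (j % p)) := fun j => by
    conv_lhs => rw [← Nat.mod_add_div j p, pow_add, map_mul, pow_mul, map_pow c (x ^ p),
      hcN ⟨_, hxp⟩, one_pow, mul_one]
  have hsh : ∀ i : ZMod p, ∀ a : N, c (x ^ (i + 1).val) a = c (x ^ i.val) (c x a) := fun i a => by
    rw [← MulAut.mul_apply, ← map_mul, ← pow_succ, hper (i.val + 1), ZMod.val_add, ZMod.val_one]
  let f : Additive N →+ (ZMod p → ZMod p) :=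
    { toFun := fun a i => ν (Additive.ofMul (c (x ^ i.val) a.toMul))
      map_zero' := funext fun i => by simp
      map_add' := fun a b => funext fun i => by simp }
  have hfs : ∀ (a : N) i, f (Additive.ofMul (c x a)) i = f (Additive.ofMul a) (i + 1) := fun a i => by
    show ν (Additive.ofMul (c (x ^ i.val) (c x a))) = ν (Additive.ofMul (c (x ^ (i + 1).val) a))
    rw [hsh]
  have hfsum : ∑ j ∈ Finset.range p, f (Additive.ofMul u) (j : ZMod p) = ν (Additive.ofMul U) := by
    rw [hU, ofMul_prod, map_sum]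
    refine Finset.sum_congr rfl fun j hj => ?_
    show ν (Additive.ofMul (c (x ^ (j : ZMod p).val) u)) = _
    rw [ZMod.val_natCast_of_lt (Finset.mem_range.mp hj)]
  have hfsurj : Function.Surjective f := by
    intro w
    let R : Submodule (ZMod p) (ZMod p → ZMod p) :=
      LinearMap.range ({ toFun := f, map_add' := f.map_add, map_smul' := fun r a => ZMod.map_smul f r a } :
        Additive N →ₗ[ZMod p] (ZMod p → ZMod p))
    have hR : R = ⊤ := shift_invariant_eq_top R
      (by rintro _ ⟨a, rfl⟩; exact ⟨Additive.ofMul (c x a.toMul), funext fun i => hfs a.toMul i⟩)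
      (v := f (Additive.ofMul u)) ⟨_, rfl⟩ (hfsum ▸ hν)
    exact (hR ▸ Submodule.mem_top : w ∈ R)
  -- the kernel
  let g : N →* Multiplicative (ZMod p → ZMod p) := AddMonoidHom.toMultiplicativeRight f
  have hg : ∀ a, a ∈ g.ker ↔ f (Additive.ofMul a) = 0 := fun a => Iff.rfl
  set M := g.ker.map N.subtype with hM
  have hinvx : ∀ a ∈ g.ker, c x a ∈ g.ker := fun a ha => (hg _).mpr (funext fun i => by
    rw [hfs, (hg a).mp ha]; rfl)
  have hMn : M.Normal := Subgroup.normalizer_eq_top_iff.mp (eq_top_iff.mpr (hgen ▸ sup_le ?_ (zpowers_le.mpr ?_)))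
  rotate_left
  · intro a ha
    refine Coprime.mem_normalizer_of_map_conj ?_
    rw [hM, Subgroup.map_map]
    refine congrArg (Subgroup.map · g.ker) (MonoidHom.ext fun b => ?_)
    exact congrArg Subtype.val (MulEquiv.congr_fun (hcN ⟨a, ha⟩) b)
  · refine Coprime.mem_normalizer_of_map_conj (eq_of_le_of_card_ge ?_
      (Subgroup.card_map_of_injective (MulAut.conj x).injective).ge)
    rintro _ ⟨_, ⟨a, ha, rfl⟩, rfl⟩
    exact ⟨c x a, hinvx a ha, rfl⟩
  haveI : M.Normal := hMn
  have hMmem : ∀ a : N, (a : H) ∈ M ↔ f (Additive.ofMul a) = 0 := fun a => by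
    rw [hM, ← hg]; exact Subgroup.mem_map_iff_mem N.subtype_injective
  -- adjust `x`
  have hfix : ∀ b : N, c x b = b → ∀ i, f (Additive.ofMul b) i = ν (Additive.ofMul b) := fun b hb i => by
    have : ∀ j : ℕ, c (x ^ j) b = b := by
      intro j
      induction j with
      | zero => simp
      | succ j ih => rw [pow_succ, map_mul, MulAut.mul_apply, hb, ih]
    show ν (Additive.ofMul (c (x ^ i.val) b)) = _
    rw [this]
  have hUfix : c x U = U := by
    rw [hU, map_prod]
    simp only [← MulAut.mul_apply, ← map_mul, ← pow_succ', c]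
    have h2 := Finset.prod_range_succ' (fun j => (MulAut.conjNormal (x ^ j) : MulAut N) u) p
    rw [Finset.prod_range_succ] at h2
    have h3 : (MulAut.conjNormal (x ^ p) : MulAut N) u = (MulAut.conjNormal (x ^ 0) : MulAut N) u := by
      have := congrArg (fun F : MulAut N => F u) (hper p)
      rwa [Nat.mod_self] at this
    rw [h3] at h2
    exact (mul_right_cancel h2).symm
  let b0 : N := ⟨x ^ p, hxp⟩
  have hb0 : c x b0 = b0 := Subtype.ext (by
    show x * x ^ p * x⁻¹ = x ^ p
    rw [(Commute.self_pow x p).eq, mul_inv_cancel_right])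
  set μ := ν (Additive.ofMul U) with hμ
  set l : ℕ := (-(ν (Additive.ofMul b0)) * μ⁻¹).val with hl
  -- the group
  let π := QuotientGroup.mk' M
  haveI : Small.{0} (H ⧸ M) := inferInstance
  let e : (H ⧸ M) ≃* Shrink.{0} (H ⧸ M) := Shrink.mulEquiv.symm
  let G0 : H →* Shrink.{0} (H ⧸ M) := e.toMonoidHom.comp π
  have hG0s : Function.Surjective G0 := e.surjective.comp (QuotientGroup.mk'_surjective M)
  have hG0 : ∀ h, G0 h = 1 ↔ h ∈ M := fun h => by
    show e (π h) = 1 ↔ _
    rw [MulEquiv.map_eq_one_iff]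
    exact QuotientGroup.eq_one_iff h
  let B := N.map G0
  let t := G0 (((u ^ l : N) : H) * x)
  have hMN : M ≤ N := map_subtype_le _
  have hkerG0 : G0.ker = M := by ext h; exact hG0 h
  have htB : t ∉ B := fun h => by
    have h1 : ((u ^ l : N) : H) * x ∈ (N.map G0).comap G0 := h
    rw [Subgroup.comap_map_eq_self (hkerG0.le.trans hMN)] at h1
    exact hxN ((N.mul_mem_cancel_left (u ^ l).2).mp h1)
  have hprod : ∀ (a : N) (m : ℕ), ((a : H) * x) ^ m =
      ((∏ i ∈ Finset.range m, c (x ^ i) a : N) : H) * x ^ m := by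
    intro a m
    induction m with
    | zero => simp
    | succ m ih =>
      rw [pow_succ, ih, Finset.prod_range_succ, Subgroup.coe_mul, MulAut.conjNormal_apply, pow_succ]
      group
  have htp : t ^ p = 1 := by
    rw [← map_pow, hG0, hprod]
    have e1 : (∏ i ∈ Finset.range p, c (x ^ i) (u ^ l)) = U ^ l := by
      rw [hU, ← Finset.prod_pow]; exact Finset.prod_congr rfl fun i _ => map_pow _ _ _
    rw [e1, show ((U ^ l : N) : H) * x ^ p = ((U ^ l * b0 : N) : H) from rfl, hMmem]
    refine funext fun i => ?_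
    rw [ofMul_mul, map_add, ofMul_pow, map_nsmul]
    simp only [Pi.add_apply, Pi.mul_apply, Pi.natCast_apply, hfix U hUfix, hfix b0 hb0, nsmul_eq_mul, ← hμ, Pi.zero_apply]
    rw [hl, ZMod.natCast_zmod_val, mul_assoc, inv_mul_cancel₀ hν, mul_one, neg_add_cancel]
  have hcardB : Nat.card B = p ^ p := by
    let h1 : N →* Shrink.{0} (H ⧸ M) := G0.comp N.subtype
    have hr : h1.range = B := MonoidHom.range_comp _ _ |>.trans (by rw [Subgroup.range_subtype])
    have hk : h1.ker = g.ker := by ext a; exact (hG0 a).trans ((hMmem a).trans (hg a).symm)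
    rw [← hr, ← Subgroup.index_ker, hk, Subgroup.index_ker,
      MonoidHom.range_eq_top.mpr (show Function.Surjective g from hfsurj), Subgroup.card_top]
    simp
  have hBn : B.Normal := Subgroup.Normal.map inferInstance _ hG0s
  have hBc : IsMulCommutative B := PGroups.isMulCommutative_of_comm (by
    rintro _ ⟨a, ha, rfl⟩ _ ⟨b, hb, rfl⟩
    rw [← map_mul, ← map_mul]
    exact congrArg G0 (congrArg Subtype.val (mul_comm (⟨a, ha⟩ : N) ⟨b, hb⟩)))
  have hBexp : ∀ b ∈ B, b ^ p = 1 := by
    rintro _ ⟨a, ha, rfl⟩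
    rw [← map_pow, hexp a ha, map_one]
  have hcardW : Nat.card (Shrink.{0} (H ⧸ M)) = p ^ (p + 1) := by
    rw [← B.card_mul_index, hcardB, pow_succ, Subgroup.index_map_eq _ hG0s (hkerG0.le.trans hMN)]
    congr 1
    let q := QuotientGroup.mk' N
    have hz : zpowers (q x) = ⊤ := by
      rw [← MonoidHom.map_zpowers, eq_top_iff, ← Subgroup.map_top_of_surjective q (QuotientGroup.mk'_surjective N),
        ← hgen, Subgroup.map_sup, QuotientGroup.map_mk'_self, bot_sup_eq]
    rw [Subgroup.index, ← Subgroup.card_top, ← hz, Nat.card_zpowers]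
    refine orderOf_eq_prime ?_ fun h => hxN ((QuotientGroup.eq_one_iff x).mp h)
    rw [← map_pow]; exact (QuotientGroup.eq_one_iff _).mpr hxp
  have hcen : B ⊓ centralizer ({t} : Set (Shrink.{0} (H ⧸ M))) = zpowers (G0 U) := by
    refine le_antisymm ?_ (zpowers_le.mpr ⟨mem_map_of_mem _ U.2, ?_⟩)
    · rintro _ ⟨⟨a, ha, rfl⟩, hct⟩
      replace hct := mem_centralizer_singleton_iff.mp hct
      rw [← map_mul, ← map_mul] at hct
      set a' : N := ⟨a, ha⟩
      have hd : f (Additive.ofMul (c x a')) = f (Additive.ofMul a') := by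
        have h1 : G0 (((c x a' * a'⁻¹ : N) : H)) = 1 := by
          have e2 : ((c x a' * a'⁻¹ : N) : H) =
              ((u ^ l : N) : H)⁻¹ * (((u ^ l : N) : H) * x * a) * (((u ^ l : N) : H) * x)⁻¹ * ((u ^ l : N) : H) * a⁻¹ := by
            show x * a * x⁻¹ * a⁻¹ = _
            group
          rw [e2, map_mul, map_mul, map_mul, map_mul, ← hct, ← map_mul, ← map_mul, ← map_mul, ← map_mul,
            show ((u ^ l : N) : H)⁻¹ * (a * (((u ^ l : N) : H) * x)) * (((u ^ l : N) : H) * x)⁻¹ * ((u ^ l : N) : H) * a⁻¹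
              = ((u ^ l : N) : H)⁻¹ * (a * ((u ^ l : N) : H)) * a⁻¹ by group,
            show a * ((u ^ l : N) : H) = ((u ^ l : N) : H) * a from congrArg Subtype.val (mul_comm a' (u ^ l))]
          rw [inv_mul_cancel_left, mul_inv_cancel, map_one]
        have h2 := (hMmem _).mp ((hG0 _).mp h1)
        rwa [ofMul_mul, ofMul_inv, map_add, map_neg, ← sub_eq_add_neg, sub_eq_zero] at h2
      set κ := f (Additive.ofMul a') 0 with hκ
      have hconst : ∀ j : ℕ, f (Additive.ofMul a') (j : ZMod p) = κ := by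
        intro j
        induction j with
        | zero => simp [κ]
        | succ j ih => rw [Nat.cast_succ, ← hfs, hd, ih]
      refine mem_zpowers_iff.mpr ⟨((κ * μ⁻¹).val : ℤ), ?_⟩
      rw [zpow_natCast, ← map_pow]
      have h3 : (((U ^ (κ * μ⁻¹).val * a'⁻¹ : N) : N) : H) ∈ M := (hMmem _).mpr (funext fun i => by
        rw [ofMul_mul, ofMul_inv, ofMul_pow, map_add, map_neg, map_nsmul]
        simp only [Pi.add_apply, Pi.neg_apply, Pi.mul_apply, Pi.natCast_apply, hfix U hUfix, nsmul_eq_mul, ← hμ, Pi.zero_apply,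
          ZMod.natCast_zmod_val]
        rw [← ZMod.natCast_zmod_val i, hconst, mul_assoc, inv_mul_cancel₀ hν, mul_one, add_neg_cancel])
      have h4 := (hG0 _).mpr h3
      rw [Subgroup.coe_mul, Subgroup.coe_inv, map_mul, map_inv, mul_inv_eq_one] at h4
      exact h4
    · refine mem_centralizer_singleton_iff.mpr ?_
      rw [← map_mul, ← map_mul]
      refine congrArg G0 ?_
      have h5 : (((u ^ l : N) : H)) * (U : H) = (U : H) * ((u ^ l : N) : H) := congrArg Subtype.val (mul_comm (u ^ l) U)
      have h6 : x * (U : H) = (U : H) * x := mul_inv_eq_iff_eq_mul.mp (congrArg Subtype.val hUfix)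
      rw [← mul_assoc, ← h5, mul_assoc, ← h6, mul_assoc]
  refine ⟨_, inferInstance, inferInstance, G0, ⟨B, t, hBn, hBc, hBexp, hcardB,
    orderOf_eq_prime htp (fun h => htB (h ▸ B.one_mem)), htB, hcardW, ?_⟩, hG0s⟩
  rw [hcen, Nat.card_zpowers]
  refine orderOf_eq_prime (hBexp _ (mem_map_of_mem _ U.2)) fun h => ?_
  have h1 := congrFun ((hMmem U).mp ((hG0 _).mp h)) 0
  rw [hfix U hUfix] at h1
  exact hν h1

end Cfsg.Agent.H71
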